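import Groth.Agent.AlgSt.K750.AutSch
import Groth.Agent.S10127
import Groth.Agent.S10350
import Groth.Agent.AlgSt.K741.FlatDesc
import Groth.Agent.AlgSt.K738.LftDiag
import Groth.Agent.AlgSp.K636.QcqsOver
import Groth.Agent.AlgSp.K605.LfpLim

/-!
# The stabilizer of a field-valued point is a group scheme
-/

set_option autoImplicit false
set_option backward.isDefEq.respectTransparency false
set_option backward.isDefEq.respectTransparency.types false

universe w v u

open CategoryTheory CategoryTheory.Limits AlgebraicGeometry Opposite MonoidalCategory CartesianMonoidalCategory MonObj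
open AlgSp

namespace K750.AutSch

open K739.Psh K739.Isom K739.Diag K595 K595.ChBase K902.Slice

section Grp

variable {W : Scheme.{u}} {X₀ : Sp W} (z₀ : X₀ ⟶ (yon W).obj (Over.mk (𝟙 W))) (B : Over W → Type u) [∀ V, Group (B V)]
  (res : ∀ {V' V : Over W} (_ : V' ⟶ V), B V →* B V')
  (ρ : ∀ V : Over W, ((yon W).obj V ⟶ X₀) ≃ B V)
  (hρ : ∀ {V' V : Over W} (g : V' ⟶ V) (k : (yon W).obj V ⟶ X₀), ρ V' ((yon W).map g ≫ k) = res g (ρ V k))

/-- morphisms over the terminal sheaf -/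
noncomputable def overEquiv (s : (AlgSt.ofSp ((yon W).obj (Over.mk (𝟙 W)))).obj) :
    (K895.GrpSh.hh s ⟶ Over.mk z₀) ≃ ((yon W).obj s.base ⟶ X₀) where
  toFun k := k.left
  invFun k := Over.homMk k ((K596.QC2.isTerminalYon W).hom_ext _ _)
  left_inv k := by
    apply Over.OverMorphism.ext
    rfl
  right_inv k := rfl

include ρ hρ in
theorem exists_grpObj : Nonempty (GrpObj (Over.mk z₀)) := by
  obtain ⟨G, -⟩ := K895.GrpSh.exists_grpObj (B := (yon W).obj (Over.mk (𝟙 W))) (A := fun s => B s.base)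
    (res := fun {s s'} σ => res σ.hom) (G := Over.mk z₀) (fun s => (overEquiv z₀ s).trans (ρ s.base)) (by
      intro s s' σ k
      exact hρ σ.hom k.left)
  exact ⟨G⟩

end Grp

/-- Statement S10120. -/
def GrpRep : Prop := ∀ (k : Type u) [Field k] (G : Over ((AlgSp.yon (Spec (CommRingCat.of k))).obj (Over.mk (𝟙 _))))
  [GrpObj G] (_ : AlgSp.IsAlgSpace G.left) (_ : AlgSp.IsSeparatedSp G.left), G.left.obj.IsRepresentable

theorem isRepresentable_of_grp (H : GrpRep.{u}) (k : Type u) [Field k] {X₀ : Sp (Spec (CommRingCat.of k))} (hX₀ : IsAlgSpace X₀)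
    (z₀ : X₀ ⟶ (yon (Spec (CommRingCat.of k))).obj (Over.mk (𝟙 _))) (hq : IsQuasiSeparatedMor z₀)
    (hG : Nonempty (GrpObj (Over.mk z₀))) : X₀.obj.IsRepresentable := by
  obtain ⟨G⟩ := hG
  have : IsAffine (Over.mk (𝟙 (Spec (CommRingCat.of k)))).left := inferInstanceAs (IsAffine (Spec (CommRingCat.of k)))
  have h1 : IsQuasiSeparatedSp X₀ :=
    K636.QcqsOver.repWith_diag_of_diagonal (Y := (yon (Spec (CommRingCat.of k))).obj (Over.mk (𝟙 _))) hq
      K605.LfpLim.isQuasiSeparatedSp_yon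
  have h2 := Groth.Agent.S10350.result ⟨X₀, hX₀⟩ h1
  have h3 := Groth.Agent.S10127.result k (Over.mk z₀) hX₀ h2
  exact H k (Over.mk z₀) hX₀ h3

section Scheme

variable {S W : Scheme.{u}} (p : W ⟶ S) {𝒳 : BasedCategory.{u, w} (Over S)} (h𝒳 : FibCat.IsFibGrpd 𝒳.p)
  (x : FibCat.overCat (Over.mk p) ⥤ᵇ 𝒳)

/-- `Over W ⥤ Over (Over.mk p)` -/
def ioF : Over W ⥤ Over (Over.mk p) where
  obj V := io p V
  map g := im p g
  map_id V := im_id p V
  map_comp g h := im_comp p g h

variable {Z : Over W} (ε : ∀ V : Over W, (V ⟶ Z) ≃ Gerb.AutO (x.obj (io p V)))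
  (hε : ∀ {V' V : Over W} (g : V' ⟶ V) (a : V ⟶ Z), ε V' (g ≫ a) = AutGrp.res x h𝒳 (im p g) (ε V a))

/-- representability of the presheaf of groups -/
def repZ : (((ioF p).op ⋙ AutGrp.psh x h𝒳) ⋙ forget GrpCat).RepresentableBy Z where
  homEquiv {V} := ε V
  homEquiv_comp g a := hε g a

/-- comparison -/
def cc (T : Over (Over.mk p)) : io p (Over.mk T.hom.left) ⟶ T :=
  Over.homMk (Over.homMk (𝟙 _) (by
    have := Over.w T.hom
    change 𝟙 _ ≫ T.left.hom = T.hom.left ≫ p
    rw [Category.id_comp]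
    exact this.symm)) (by
    apply Over.OverMorphism.ext
    exact Category.id_comp _)

/-- comparison -/
def cc' (T : Over (Over.mk p)) : T ⟶ io p (Over.mk T.hom.left) :=
  Over.homMk (Over.homMk (𝟙 _) (by
    have := Over.w T.hom
    change 𝟙 _ ≫ T.hom.left ≫ p = T.left.hom
    rw [Category.id_comp]
    exact this)) (by
    apply Over.OverMorphism.ext
    exact Category.id_comp _)

theorem cc_cc' (T : Over (Over.mk p)) : cc p T ≫ cc' p T = 𝟙 _ := by
  apply Over.OverMorphism.ext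
  apply Over.OverMorphism.ext
  exact Category.id_comp _

theorem cc'_cc (T : Over (Over.mk p)) : cc' p T ≫ cc p T = 𝟙 _ := by
  apply Over.OverMorphism.ext
  apply Over.OverMorphism.ext
  exact Category.id_comp _

theorem cc'_nat {T' T : Over (Over.mk p)} (h : T' ⟶ T) :
    cc' p T' ≫ im p ((Over.iteratedSliceForward (Over.mk p)).map h) = h ≫ cc' p T := by
  apply Over.OverMorphism.ext
  apply Over.OverMorphism.ext
  change 𝟙 _ ≫ h.left.left = h.left.left ≫ 𝟙 _
  rw [Category.id_comp, Category.comp_id]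

include hε in
theorem exists_autRep : ∃ _ : GrpObj Z, Nonempty (Gerb.AutRep x (Gerb.ptsGrp (Over.mk p) Z)) := by
  refine ⟨GrpObj.ofRepresentableBy Z _ (repZ p h𝒳 x ε hε), ⟨?_⟩⟩
  letI := GrpObj.ofRepresentableBy Z _ (repZ p h𝒳 x ε hε)
  have hmul : ∀ {V : Over W} (a b : V ⟶ Z), ε V (a * b) = ε V a * ε V b := fun {V} a b =>
    K731.RepPts.homEquiv_mul _ (repZ p h𝒳 x ε hε) a b
  exact
    { iso := fun T =>
        { toFun := fun a => AutGrp.res x h𝒳 (cc' p T) (ε (Over.mk T.hom.left) a)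
          invFun := fun α => (ε (Over.mk T.hom.left)).symm (AutGrp.res x h𝒳 (cc p T) α)
          left_inv := fun a => by
            dsimp only
            rw [← AutGrp.res_comp, cc_cc', AutGrp.res_id, Equiv.symm_apply_apply]
          right_inv := fun α => by
            dsimp only
            rw [Equiv.apply_symm_apply, ← AutGrp.res_comp, cc'_cc, AutGrp.res_id]
          map_mul' := fun a b => by
            have h1 := hmul (V := Over.mk T.hom.left) a b
            have h2 := (AutGrp.resHom x h𝒳 (cc' p T)).map_mul (ε (Over.mk T.hom.left) a) (ε (Over.mk T.hom.left) b)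
            exact (congrArg (AutGrp.res x h𝒳 (cc' p T)) h1).trans h2 }
      natural := fun {T' T} h a => by
        have h1 : AutGrp.res x h𝒳 (cc' p T') (ε (Over.mk T'.hom.left)
            ((Over.iteratedSliceForward (Over.mk p)).map h ≫ a)) =
            AutGrp.res x h𝒳 h (AutGrp.res x h𝒳 (cc' p T) (ε (Over.mk T.hom.left) a)) := by
          erw [hε]
          erw [← AutGrp.res_comp, cc'_nat, AutGrp.res_comp]
          rfl
        have h2 := AutGrp.res_spec x h𝒳 h (AutGrp.res x h𝒳 (cc' p T) (ε (Over.mk T.hom.left) a))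
        rw [← h1] at h2
        exact h2 }

end Scheme

theorem symm_map {W : Scheme.{u}} {F : Sp W} {V V' : Over W} (g : V' ⟶ V) (s : F.obj.obj (op V)) :
    (yon W).map g ≫ (J W).uliftYonedaEquiv.symm s = (J W).uliftYonedaEquiv.symm (F.obj.map g.op s) := by
  rw [Equiv.eq_symm_apply]
  have h := (GrothendieckTopology.uliftYonedaEquiv_naturality.{u + 1} (J W) ((J W).uliftYonedaEquiv.symm s) g)
  rw [Equiv.apply_symm_apply] at h
  exact h.symm

theorem locP_lft_left {S : Scheme.{u}} {F G F' G' : Sp S} {f : F ⟶ G} {f' : F' ⟶ G'} (a : F ≅ F') (b : G ≅ G')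
    (w : a.hom ≫ f' = f ≫ b.hom) (h : LocP @LocallyOfFiniteType f) : LocP @LocallyOfFiniteType f' := by
  have h1 : f' = a.inv ≫ f ≫ b.hom := by rw [← w, Iso.inv_hom_id_assoc]
  rw [h1]
  exact MorphismProperty.RespectsIso.precomp _ _ _ (MorphismProperty.RespectsIso.postcomp _ _ _ h)

theorem main (H : GrpRep.{u}) {S : Scheme.{u}} {𝒳 : BasedCategory.{u, w} (Over S)} {K' : Precoverage Scheme.{u}}
    (h𝒳 : AlgSt.IsAlgStack K' 𝒳)
    (hΔ : AlgSt.RepByAlgSpWith AlgSp.IsQuasiSeparatedMor (FibCat.diag (FibCat.toSelf 𝒳)))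
    (K : Type u) [Field K] (p : Spec (CommRingCat.of K) ⟶ S)
    (x : FibCat.overCat (Over.mk p) ⥤ᵇ 𝒳) :
    ∃ (G : Over (Spec (CommRingCat.of K))) (_ : GrpObj G),
      LocallyOfFiniteType G.hom ∧ Nonempty (Gerb.AutRep x (Gerb.ptsGrp (Over.mk p) G)) := by
  have hX : FibCat.IsFibGrpd 𝒳.p := h𝒳.isStack.1
  have hS : FibCat.IsFibGrpd (FibCat.selfOver (Over S)).p := K735.Fp.isFibGrpd_selfOver
  have h1 := (repByAlgSpWith_diag_iff _ _ hX hS).1 hΔ (Over.mk p) x x (φ₀ p x)
  have h2 := (repByAlgSpWith_diag_iff _ _ hX hS).1 (K738.Lft.repByAlgSpWith_lft_diag_toSelf h𝒳) (Over.mk p) x x (φ₀ p x)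
  rw [K739.Rep.repPsh_iff (fun X X' Y _ _ _ i a ha => MorphismProperty.RespectsIso.precomp _ i.hom a ha)] at h1
  rw [K739.Rep.repPsh_iff (fun X X' Y _ _ _ i a ha => MorphismProperty.RespectsIso.precomp _ i.hom a ha)] at h2
  obtain ⟨hsh, hA, hq⟩ := h1
  obtain ⟨_, _, hl⟩ := h2
  obtain ⟨X₀, hX₀, z₀, e, j, hj, hj'⟩ := K601.RelChow.exists_slice (V := Over.mk p) hA
    (qq hX x hS hsh)
  let ρ := autEquiv hX x hS hsh e j hj hj'
  have hG := exists_grpObj z₀ (fun V => Gerb.AutO (x.obj (io p V))) (fun g => AutGrp.resHom x hX (im p g)) ρ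
    (fun g k => autEquiv_map hX x hS hsh e j hj hj' g k)
  have w : e.hom ≫ qq hX x hS hsh = (L p).map z₀ ≫ j.hom := hj
  have hq0 : IsQuasiSeparatedMor z₀ := by
    rw [← isQuasiSeparatedMor_L_iff (g := p)]
    have sq : IsPullback e.hom ((L p).map z₀) (qq hX x hS hsh) j.hom := IsPullback.of_horiz_isIso ⟨w⟩
    exact K595.DiagRel.isQuasiSeparatedMor_isStableUnderBaseChange.of_isPullback sq hq
  have hl0 : LocP @LocallyOfFiniteType z₀ := by
    rw [← locP_L_iff (g := p)]
    exact locP_lft_left e.symm j.symm (by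
      change e.inv ≫ (L p).map z₀ = _
      rw [Iso.inv_comp_eq, ← Category.assoc, w]
      simp) hl
  have hrep : X₀.obj.IsRepresentable := isRepresentable_of_grp H K hX₀ z₀ hq0 hG
  obtain ⟨Z, ⟨r⟩⟩ := hrep
  let ε : ∀ V : Over (Spec (CommRingCat.of K)), (V ⟶ Z) ≃ Gerb.AutO (x.obj (io p V)) := fun V =>
    (r.homEquiv (X := V)).trans ((J (Spec (CommRingCat.of K))).uliftYonedaEquiv.symm.trans (ρ V))
  have hε : ∀ {V' V : Over (Spec (CommRingCat.of K))} (g : V' ⟶ V) (a : V ⟶ Z),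
      ε V' (g ≫ a) = AutGrp.res x hX (im p g) (ε V a) := by
    intro V' V g a
    change ρ V' ((J _).uliftYonedaEquiv.symm (r.homEquiv (g ≫ a))) = AutGrp.res x hX (im p g)
      (ρ V ((J _).uliftYonedaEquiv.symm (r.homEquiv a)))
    rw [r.homEquiv_comp]
    have h3 := autEquiv_map hX x hS hsh e j hj hj' g ((J (Spec (CommRingCat.of K))).uliftYonedaEquiv.symm (r.homEquiv a))
    have h4 : (yon (Spec (CommRingCat.of K))).map g ≫ (J (Spec (CommRingCat.of K))).uliftYonedaEquiv.symm (r.homEquiv a) =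
        (J (Spec (CommRingCat.of K))).uliftYonedaEquiv.symm (X₀.obj.map g.op (r.homEquiv a)) := by
      exact symm_map g _
    rw [← h4]
    exact h3
  obtain ⟨GZ, hZ⟩ := exists_autRep p hX x ε hε
  refine ⟨Z, GZ, ?_, hZ⟩
  let iZ : (yon (Spec (CommRingCat.of K))).obj Z ≅ X₀ := (fullyFaithfulSheafToPresheaf (J _) _).preimageIso
    (X := (yon (Spec (CommRingCat.of K))).obj Z) (Y := X₀) (Functor.RepresentableBy.equivUliftYonedaIso X₀.obj Z r)
  let m : Z ⟶ Over.mk (𝟙 (Spec (CommRingCat.of K))) := Over.homMk Z.hom (Category.comp_id _)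
  exact K741.locP_yon_left (h := m) (locP_lft_left iZ.symm (Iso.refl _)
    ((K596.QC2.isTerminalYon _).hom_ext _ _) hl0)

end K750.AutSch
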