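import Groth.Agent.AlgSt.K750.Fam
import Groth.Agent.Sga3.H828.FpqcRep2
import Mathlib.AlgebraicGeometry.Sites.Fpqc
import Mathlib.CategoryTheory.ShrinkYoneda
import Mathlib.CategoryTheory.Sites.SubcanonicalOver

/-!
# Descent of quasi-affine schemes along an fpqc covering sieve

`exists_descent`: a cartesian diagram of quasi-affine schemes over the arrows of an fpqc covering sieve `R` of `U : Over S`
descends to a scheme over `U`.
-/

set_option autoImplicit false
set_option backward.isDefEq.respectTransparency false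
set_option backward.isDefEq.respectTransparency.types false

universe w u

open CategoryTheory CategoryTheory.Limits AlgebraicGeometry Opposite K750.Fam
open Groth.Agent.Desc.SecFunctor Groth.Agent.Desc.SecPresheaf Groth.Agent.Picfga.OverRep

namespace K750.AffDesc

variable {S : Scheme.{u}} {U : Over S} {R : Sieve U} {𝒟 : Dat R}

/-- elementary gluing of compatible families for a family of arrows which is an fpqc covering -/
theorem glue_arrows {W : Over U} {ι : Type w} {V : ι → Over U} (g : ∀ i, V i ⟶ W)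
    (hg : Sieve.ofArrows (fun i => (V i).left.left) (fun i => (g i).left.left) ∈ Scheme.fpqcTopology W.left.left)
    (x : ∀ i, Fm 𝒟 (V i))
    (hx : ∀ (i j : ι) (Z : Over U) (a : Z ⟶ V i) (b : Z ⟶ V j), a ≫ g i = b ≫ g j → (x i).res a = (x j).res b) :
    ∃! y : Fm 𝒟 W, ∀ i, y.res (g i) = x i := by
  have hT : Sieve.overEquiv W (Sieve.ofArrows V g) ∈ (Scheme.fpqcTopology.over S) W.left := by
    rw [Sieve.overEquiv_ofArrows, GrothendieckTopology.mem_over_iff, Sieve.overEquiv_ofArrows]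
    exact hg
  have h1 := isSheafFor (J := Scheme.fpqcTopology.over S) (𝒟 := 𝒟) (Sieve.ofArrows V g) hT
  have h2 : Presieve.IsSheafFor (fun₀ 𝒟) (Presieve.ofArrows V g) := by
    rw [Presieve.isSheafFor_iff_generate]
    exact h1
  rw [Presieve.isSheafFor_arrows_iff] at h2
  exact h2 x hx

variable (U) in
/-- schemes over `U.left` as objects over `U` -/
abbrev inc : Over U.left ⥤ Over U := Over.iteratedSliceBackward U

/-- every object over `U` comes from a scheme over `U.left` -/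
def toInc (Z : Over U) : Z ⟶ (inc U).obj (Over.mk Z.hom.left) :=
  Over.homMk (Over.homMk (𝟙 _) (by
    change 𝟙 _ ≫ Z.hom.left ≫ U.hom = _
    rw [Category.id_comp]
    exact Over.w Z.hom)) (by ext; exact Category.id_comp _)

/-- a morphism over `U` to an object coming from a scheme over `U.left` -/
theorem eq_toInc {Z : Over U} {T : Over U.left} (a : Z ⟶ (inc U).obj T) :
    a = toInc Z ≫ (inc U).map (Over.homMk a.left.left (by
      have := congrArg (fun z => z.left) (Over.w a)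
      exact this)) := by
  ext
  simp [toInc]

variable (𝒟) in
/-- the presheaf on schemes over `U.left` of compatible families -/
def F₀ : (Over U.left)ᵒᵖ ⥤ Type (u + 1) := (inc U).op ⋙ fun₀ 𝒟

/-- gluing for `F₀` -/
theorem glue_F₀ {T : Over U.left} {ι : Type w} {V : ι → Over U.left} (g : ∀ i, V i ⟶ T)
    (hg : Sieve.ofArrows (fun i => (V i).left) (fun i => (g i).left) ∈ Scheme.fpqcTopology T.left)
    (x : ∀ i, (F₀ 𝒟).obj (op (V i)))
    (hx : ∀ (i j : ι) (Z : Over U.left) (a : Z ⟶ V i) (b : Z ⟶ V j), a ≫ g i = b ≫ g j →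
      (F₀ 𝒟).map a.op (x i) = (F₀ 𝒟).map b.op (x j)) :
    ∃! y : (F₀ 𝒟).obj (op T), ∀ i, (F₀ 𝒟).map (g i).op y = x i := by
  refine glue_arrows (𝒟 := 𝒟) (fun i => (inc U).map (g i)) hg x ?_
  intro i j Z a b hab
  rw [eq_toInc a, eq_toInc b, Fm.res_comp, Fm.res_comp]
  congr 1
  refine hx i j (Over.mk Z.hom.left) _ _ ?_
  ext
  have := congrArg (fun z => z.left.left) hab
  simpa using this

theorem ofArrows_cov_mem {T : Over U.left} (𝒰 : Cov T) :
    Sieve.ofArrows (fun i => (𝒰.V i).left) (fun i => (𝒰.j i).left) ∈ Scheme.fpqcTopology T.left := by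
  apply Scheme.zariskiTopology_le_fpqcTopology
  exact Precoverage.generate_mem_toGrothendieck (𝒰.openCover.mem₀)

/-- `F₀` is a Zariski sheaf -/
theorem isZarSheaf_F₀ : IsZarSheaf (F₀ 𝒟) := by
  intro T 𝒰 x hx
  exact glue_F₀ (𝒟 := 𝒟) 𝒰.j (ofArrows_cov_mem 𝒰) x hx

/-- `F₀` satisfies descent for fpqc morphisms -/
theorem isDesc_F₀ {T' T : Over U.left} (g : T' ⟶ T) (h1 : Flat g.left) (h2 : Surjective g.left)
    (h3 : QuasiCompact g.left) : IsDesc (F₀ 𝒟) g := by
  have hg : Sieve.ofArrows (fun _ : PUnit.{1} => T'.left) (fun _ => g.left) ∈ Scheme.fpqcTopology T.left := by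
    have := Precoverage.generate_mem_toGrothendieck (Scheme.Hom.singleton_mem_fpqcPrecoverage g.left)
    rw [← Presieve.ofArrows_pUnit.{0}] at this
    exact this
  constructor
  · intro a b hab
    obtain ⟨y, -, hy⟩ := glue_F₀ (𝒟 := 𝒟) (fun _ : PUnit.{1} => g) hg (fun _ => (F₀ 𝒟).map g.op a) (by
      intro i j Z a' b' h
      rw [← Functor.map_comp_apply, ← Functor.map_comp_apply, ← op_comp, ← op_comp, h])
    rw [hy a (fun _ => rfl), hy b (fun _ => hab.symm)]
  · intro a ha
    obtain ⟨y, hy, -⟩ := glue_F₀ (𝒟 := 𝒟) (fun _ : PUnit.{1} => g) hg (fun _ => a) (by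
      intro i j Z a' b' h
      exact ha Z a' b' h)
    exact ⟨y, hy PUnit.unit⟩

/-- a small fpqc covering family inside a covering sieve -/
theorem exists_small_cover (hR : Sieve.overEquiv U R ∈ Scheme.fpqcTopology U.left) :
    ∃ (ι : Type u) (V : ι → Scheme.{u}) (f : ∀ i, V i ⟶ U.left),
      (∀ i, Sieve.overEquiv U R (f i)) ∧ (∀ i, Flat (f i)) ∧
      (∀ x : U.left, ∃ (i : ι) (v : V i), f i v = x) ∧
      Presieve.ofArrows V f ∈ Scheme.fpqcPrecoverage U.left ∧
      ∀ W : U.left.Opens, IsAffineOpen W → ∃ (n : ℕ) (a : Fin n → ι) (O : ∀ i, (V (a i)).Opens),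
        (∀ i, IsAffineOpen (O i)) ∧ ⋃ i, f (a i) '' (O i) = (W : Set U.left) := by
  rw [Precoverage.mem_toGrothendieck_iff_of_isStableUnderComposition] at hR
  obtain ⟨T, hT, hle⟩ := hR
  rw [Precoverage.mem_iff_exists_zeroHypercover] at hT
  obtain ⟨E, rfl⟩ := hT
  have : Precoverage.Small.{u} Scheme.fpqcPrecoverage.{u} :=
    inferInstanceAs (Precoverage.Small.{u} (Scheme.propQCPrecoverage @Flat))
  let E' := E.restrictIndexOfSmall
  have hE : E'.presieve₀ ∈ Scheme.propQCPrecoverage @Flat U.left := E'.mem₀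
  have hq : QuasiCompactCover E'.toPreZeroHypercover := by
    rw [← Scheme.presieve₀_mem_qcPrecoverage_iff]
    exact hE.1
  have h2 : E'.presieve₀ ∈ Scheme.precoverage @Flat U.left := hE.2
  rw [Scheme.presieve₀_mem_precoverage_iff] at h2
  refine ⟨E'.I₀, E'.X, E'.f, fun i => ?_, h2.2, fun x => ?_, hE, fun W hW => ?_⟩
  · exact hle _ _ (Presieve.ofArrows.mk (Precoverage.ZeroHypercover.Small.restrictFun E i))
  · obtain ⟨i, hi⟩ := h2.1 x
    exact ⟨i, hi⟩
  · exact QuasiCompactCover.exists_isAffineOpen_of_isCompact E'.toPreZeroHypercover hW.isCompact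

variable (𝒟) in
/-- smallness of the sets of compatible families -/
theorem small_F₀ (hR : Sieve.overEquiv U R ∈ Scheme.fpqcTopology U.left) (T : Over U.left) :
    Small.{u} ((F₀ 𝒟).obj (op T)) := by
  obtain ⟨ι, V, f, hf, -, -, hc, -⟩ := exists_small_cover hR
  -- the pulled back covering of `T`
  let W : ι → Over U.left := fun i => Over.mk (pullback.fst T.hom (f i) ≫ T.hom)
  let g : ∀ i, W i ⟶ T := fun i => Over.homMk (pullback.fst T.hom (f i))
  have hg : Sieve.ofArrows (fun i => (W i).left) (fun i => (g i).left) ∈ Scheme.fpqcTopology T.left := by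
    apply Precoverage.generate_mem_toGrothendieck
    exact Precoverage.mem_coverings_of_isPullback f hc T.hom (fun i => pullback.fst T.hom (f i))
      (fun i => pullback.snd T.hom (f i)) (fun i => IsPullback.of_hasPullback T.hom (f i))
  have hW : ∀ i, R (((inc U).obj (W i)).hom) := by
    intro i
    have h1 : R (Over.homMk (f i) : Over.mk (f i ≫ U.hom) ⟶ U) := by
      have := hf i
      rwa [Sieve.overEquiv_iff] at this
    have h2 : ((inc U).obj (W i)).hom =
        (Over.homMk (pullback.snd T.hom (f i)) (by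
          change pullback.snd T.hom (f i) ≫ f i ≫ U.hom = (pullback.fst T.hom (f i) ≫ T.hom) ≫ U.hom
          rw [← Category.assoc, ← pullback.condition]) : ((inc U).obj (W i)).left ⟶ Over.mk (f i ≫ U.hom)) ≫
          (Over.homMk (f i) : Over.mk (f i ≫ U.hom) ⟶ U) := by
      ext
      exact pullback.condition
    rw [h2]
    exact R.downward_closed h1 _
  let o : ι → R.arrows.category := fun i => ⟨(inc U).obj (W i), hW i⟩
  refine small_of_injective (β := ∀ i, ((o i).obj.left ⟶ 𝒟.D.obj (o i)))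
    (f := fun (x : Fm 𝒟 ((inc U).obj T)) i => x.s (o i) ((inc U).map (g i))) ?_
  intro x y hxy
  obtain ⟨z, -, hz⟩ := glue_F₀ (𝒟 := 𝒟) g hg (fun i => (F₀ 𝒟).map (g i).op y) (by
    intro i j Z a' b' h
    rw [← Functor.map_comp_apply, ← Functor.map_comp_apply, ← op_comp, ← op_comp, h])
  rw [hz y (fun _ => rfl), hz x]
  intro i
  change x.res ((inc U).map (g i)) = y.res ((inc U).map (g i))
  apply Fm.ext_ev (o := o i) (𝟙 _)
  rw [← Fm.s_eq_ev, ← Fm.s_eq_ev]
  exact congrFun hxy i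

section Transport

variable {X : Scheme.{u}}

theorem isZarSheaf_of_equiv {G : (Over X)ᵒᵖ ⥤ Type (u + 1)} {F : (Over X)ᵒᵖ ⥤ Type u}
    (e : ∀ T : Over X, G.obj (op T) ≃ F.obj (op T))
    (he : ∀ {T T' : Over X} (f : T ⟶ T') (x : G.obj (op T')), e T (G.map f.op x) = F.map f.op (e T' x))
    (h : IsZarSheaf G) : IsZarSheaf F := by
  have he' : ∀ {T T' : Over X} (f : T ⟶ T') (x : F.obj (op T')),
      (e T).symm (F.map f.op x) = G.map f.op ((e T').symm x) := by
    intro T T' f x
    rw [Equiv.symm_apply_eq, he, Equiv.apply_symm_apply]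
  intro T 𝒰 x hx
  obtain ⟨y, hy, hy'⟩ := h T 𝒰 (fun i => (e _).symm (x i)) (by
    intro i k W a b hab
    rw [← he', ← he', hx i k W a b hab])
  refine ⟨e T y, fun i => ?_, fun z hz => ?_⟩
  · rw [← he, hy, Equiv.apply_symm_apply]
  · rw [← Equiv.symm_apply_eq]
    apply hy'
    intro i
    change G.map _ ((e T).symm z) = _
    rw [← he', hz]

theorem isDesc_of_equiv {G : (Over X)ᵒᵖ ⥤ Type (u + 1)} {F : (Over X)ᵒᵖ ⥤ Type u}
    (e : ∀ T : Over X, G.obj (op T) ≃ F.obj (op T))
    (he : ∀ {T T' : Over X} (f : T ⟶ T') (x : G.obj (op T')), e T (G.map f.op x) = F.map f.op (e T' x))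
    {T' T : Over X} {g : T' ⟶ T} (h : IsDesc G g) : IsDesc F g := by
  have he' : ∀ {T T' : Over X} (f : T ⟶ T') (x : F.obj (op T')),
      (e T).symm (F.map f.op x) = G.map f.op ((e T').symm x) := by
    intro T T' f x
    rw [Equiv.symm_apply_eq, he, Equiv.apply_symm_apply]
  constructor
  · intro a b hab
    apply (e T).symm.injective
    apply h.inj
    rw [← he', ← he', hab]
  · intro a ha
    obtain ⟨b, hb⟩ := h.glue ((e T').symm a) (by
      intro Z z₀ z₁ hz
      rw [← he', ← he', ha Z z₀ z₁ hz])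
    refine ⟨e T b, ?_⟩
    rw [← he, hb, Equiv.apply_symm_apply]

end Transport

section Rep

/-- the inverse of `toInc` -/
def ofInc (Z : Over U) : (inc U).obj (Over.mk Z.hom.left) ⟶ Z :=
  Over.homMk (Over.homMk (𝟙 _) (by
    change 𝟙 _ ≫ Z.left.hom = Z.hom.left ≫ U.hom
    rw [Category.id_comp]
    exact (Over.w Z.hom).symm)) (by ext; exact Category.id_comp _)

theorem toInc_ofInc (Z : Over U) : toInc Z ≫ ofInc Z = 𝟙 Z := by
  ext
  exact Category.id_comp _

theorem ofInc_toInc (Z : Over U) : ofInc Z ≫ toInc Z = 𝟙 _ := by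
  ext
  exact Category.id_comp _

variable {V : Scheme.{u}} (f : V ⟶ U.left) (hf : R (Over.homMk f : Over.mk (f ≫ U.hom) ⟶ U))

/-- the object of the sieve given by a morphism of schemes -/
abbrev obOf : R.arrows.category := ⟨Over.mk (Over.homMk f : Over.mk (f ≫ U.hom) ⟶ U), hf⟩

/-- the structure morphism of the object over `U` of a scheme over `V` -/
abbrev kOf (T : Over V) : (inc U).obj ((Over.map f).obj T) ⟶ (obOf f hf).obj :=
  Over.homMk (Over.homMk T.hom (by
    change T.hom ≫ f ≫ U.hom = (T.hom ≫ f) ≫ U.hom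
    rw [Category.assoc])) (by ext; rfl)

theorem kOf_nat {T T' : Over V} (g : T' ⟶ T) :
    kOf f hf T' = (inc U).map ((Over.map f).map g) ≫ kOf f hf T := by
  ext
  exact (Over.w g).symm

variable (𝒟) in
/-- Over a member `V` of the sieve, the compatible families are represented by `D V`. -/
noncomputable def repOf (F : (Over U.left)ᵒᵖ ⥤ Type u) (e : ∀ T : Over U.left, (F₀ 𝒟).obj (op T) ≃ F.obj (op T))
    (he : ∀ {T T' : Over U.left} (f : T ⟶ T') (x : (F₀ 𝒟).obj (op T')), e T ((F₀ 𝒟).map f.op x) = F.map f.op (e T' x)) :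
    (restr f F).RepresentableBy (Over.mk (𝒟.π (obOf f hf)).left) where
  homEquiv {T} :=
    { toFun := fun m => e _ (Fm.ofLift (𝒟 := 𝒟) (kOf f hf T) (Over.homMk m.left (by
          have h1 : m.left ≫ (𝒟.π (obOf f hf)).left = T.hom := Over.w m
          change m.left ≫ (𝒟.D.obj (obOf f hf)).hom = (T.hom ≫ f) ≫ U.hom
          rw [← Over.w (𝒟.π (obOf f hf)), ← Category.assoc, h1, Category.assoc]
          rfl)) (by
          ext
          exact Over.w m))
      invFun := fun y => Over.homMk (Fm.ev ((e _).symm y : Fm 𝒟 _) (kOf f hf T)).left (by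
          have h1 := Fm.ev_π ((e _).symm y : Fm 𝒟 _) (kOf f hf T)
          exact congrArg (fun z => z.left) h1)
      left_inv := fun m => by
        ext
        simp only [Equiv.symm_apply_apply]
        have h2 := Fm.ev_ofLift (𝒟 := 𝒟) (kOf f hf T) (Over.homMk m.left (by
          have h1 : m.left ≫ (𝒟.π (obOf f hf)).left = T.hom := Over.w m
          change m.left ≫ (𝒟.D.obj (obOf f hf)).hom = (T.hom ≫ f) ≫ U.hom
          rw [← Over.w (𝒟.π (obOf f hf)), ← Category.assoc, h1, Category.assoc]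
          rfl)) (by
          ext
          exact Over.w m)
        exact congrArg (fun z => z.left) h2
      right_inv := fun y => by
        rw [← Equiv.eq_symm_apply]
        apply Fm.ext_ev (𝒟 := 𝒟) (kOf f hf T)
        rw [Fm.ev_ofLift]
        rfl }
  homEquiv_comp {T T'} g m := by
    refine Eq.trans ?_ (he ((Over.map f).map g) _)
    refine congrArg (e _) ?_
    apply Fm.ext_ev (𝒟 := 𝒟) (kOf f hf T)
    refine (Fm.ev_ofLift _ _ _).trans ?_
    refine Eq.trans ?_ (Fm.ev_res _ ((inc U).map ((Over.map f).map g)) (kOf f hf T') _ (kOf_nat f hf g)).symm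
    rw [Fm.ev_ofLift]
    rfl

end Rep

section Main

variable (𝒟) (P : MorphismProperty Scheme.{u}) [IsZariskiLocalAtTarget P] [P.IsStableUnderBaseChange]
    [P.DescendsAlong (@Surjective ⊓ @Flat ⊓ @QuasiCompact)]

/-- **Descent of quasi-affine schemes along an fpqc covering sieve**: a universal compatible family exists. -/
theorem exists_universal (hR : Sieve.overEquiv U R ∈ Scheme.fpqcTopology U.left)
    (hP : ∀ o, P (𝒟.π o).left) (hQ : ∀ o, Mor2.IsQuasiAffine (𝒟.π o).left) :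
    ∃ (E : Over U.left), P E.hom ∧ ∃ ξ : Fm 𝒟 ((inc U).obj E),
      ∀ (W : Over U) (x : Fm 𝒟 W), ∃! m : W ⟶ (inc U).obj E, ξ.res m = x := by
  have hsm : ∀ T : (Over U.left)ᵒᵖ, Small.{u} ((F₀ 𝒟).obj T) := fun T => small_F₀ 𝒟 hR T.unop
  have hsm' : FunctorToTypes.Small.{u} (F₀ 𝒟) := hsm
  let F : (Over U.left)ᵒᵖ ⥤ Type u := FunctorToTypes.shrink.{u} (F₀ 𝒟)
  let e : ∀ T : Over U.left, (F₀ 𝒟).obj (op T) ≃ F.obj (op T) := fun T => equivShrink _
  have he : ∀ {T T' : Over U.left} (f : T ⟶ T') (x : (F₀ 𝒟).obj (op T')),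
      e T ((F₀ 𝒟).map f.op x) = F.map f.op (e T' x) := by
    intro T T' f x
    simp [e, F, FunctorToTypes.shrink]
  obtain ⟨ι, V, f, hfR, hfl, hsurj, hc, hqc⟩ := exists_small_cover hR
  have hfR' : ∀ i, R (Over.homMk (f i) : Over.mk (f i ≫ U.hom) ⟶ U) := fun i => by
    have := hfR i
    rwa [Sieve.overEquiv_iff] at this
  let c : (∐ V) ⟶ U.left := Sigma.desc f
  have hcι : ∀ i, Sigma.ι V i ≫ c = f i := fun i => Sigma.ι_desc _ _
  have hc1 : Flat c := inferInstanceAs (Flat (Sigma.desc fun j => f j))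
  have hc2 : Surjective c := by
    apply Surjective.sigmaDesc_of_union_range_eq_univ
    rw [Set.eq_univ_iff_forall]
    intro s
    obtain ⟨i, v, hv⟩ := hsurj s
    exact Set.mem_iUnion.mpr ⟨i, v, hv⟩
  have hc3 : ∀ W : U.left.Opens, IsAffineOpen W → ∃ O : (∐ V).Opens, IsCompact (O : Set ↥(∐ V)) ∧
      c.base '' (O : Set ↥(∐ V)) = (W : Set U.left) := by
    intro W hW
    obtain ⟨n, a, O, hO, hU⟩ := hqc W hW
    refine ⟨⨆ i, (Sigma.ι V (a i)) ''ᵁ (O i), ?_, ?_⟩
    · rw [TopologicalSpace.Opens.coe_iSup]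
      exact isCompact_iUnion (fun i => (hO i).isCompact.image (Sigma.ι V (a i)).continuous)
    · rw [TopologicalSpace.Opens.coe_iSup, Set.image_iUnion, ← hU]
      congr 1
      ext1 i
      rw [← hcι (a i)]
      ext s
      constructor
      · rintro ⟨_, ⟨x, hx, rfl⟩, rfl⟩
        exact ⟨x, hx, by simp⟩
      · rintro ⟨x, hx, rfl⟩
        exact ⟨_, ⟨x, hx, rfl⟩, by simp⟩
  obtain ⟨E, hE, ⟨r⟩⟩ := Groth.Agent.Sga3.H828.FpqcRep2.exists_rep_of_fpqcCover' F
    (isZarSheaf_of_equiv e he isZarSheaf_F₀)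
    (fun g h1 h2 h3 => isDesc_of_equiv e he (isDesc_F₀ g h1 h2 h3)) P c hc3 (fun x => by
      obtain ⟨⟨i, v⟩, rfl⟩ := (sigmaMk V).surjective x
      refine ⟨V i, Sigma.ι V i, inferInstance, inferInstance, ⟨v, by rw [sigmaMk_mk]⟩,
        Over.mk (𝒟.π (obOf (f i) (hfR' i))).left, hP _, hQ _, ?_⟩
      rw [hcι i]
      exact ⟨repOf 𝒟 (f i) (hfR' i) F e he⟩)
  refine ⟨E, hE, (e E).symm (r.homEquiv (𝟙 E)), fun W x => ?_⟩
  have huniv : ∀ (T : Over U.left) (y : Fm 𝒟 ((inc U).obj T)), ∃! m : T ⟶ E,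
      Fm.res ((inc U).map m) ((e E).symm (r.homEquiv (𝟙 E)) : Fm 𝒟 _) = y := by
    intro T y
    have h1 : ∀ m : T ⟶ E, Fm.res ((inc U).map m) ((e E).symm (r.homEquiv (𝟙 E)) : Fm 𝒟 _) =
        (e T).symm (r.homEquiv m) := by
      intro m
      refine (Equiv.eq_symm_apply _).mpr ?_
      refine (he m _).trans ?_
      rw [Equiv.apply_symm_apply, ← r.homEquiv_comp, Category.comp_id]
    refine ⟨r.homEquiv.symm (e T y), ?_, ?_⟩
    · change Fm.res _ _ = y
      rw [h1, Equiv.apply_symm_apply, Equiv.symm_apply_apply]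
    · intro m hm
      change Fm.res _ _ = y at hm
      rw [h1] at hm
      rw [← hm, Equiv.apply_symm_apply, Equiv.symm_apply_apply]
  obtain ⟨m, hm, hm'⟩ := huniv (Over.mk W.hom.left) (x.res (ofInc W))
  refine ⟨toInc W ≫ (inc U).map m, ?_, ?_⟩
  · change Fm.res _ _ = x
    rw [Fm.res_comp, hm, ← Fm.res_comp, toInc_ofInc, Fm.res_id]
  · intro m₁ hm₁
    change Fm.res _ _ = x at hm₁
    rw [eq_toInc m₁]
    congr 2
    apply hm'
    rw [← hm₁, ← Fm.res_comp]
    congr 1

/-- **Descent of quasi-affine schemes along an fpqc covering sieve**. -/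
theorem exists_descent (hR : Sieve.overEquiv U R ∈ Scheme.fpqcTopology U.left)
    (hP : ∀ o, P (𝒟.π o).left) (hQ : ∀ o, Mor2.IsQuasiAffine (𝒟.π o).left) :
    ∃ (E : Over S) (p : E ⟶ U), P p.left ∧ ∃ c : ∀ o : R.arrows.category, 𝒟.D.obj o ⟶ E,
      (∀ o, IsPullback (c o) (𝒟.π o) p o.obj.hom) ∧
      ∀ {o o' : R.arrows.category} (f : o ⟶ o'), 𝒟.D.map f ≫ c o' = c o := by
  obtain ⟨E, hE, ξ, hξ⟩ := exists_universal 𝒟 P hR hP hQ
  obtain ⟨c, h1, h2⟩ := exists_cocone ξ hξ
  exact ⟨_, ((inc U).obj E).hom, hE, c, h1, h2⟩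

end Main

end K750.AffDesc
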