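import Groth.Prelude.Def_AlgSt5

/-!
# Points of torsors and morphisms of the quotient stack `[X/G]` out of an object with a section
-/

set_option autoImplicit false
set_option backward.isDefEq.respectTransparency false
set_option backward.isDefEq.respectTransparency.types false

universe u

open CategoryTheory CategoryTheory.Limits MonoidalCategory CartesianMonoidalCategory MonObj GrpObj AlgebraicGeometry
open AlgSt

namespace K750.TorsPts

variable {S : Scheme.{u}} {G : Over S} [GrpObj G]

/-- the action on `T`-points -/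
noncomputable def act {P : Over S} (a : AlgGrp.Action G P) {T : Over S} (g : T ⟶ G) (p : T ⟶ P) : T ⟶ P :=
  lift g p ≫ a.act

section

variable {P : Over S} (a : AlgGrp.Action G P) {T T' : Over S}

theorem act_one (p : T ⟶ P) : act a 1 p = p := by
  have h1 : lift (1 : T ⟶ G) p = lift (toUnit T) p ≫ (η[G] ▷ P) := by
    rw [lift_whiskerRight, Hom.one_def]
  rw [act, h1, Category.assoc, a.one_act, lift_leftUnitor_hom]

theorem act_mul (g h : T ⟶ G) (p : T ⟶ P) : act a (g * h) p = act a g (act a h p) := by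
  have h1 : lift (g * h) p = lift (lift g h) p ≫ (μ[G] ▷ P) := by
    rw [lift_whiskerRight]; rfl
  simp only [act]
  rw [h1, Category.assoc, a.mul_act]
  simp only [lift_lift_associator_hom_assoc, lift_whiskerLeft_assoc]

theorem comp_act (f : T' ⟶ T) (g : T ⟶ G) (p : T ⟶ P) : f ≫ act a g p = act a (f ≫ g) (f ≫ p) := by
  simp only [act]
  rw [← Category.assoc, comp_lift]

theorem act_eqv {P' : Over S} (a' : AlgGrp.Action G P') (φ : P ⟶ P') (hφ : a.act ≫ φ = (G ◁ φ) ≫ a'.act)
    (g : T ⟶ G) (p : T ⟶ P) : act a g p ≫ φ = act a' g (p ≫ φ) := by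
  simp only [act]
  rw [Category.assoc, hφ, lift_whiskerLeft_assoc]

theorem eqv_of_act {P' : Over S} (a' : AlgGrp.Action G P') (φ : P ⟶ P')
    (h : ∀ (T : Over S) (g : T ⟶ G) (p : T ⟶ P), act a g p ≫ φ = act a' g (p ≫ φ)) :
    a.act ≫ φ = (G ◁ φ) ≫ a'.act := by
  have h1 := h (G ⊗ P) (fst _ _) (snd _ _)
  simp only [act, lift_fst_snd, Category.id_comp] at h1
  rw [h1]
  congr 1

end

section Torsor

variable {P B : Over S} (a : AlgGrp.Action G P) {π : P ⟶ B} (hc : IsPullback a.act (snd G P) π π) {T T' : Over S}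

include hc

theorem act_comp_π (g : T ⟶ G) (p : T ⟶ P) : act a g p ≫ π = p ≫ π := by
  rw [act, Category.assoc, hc.w, lift_snd_assoc]

theorem existsUnique_act (p q : T ⟶ P) (h : q ≫ π = p ≫ π) : ∃! g : T ⟶ G, act a g p = q := by
  refine ⟨hc.lift q p h ≫ fst G P, ?_, ?_⟩
  · have h1 : lift (hc.lift q p h ≫ fst G P) p = hc.lift q p h := by
      apply CartesianMonoidalCategory.hom_ext
      · simp
      · rw [lift_snd, hc.lift_snd]
    change act a _ p = q
    rw [act, h1, hc.lift_fst]
  · intro g hg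
    have h1 : lift g p = hc.lift q p h := by
      apply hc.hom_ext
      · rw [hc.lift_fst]; exact hg
      · rw [hc.lift_snd, lift_snd]
    rw [← h1, lift_fst]

/-- the difference of two points in the same fibre of a pseudo-torsor -/
noncomputable def dif (p q : T ⟶ P) (h : q ≫ π = p ≫ π) : T ⟶ G := (existsUnique_act a hc p q h).choose

theorem act_dif (p q : T ⟶ P) (h : q ≫ π = p ≫ π) : act a (dif a hc p q h) p = q :=
  (existsUnique_act a hc p q h).choose_spec.1

theorem eq_dif (p q : T ⟶ P) (h : q ≫ π = p ≫ π) (g : T ⟶ G) (hg : act a g p = q) : g = dif a hc p q h :=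
  (existsUnique_act a hc p q h).choose_spec.2 g hg

theorem act_left_cancel (p : T ⟶ P) {g g' : T ⟶ G} (h : act a g p = act a g' p) : g = g' := by
  have h0 : act a g' p ≫ π = p ≫ π := act_comp_π a hc g' p
  rw [eq_dif a hc p _ h0 g h, ← eq_dif a hc p _ h0 g' rfl]

end Torsor

section Hom

variable {K : Precoverage Scheme.{u}} {X : Over S} {aX : AlgGrp.Action G X}

/-- two morphisms of `[X/G]` out of an object with a section agree when they agree on the section -/
theorem hom_ext_of_section {A B : QuotObj K G aX} (s : A.base ⟶ A.P) (hs : s ≫ A.π = 𝟙 _) {h h' : A ⟶ B}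
    (ht : s ≫ h.top = s ≫ h'.top) : h = h' := by
  have e1 : ∀ k : A ⟶ B, k.base = s ≫ k.top ≫ B.π := fun k => by
    rw [k.cart.w, reassoc_of% hs]
  apply QuotObj.hom_ext
  · rw [e1 h, e1 h', reassoc_of% ht]
  · have h0 : 𝟙 A.P ≫ A.π = (A.π ≫ s) ≫ A.π := by rw [Category.assoc, hs, Category.id_comp, Category.comp_id]
    have h1 := act_dif A.act A.cart (A.π ≫ s) (𝟙 A.P) h0
    have e2 : ∀ k : A ⟶ B, k.top = act B.act (dif A.act A.cart (A.π ≫ s) (𝟙 A.P) h0) (A.π ≫ s ≫ k.top) := fun k => by
      have h2 := act_eqv A.act B.act k.top k.eqv (dif A.act A.cart (A.π ≫ s) (𝟙 A.P) h0) (A.π ≫ s)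
      rw [h1, Category.id_comp, Category.assoc] at h2
      exact h2
    rw [e2 h, e2 h', ht]

/-- a morphism of `[X/G]` out of an object with a section `s`, given by the image of `s` -/
theorem exists_hom_of_section {A B : QuotObj K G aX} (f : A.base ⟶ B.base) (s : A.base ⟶ A.P) (hs : s ≫ A.π = 𝟙 _)
    (t : A.base ⟶ B.P) (ht : t ≫ B.π = f) (htφ : t ≫ B.φ = s ≫ A.φ) :
    ∃ h : A ⟶ B, h.base = f ∧ s ≫ h.top = t := by
  have h0 : 𝟙 A.P ≫ A.π = (A.π ≫ s) ≫ A.π := by rw [Category.assoc, hs, Category.id_comp, Category.comp_id]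
  let d : A.P ⟶ G := dif A.act A.cart (A.π ≫ s) (𝟙 A.P) h0
  have hd : act A.act d (A.π ≫ s) = 𝟙 A.P := act_dif A.act A.cart (A.π ≫ s) (𝟙 A.P) h0
  have hdT : ∀ {T : Over S} (p : T ⟶ A.P), act A.act (p ≫ d) (p ≫ A.π ≫ s) = p := fun p => by
    have := congrArg (fun z => p ≫ z) hd
    simp only [comp_act, Category.comp_id] at this
    exact this
  let top : A.P ⟶ B.P := act B.act d (A.π ≫ t)
  have htop : ∀ {T : Over S} (p : T ⟶ A.P), p ≫ top = act B.act (p ≫ d) (p ≫ A.π ≫ t) := fun p => comp_act _ _ _ _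
  have hπ : top ≫ B.π = A.π ≫ f := by
    rw [act_comp_π B.act B.cart, Category.assoc, ht]
  have heq : ∀ (T : Over S) (g : T ⟶ G) (p : T ⟶ A.P), act A.act g p ≫ top = act B.act g (p ≫ top) := by
    intro T g p
    rw [htop, htop, ← act_mul, reassoc_of% (act_comp_π A.act A.cart g p)]
    congr 1
    apply act_left_cancel A.act A.cart (p ≫ A.π ≫ s)
    rw [act_mul, hdT p]
    have := hdT (act A.act g p)
    rw [reassoc_of% (act_comp_π A.act A.cart g p)] at this
    exact this
  have hsd : s ≫ d = 1 := by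
    apply act_left_cancel A.act A.cart s
    rw [act_one]
    have := hdT s
    rw [reassoc_of% hs] at this
    exact this
  have hst : s ≫ top = t := by
    rw [htop, hsd, act_one, reassoc_of% hs]
  have hcart : IsPullback top A.π B.π f := by
    refine ⟨⟨hπ⟩, ⟨PullbackCone.IsLimit.mk hπ (fun c => act A.act (dif B.act B.cart (c.snd ≫ t) c.fst
        (by rw [Category.assoc, ht]; exact c.condition)) (c.snd ≫ s)) ?_ ?_ ?_⟩⟩
    · intro c
      rw [heq, show (c.snd ≫ s) ≫ top = c.snd ≫ t by rw [Category.assoc, hst]]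
      exact act_dif B.act B.cart _ _ _
    · intro c
      rw [act_comp_π A.act A.cart, Category.assoc, hs, Category.comp_id]
    · intro c m hm1 hm2
      rw [← hdT m]
      have h3 : m ≫ A.π ≫ s = c.snd ≫ s := by rw [← hm2, Category.assoc]
      rw [h3]
      congr 1
      apply eq_dif B.act B.cart
      rw [← hm1, htop, ← hm2, Category.assoc]
  refine ⟨{ base := f, top := top, eqv := eqv_of_act A.act B.act top heq, cart := hcart, wφ := ?_ }, rfl, hst⟩
  rw [act_eqv B.act aX B.φ B.eqv, Category.assoc, htφ, ← Category.assoc, ← act_eqv A.act aX A.φ A.eqv, hd,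
    Category.id_comp]

end Hom

end K750.TorsPts
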