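import Groth.Agent.AlgSt.K750.Cone
import Groth.Agent.AlgSt.K750.AffDesc
import Groth.Agent.AlgSt.K750.TorsPts
import Groth.Agent.S0082

/-!
# Torsors under affine group schemes are affine (helper750)
-/

set_option autoImplicit false
set_option backward.isDefEq.respectTransparency false
set_option backward.isDefEq.respectTransparency.types false

universe u

open CategoryTheory CategoryTheory.Limits MonoidalCategory CartesianMonoidalCategory MonObj GrpObj AlgebraicGeometry
open AlgSt K750.Fam K750.Cone K750.TorsPts K750.AffDesc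

namespace K750.QuotAff

instance : MorphismProperty.DescendsAlong @IsAffineHom (@Surjective ⊓ @Flat ⊓ @QuasiCompact : MorphismProperty Scheme.{u}) :=
  Groth.Agent.S0082.result

theorem quasiAffine_of_affine {X Y : Scheme.{u}} (f : X ⟶ Y) [IsAffineHom f] : Mor2.IsQuasiAffine f := by
  refine ⟨inferInstance, fun O hO => ?_⟩
  have : IsAffine (f ⁻¹ᵁ O : Scheme.{u}) := hO.preimage f
  infer_instance

variable {S : Scheme.{u}}

theorem isAffineHom_snd (G T : Over S) [IsAffineHom G.hom] : IsAffineHom (snd G T).left := by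
  have h : IsPullback (fst G T).left (snd G T).left (toUnit G).left (toUnit T).left :=
    (AlgSt.isPullback_fst_snd G T).map (Over.forget S)
  have h1 : (toUnit G).left = G.hom := by
    simp
  rw [h1] at h
  exact MorphismProperty.of_isPullback h inferInstance

/-- a section over a member of a sieve of `U.left` -/
theorem exists_section_of_mem {U P : Over S} (π : P ⟶ U) (R₀ : Presieve U.left)
    (hsec : ∀ ⦃V : Scheme.{u}⦄ (f : V ⟶ U.left), R₀ f → NonAbH1.HasSectionOver (Over.mk π.left : Over U.left) f)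
    {T : Over S} (t : T ⟶ U) (ht : Sieve.generate R₀ t.left) : ∃ s : T ⟶ P, s ≫ π = t := by
  obtain ⟨V, a, b, hb, hab⟩ := ht
  obtain ⟨s, hs⟩ := hsec b hb
  have hs' : s ≫ π.left = b := hs
  refine ⟨Over.homMk (a ≫ s) ?_, ?_⟩
  · rw [← Over.w π, Category.assoc, reassoc_of% hs', reassoc_of% hab, Over.w t]
  · ext
    change (a ≫ s) ≫ π.left = t.left
    rw [Category.assoc, hs', hab]

variable {G : Over S} [GrpObj G]

/-- Over an object with a point of a pseudo-torsor, the pseudo-torsor is trivial. -/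
theorem isPullback_of_pt {P U T : Over S} (a : AlgGrp.Action G P) {π : P ⟶ U} (hc : IsPullback a.act (snd G P) π π)
    (s : T ⟶ P) : IsPullback ((G ◁ s) ≫ a.act) (snd G T) π (s ≫ π) :=
  (AlgSt.isPullback_whiskerLeft (G := G) s).paste_horiz hc

theorem exists_iso_of_isPullback {P U T D D' : Over S} {π : P ⟶ U} {t : T ⟶ U} {p : D ⟶ P} {q : D ⟶ T} {p' : D' ⟶ P}
    {q' : D' ⟶ T} (h : IsPullback p q π t) (h' : IsPullback p' q' π t) : ∃ e : D ≅ D', e.hom ≫ q' = q :=
  ⟨h.isoIsPullback _ _ h', h.isoIsPullback_hom_snd _ _ h'⟩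

theorem isAffineHom_of_pt [IsAffineHom G.hom] {P U T D : Over S} (a : AlgGrp.Action G P) {π : P ⟶ U}
    (hc : IsPullback a.act (snd G P) π π) {t : T ⟶ U} (s : T ⟶ P) (hs : s ≫ π = t) {p : D ⟶ P} {q : D ⟶ T}
    (h : IsPullback p q π t) : IsAffineHom q.left := by
  have h1 := isPullback_of_pt a hc s
  rw [hs] at h1
  obtain ⟨e, he⟩ := exists_iso_of_isPullback h h1
  have h2 : e.hom.left ≫ (snd G T).left = q.left := by rw [← he]; rfl
  rw [← h2]
  have := isAffineHom_snd G T
  infer_instance

/-- torsors under affine group schemes are affine -/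
theorem isAffineHom_of_torsor [IsAffineHom G.hom] {K : Precoverage Scheme.{u}} (hK : K ≤ Scheme.fpqcPrecoverage)
    {P U : Over S} (a : AlgGrp.Action G P) {π : P ⟶ U} (hc : IsPullback a.act (snd G P) π π)
    (hl : NonAbH1.IsLocallyTrivialFor K (Over.mk π.left : Over U.left)) : IsAffineHom π.left := by
  obtain ⟨R₀, hR₀, hsec⟩ := hl
  obtain ⟨R, hRdef⟩ : ∃ R : Sieve U, R = (Sieve.overEquiv U).symm (Sieve.generate R₀) := ⟨_, rfl⟩
  have hR : Sieve.overEquiv U R ∈ Scheme.fpqcTopology U.left := by
    rw [hRdef, (Sieve.overEquiv U).apply_symm_apply]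
    exact Precoverage.generate_mem_toGrothendieck (hK _ hR₀)
  have hmem : ∀ {V : Over S} (f : V ⟶ U), R f → Sieve.generate R₀ f.left := by
    intro V f hf
    rwa [hRdef, Sieve.overEquiv_symm_iff] at hf
  have hR' : R ∈ (Scheme.fpqcTopology.over S) U := hR
  have haff : ∀ o : R.arrows.category, IsAffineHom ((pullDat R π).π o).left := by
    intro o
    have ho : Sieve.generate R₀ o.obj.hom.left := hmem _ o.property
    obtain ⟨s, hs⟩ := exists_section_of_mem π R₀ hsec o.obj.hom ho
    exact isAffineHom_of_pt a hc s hs (IsPullback.of_hasPullback π o.obj.hom)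
  obtain ⟨E, p, hp, c, hc1, hc2⟩ := exists_descent (pullDat R π) @IsAffineHom hR haff
    (fun o => by have := haff o; exact quasiAffine_of_affine _)
  let κ : Cov (pullDat R π) p := ⟨c, hc1, hc2⟩
  obtain ⟨n, -, hn⟩ := (pullCov R π).exists_iso hR' κ
  have h1 : n.hom.left ≫ p.left = π.left := by rw [← hn]; rfl
  rw [← h1]
  infer_instance

theorem isAffineHom_quotObj [IsAffineHom G.hom] {K : Precoverage Scheme.{u}} (hK : K ≤ Scheme.fpqcPrecoverage)
    {X : Over S} {aX : AlgGrp.Action G X} (A : QuotObj K G aX) : IsAffineHom A.π.left :=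
  isAffineHom_of_torsor hK A.act A.cart A.loc

end K750.QuotAff
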