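import Groth.Agent.AlgSt.K750.QuotPre
import Groth.Agent.AlgSt.K750.QuotAff

/-!
# Objects of `[X/G]` glue for an affine group scheme (helper750)
-/

set_option autoImplicit false
set_option backward.isDefEq.respectTransparency false
set_option backward.isDefEq.respectTransparency.types false

universe u

open CategoryTheory CategoryTheory.Limits MonoidalCategory CartesianMonoidalCategory MonObj GrpObj AlgebraicGeometry
open AlgSt K750.Fam K750.Cone K750.TorsPts K750.AffDesc K750.QuotAff K998.QuotFib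

namespace K750.QuotEff

variable {S : Scheme.{u}} {G : Over S}

section Gen

theorem isPullback_comp_iso {C : Type*} [Category C] {A B B' D D' : C} {a : A ⟶ B} {b : A ⟶ B'} {c : B ⟶ D} {d : B' ⟶ D}
    (h : IsPullback a b c d) (e : D ⟶ D') [IsIso e] : IsPullback a b (c ≫ e) (d ≫ e) :=
  IsPullback.of_iso h (Iso.refl _) (Iso.refl _) (Iso.refl _) (asIso e) (by simp) (by simp) (by simp) (by simp)

variable [GrpObj G]

/-- action axiom from points -/
theorem one_act_of_pts {P : Over S} (act : G ⊗ P ⟶ P) (h : ∀ (T : Over S) (q : T ⟶ P), lift (1 : T ⟶ G) q ≫ act = q) :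
    (η[G] ▷ P) ≫ act = (λ_ P).hom := by
  have h1 := h (𝟙_ (Over S) ⊗ P) (snd _ _)
  have h2 : (η[G] ▷ P) = lift (1 : 𝟙_ (Over S) ⊗ P ⟶ G) (snd _ _) := by
    apply CartesianMonoidalCategory.hom_ext
    · rw [lift_fst, whiskerRight_fst, Hom.one_def, toUnit_unique (fst (𝟙_ (Over S)) P) (toUnit _)]
    · rw [lift_snd, whiskerRight_snd]
  rw [h2, h1, leftUnitor_hom]

/-- action axiom from points -/
theorem mul_act_of_pts {P : Over S} (act : G ⊗ P ⟶ P) (h : ∀ (T : Over S) (g g' : T ⟶ G) (q : T ⟶ P),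
      lift (g * g') q ≫ act = lift g (lift g' q ≫ act) ≫ act) :
    (μ[G] ▷ P) ≫ act = (α_ G G P).hom ≫ (G ◁ act) ≫ act := by
  have h1 := h ((G ⊗ G) ⊗ P) (fst _ _ ≫ fst _ _) (fst _ _ ≫ snd _ _) (snd _ _)
  have h2 : (μ[G] ▷ P) = lift ((fst (G ⊗ G) P ≫ fst _ _) * (fst _ _ ≫ snd _ _)) (snd _ _) := by
    apply CartesianMonoidalCategory.hom_ext
    · rw [lift_fst, whiskerRight_fst, Hom.mul_def, ← comp_lift, lift_fst_snd, Category.comp_id]
    · rw [lift_snd, whiskerRight_snd]
  rw [h2, h1, ← Category.assoc]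
  congr 1
  apply CartesianMonoidalCategory.hom_ext
  · simp
  · rw [lift_snd, Category.assoc, whiskerLeft_snd, ← Category.assoc]
    congr 1
    apply CartesianMonoidalCategory.hom_ext <;> simp

end Gen

section Dat

variable {U : Over S} {R : Sieve U}

variable (G) in
/-- the constant diagram `G ⊗ V` over the arrows `V ⟶ U` of a sieve -/
noncomputable def trivDat (R : Sieve U) : Dat R where
  D := R.arrows.diagram ⋙ tensorLeft G
  π o := snd G o.obj.left
  cart f := AlgSt.isPullback_whiskerLeft (G := G) f.hom.left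

variable (G) in
/-- the cone `G ⊗ V ⟶ G ⊗ U` -/
noncomputable def trivCov (R : Sieve U) : Cov (trivDat G R) (snd G U) where
  c o := G ◁ o.obj.hom
  cart o := AlgSt.isPullback_whiskerLeft (G := G) o.obj.hom
  nat f := by
    change (G ◁ f.hom.left) ≫ (G ◁ _) = _
    rw [← MonoidalCategory.whiskerLeft_comp, Over.w f.hom]

variable (G) in
/-- the diagram `G ⊗ D` -/
noncomputable def tensDat (𝒟 : Dat R) : Dat R where
  D := 𝒟.D ⋙ tensorLeft G
  π o := snd G (𝒟.D.obj o) ≫ 𝒟.π o
  cart f := (AlgSt.isPullback_whiskerLeft (G := G) (𝒟.D.map f)).paste_vert (𝒟.cart f)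

variable (G) in
/-- the cone `G ⊗ D o ⟶ G ⊗ W` -/
noncomputable def tensCov {𝒟 : Dat R} {W : Over S} {w : W ⟶ U} (κ : Cov 𝒟 w) : Cov (tensDat G 𝒟) (snd G W ≫ w) where
  c o := G ◁ κ.c o
  cart o := (AlgSt.isPullback_whiskerLeft (G := G) (κ.c o)).paste_vert (κ.cart o)
  nat f := by
    change (G ◁ 𝒟.D.map f) ≫ (G ◁ _) = _
    rw [← MonoidalCategory.whiskerLeft_comp, κ.nat]

variable [GrpObj G] {J : GrothendieckTopology (Over S)} [J.Subcanonical]

/-- descent of actions -/
theorem exists_action {𝒟 : Dat R} {P : Over S} {p : P ⟶ U} (κ : Cov 𝒟 p) (hR : R ∈ J U)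
    (aD : ∀ o, AlgGrp.Action G (𝒟.D.obj o))
    (hD : ∀ {o o' : R.arrows.category} (f : o ⟶ o'), (aD o).act ≫ 𝒟.D.map f = (G ◁ 𝒟.D.map f) ≫ (aD o').act)
    (hc : ∀ o, IsPullback (aD o).act (snd G (𝒟.D.obj o)) (𝒟.π o) (𝒟.π o)) :
    ∃ a : AlgGrp.Action G P, (∀ o, (aD o).act ≫ κ.c o = (G ◁ κ.c o) ≫ a.act) ∧ IsPullback a.act (snd G P) p p := by
  obtain ⟨act, hact, -⟩ := (tensCov G κ).existsUnique_desc hR (Z := P) (fun o => (aD o).act ≫ κ.c o) (by
    intro o o' f
    change (G ◁ 𝒟.D.map f) ≫ (aD o').act ≫ κ.c o' = (aD o).act ≫ κ.c o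
    rw [← reassoc_of% (hD f), κ.nat])
  have hact' : ∀ o, (G ◁ κ.c o) ≫ act = (aD o).act ≫ κ.c o := hact
  have hpt : ∀ {T : Over S} (o : R.arrows.category) (g : T ⟶ G) (e : T ⟶ 𝒟.D.obj o),
      lift g (e ≫ κ.c o) ≫ act = K750.TorsPts.act (aD o) g e ≫ κ.c o := by
    intro T o g e
    rw [K750.TorsPts.act, Category.assoc, ← hact' o, lift_whiskerLeft_assoc]
  have hloc : ∀ {T T' : Over S} (q : T ⟶ P) (t : T' ⟶ T), R (t ≫ q ≫ p) → ∃ (o : R.arrows.category) (e : T' ⟶ 𝒟.D.obj o),
      t ≫ q = e ≫ κ.c o := by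
    intro T T' q t ht
    have h1 : (t ≫ q) ≫ p = 𝟙 T' ≫ (mk' (t ≫ q ≫ p) ht).obj.hom := by simp
    exact ⟨_, _, (κ.pt_c (mk' (t ≫ q ≫ p) ht) (t ≫ q) (𝟙 T') h1).symm⟩
  let a : AlgGrp.Action G P :=
    { act := act
      one_act := by
        apply one_act_of_pts
        intro T q
        apply ext_over (J := J) (q ≫ p) hR
        intro T' t ht
        obtain ⟨o, e, he⟩ := hloc q t ht
        rw [← Category.assoc, comp_lift, he, comp_one, hpt, act_one]
      mul_act := by
        apply mul_act_of_pts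
        intro T g g' q
        apply ext_over (J := J) (q ≫ p) hR
        intro T' t ht
        obtain ⟨o, e, he⟩ := hloc q t ht
        rw [← Category.assoc, comp_lift, he, comp_mul, hpt, act_mul, ← Category.assoc, comp_lift,
          ← Category.assoc, comp_lift, he, hpt, hpt] }
  refine ⟨a, fun o => (hact' o).symm, ?_⟩
  apply (trivCov G (R.pullback p)).isPullback (J := J) (J.pullback_stable p hR) a.act
  intro o
  obtain ⟨o', e, he⟩ := hloc o.obj.hom (𝟙 _) (by rw [Category.id_comp]; exact o.property)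
  rw [Category.id_comp] at he
  have h1 := (isPullback_of_pt (aD o') (hc o') e).paste_horiz (κ.cart o')
  change IsPullback ((G ◁ o.obj.hom) ≫ act) (snd G o.obj.left) p (o.obj.hom ≫ p)
  rw [he, MonoidalCategory.whiskerLeft_comp, Category.assoc, hact' o', Category.assoc, (κ.cart o').w]
  simpa using h1

end Dat

section Loc

variable {U : Over S} {R : Sieve U} {K : Precoverage Scheme.{u}} [K.HasIsos] [K.IsStableUnderBaseChange]
  [K.IsStableUnderComposition]

/-- Local triviality is local. -/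
theorem isLocallyTrivialFor_of_cov {𝒟 : Dat R} {P : Over S} {p : P ⟶ U} (κ : Cov 𝒟 p) (hR : R ∈ QuotSh.J K S U)
    (h : ∀ o, NonAbH1.IsLocallyTrivialFor K (Over.mk (𝒟.π o).left : Over o.obj.left.left)) :
    NonAbH1.IsLocallyTrivialFor K (Over.mk p.left : Over U.left) := by
  have hR' : Sieve.overEquiv U R ∈ K.toGrothendieck U.left := hR
  rw [Precoverage.mem_toGrothendieck_iff_of_isStableUnderComposition] at hR'
  obtain ⟨T, hT, hle⟩ := hR'
  let ob : T.category → R.arrows.category := fun i =>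
    ⟨Over.mk (Over.homMk i.obj.hom : Over.mk (i.obj.hom ≫ U.hom) ⟶ U), by
      have := hle _ _ i.property
      rwa [Sieve.overEquiv_iff] at this⟩
  choose Q hQ hsec using fun i => h (ob i)
  rw [← Presieve.ofArrows_category T] at hT
  have hc := K.comp_mem_coverings (S := U.left) (X := fun i : T.category => i.obj.left) (fun i => i.obj.hom) hT
    (σ := fun i => (Q i).category) (Y := fun i j => j.obj.left) (fun i j => j.obj.hom)
    (fun i => by
      have := hQ i
      rw [← Presieve.ofArrows_category (Q i)] at this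
      exact this)
  refine ⟨_, hc, ?_⟩
  rintro V f ⟨⟨i, j⟩⟩
  obtain ⟨s, hs⟩ := hsec i j.obj.hom j.property
  have hs' : s ≫ (𝒟.π (ob i)).left = j.obj.hom := hs
  refine ⟨s ≫ (κ.c (ob i)).left, ?_⟩
  change (s ≫ (κ.c (ob i)).left) ≫ p.left = j.obj.hom ≫ i.obj.hom
  have h1 : (κ.c (ob i)).left ≫ p.left = (𝒟.π (ob i)).left ≫ i.obj.hom := by
    have := congrArg (fun z => z.left) (κ.cart (ob i)).w
    exact this
  rw [Category.assoc, h1, reassoc_of% hs']

end Loc

section Obj

variable [GrpObj G] {K : Precoverage Scheme.{u}} {X : Over S} {aX : AlgGrp.Action G X} {U : Over S} {R : Sieve U}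
  (Φ : Stk.sieveCat R ⥤ᵇ QuotSt K G aX)

theorem base_eq (o : R.arrows.category) : (Φ.obj o).base = o.obj.left := Φ.w_obj o

theorem map_base {o o' : R.arrows.category} (f : o ⟶ o') :
    (Φ.map f).base ≫ eqToHom (base_eq Φ o') = eqToHom (base_eq Φ o) ≫ f.hom.left := by
  have h := Functor.congr_hom Φ.w f
  have h' : (Φ.map f).base = eqToHom (base_eq Φ o) ≫ f.hom.left ≫ eqToHom (base_eq Φ o').symm := h
  rw [h', Category.assoc, Category.assoc, eqToHom_trans, eqToHom_refl, Category.comp_id]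

/-- the cartesian diagram of total spaces -/
noncomputable def dat : Dat R where
  D := { obj := fun o => (Φ.obj o).P
         map := fun f => (Φ.map f).top
         map_id := fun o => congrArg QuotObj.Hom.top (Φ.map_id o)
         map_comp := fun f g => congrArg QuotObj.Hom.top (Φ.map_comp f g) }
  π o := (Φ.obj o).π ≫ eqToHom (base_eq Φ o)
  cart f := (Φ.map f).cart.paste_vert (IsPullback.of_vert_isIso ⟨map_base Φ f⟩)

/-- Gluing of objects of `[X/G]` -/
theorem nonempty_eff [IsAffineHom G.hom] [K.HasIsos] [K.IsStableUnderBaseChange]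
    [K.IsStableUnderComposition] (hK : K ≤ Scheme.fpqcPrecoverage) (hR : R ∈ QuotSh.J K S U) :
    Nonempty (K751.Test.Eff Φ) := by
  have hR1 : Sieve.overEquiv U R ∈ Scheme.fpqcTopology U.left := Precoverage.toGrothendieck_mono hK _ hR
  have hR2 : R ∈ (Scheme.fpqcTopology.over S) U := hR1
  have haff : ∀ o : R.arrows.category, IsAffineHom ((dat Φ).π o).left := by
    intro o
    have := isAffineHom_quotObj hK (Φ.obj o)
    have h2 : ((dat Φ).π o).left = (Φ.obj o).π.left ≫ (eqToHom (base_eq Φ o)).left := rfl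
    rw [h2]
    infer_instance
  obtain ⟨P, p, hp, c, hc1, hc2⟩ := exists_descent (dat Φ) @IsAffineHom hR1 haff
    (fun o => by have := haff o; exact quasiAffine_of_affine _)
  let κ : Cov (dat Φ) p := ⟨c, hc1, hc2⟩
  obtain ⟨a, ha, hcart⟩ := exists_action κ hR2 (fun o => (Φ.obj o).act) (fun f => (Φ.map f).eqv)
    (fun o => isPullback_comp_iso (Φ.obj o).cart (eqToHom (base_eq Φ o)))
  obtain ⟨φ, hφ, -⟩ := κ.existsUnique_desc hR2 (Z := X) (fun o => (Φ.obj o).φ) (fun f => (Φ.map f).wφ)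
  let x : QuotObj K G aX :=
    { base := U
      P := P
      act := a
      π := p
      cart := hcart
      loc := by
        apply isLocallyTrivialFor_of_cov κ hR
        intro o
        refine isLocallyTrivialFor_of_isPullback (T := (Φ.obj o).base) (T' := o.obj.left) (P := (Φ.obj o).P)
          (P' := (Φ.obj o).P) (π := (Φ.obj o).π) (f := eqToHom (base_eq Φ o).symm) (t := 𝟙 _) ?_ (Φ.obj o).loc
        refine IsPullback.of_horiz_isIso ⟨?_⟩
        change 𝟙 _ ≫ (Φ.obj o).π = ((Φ.obj o).π ≫ eqToHom (base_eq Φ o)) ≫ eqToHom (base_eq Φ o).symm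
        simp
      φ := φ
      eqv := by
        apply (tensCov G κ).ext_hom hR2
        intro o
        change (G ◁ κ.c o) ≫ a.act ≫ φ = (G ◁ κ.c o) ≫ (G ◁ φ) ≫ aX.act
        rw [← Category.assoc, ← ha o, Category.assoc, hφ o, (Φ.obj o).eqv, ← MonoidalCategory.whiskerLeft_comp_assoc,
          hφ o] }
  let l : ∀ o : R.arrows.category, Φ.obj o ⟶ x := fun o =>
    { base := eqToHom (base_eq Φ o) ≫ o.obj.hom
      top := κ.c o
      eqv := ha o
      cart := by
        refine IsPullback.of_iso (κ.cart o) (Iso.refl _) (Iso.refl _) (eqToIso (base_eq Φ o)).symm (Iso.refl _)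
          ?_ ?_ ?_ ?_
        · simp
        · change ((Φ.obj o).π ≫ eqToHom (base_eq Φ o)) ≫ eqToHom (base_eq Φ o).symm = 𝟙 _ ≫ (Φ.obj o).π
          simp
        · simp [x]
        · simp
      wφ := hφ o }
  refine ⟨⟨x, l, fun o => ?_, fun {o o'} f => ?_, rfl⟩⟩
  · have h1 : (QuotSt K G aX).p.IsHomLift (eqToHom (base_eq Φ o) ≫ o.obj.hom) (l o) := (isHomLift_iff _ _).2 rfl
    have h2 : eqToHom (base_eq Φ o).symm ≫ eqToHom (base_eq Φ o) ≫ o.obj.hom = o.obj.hom := by simp
    rw [← h2]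
    infer_instance
  · apply QuotObj.hom_ext
    · change (Φ.map f).base ≫ eqToHom (base_eq Φ o') ≫ o'.obj.hom = eqToHom (base_eq Φ o) ≫ o.obj.hom
      rw [← Category.assoc, map_base, Category.assoc, Over.w f.hom]
    · exact κ.nat f

/-- **`[X/G]` is a stack** for an affine group scheme `G` over `S` (any `X`), for `K` the fpqc precoverage or a smaller one. -/
theorem isStack_quotSt [IsAffineHom G.hom] [K.HasIsos] [K.IsStableUnderBaseChange]
    [K.IsStableUnderComposition] (hK : K ≤ Scheme.fpqcPrecoverage) (aX : AlgGrp.Action G X) :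
    Stk.IsStack (QuotSh.J K S) (QuotSt K G aX) := by
  have hsub : (QuotSh.J K S).Subcanonical := by
    have : K.toGrothendieck.Subcanonical := .of_le (Precoverage.toGrothendieck_mono hK)
    infer_instance
  exact (K751.Test.isStack_iff _).2 ⟨QuotPre.isPrestack_quotSt K G aX _, fun U R hR Φ => nonempty_eff Φ hK hR⟩

end Obj

end K750.QuotEff
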