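import Groth.Agent.AlgSt.K750.Cone
import Groth.Agent.AlgSt.K750.TorsPts
import Groth.Agent.StCoh.K998.QuotFib
import Groth.Agent.Stk.K751.Test

/-!
# Morphisms of `[X/G]` glue (helper750)

`isPrestack_quotSt`: for every topology `J` on `Over S` which is subcanonical, `[X/G]` (with torsors for a precoverage `K` stable
under base change) is a prestack for `J`.
-/

set_option autoImplicit false
set_option backward.isDefEq.respectTransparency false
set_option backward.isDefEq.respectTransparency.types false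

universe u

open CategoryTheory CategoryTheory.Limits MonoidalCategory CartesianMonoidalCategory MonObj GrpObj AlgebraicGeometry
open AlgSt K750.Fam K750.Cone K750.TorsPts K998.QuotFib

namespace K750.QuotPre

variable {S : Scheme.{u}} {K : Precoverage Scheme.{u}} {G : Over S} [GrpObj G] {X : Over S} {aX : AlgGrp.Action G X}
  {J : GrothendieckTopology (Over S)} [J.Subcanonical]

section Pull

variable [K.IsStableUnderBaseChange] (x : QuotObj K G aX) {R : Sieve x.base}

/-- the base change of `x` along an arrow -/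
noncomputable abbrev zObj (o : R.arrows.category) : QuotObj K G aX :=
  pull x (f := o.obj.hom) (IsPullback.of_hasPullback x.π o.obj.hom)

/-- the canonical morphism from the base change -/
noncomputable abbrev zHom (o : R.arrows.category) : zObj x o ⟶ x :=
  pullHom x (f := o.obj.hom) (IsPullback.of_hasPullback x.π o.obj.hom)

theorem exists_zMap {o o' : R.arrows.category} (f : o ⟶ o') :
    ∃ h : zObj x o ⟶ zObj x o', h.base = f.hom.left ∧ h ≫ zHom x o' = zHom x o ∧ h.top = (pullDat R x.π).D.map f := by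
  obtain ⟨χ, ⟨h1, h2⟩, -⟩ := existsUnique_fac (a' := zObj x o) (zHom x o')
    (f.hom.left : (zObj x o).base ⟶ (zObj x o').base) (zHom x o) (Over.w f.hom).symm
  refine ⟨χ, h1, h2, ?_⟩
  have h3 : χ.top ≫ pullback.fst x.π o'.obj.hom = pullback.fst x.π o.obj.hom :=
    congrArg QuotObj.Hom.top h2
  have h4 : χ.top ≫ pullback.snd x.π o'.obj.hom = pullback.snd x.π o.obj.hom ≫ f.hom.left := by
    have := χ.cart.w
    rw [h1] at this
    exact this
  apply pullback.hom_ext
  · rw [h3]; simp [pullDat]
  · rw [h4]; simp [pullDat]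

end Pull

/-- Gluing an equivariant morphism. -/
theorem eqv_of_cov {U P B : Over S} {R : Sieve U} (hR : R ∈ J U) {𝒟 : Dat R} {π : P ⟶ U} (κ : Cov 𝒟 π)
    (aP : AlgGrp.Action G P) (aB : AlgGrp.Action G B)
    (aD : ∀ o, AlgGrp.Action G (𝒟.D.obj o)) (hD : ∀ o, (aD o).act ≫ κ.c o = (G ◁ κ.c o) ≫ aP.act) (n : P ⟶ B)
    (hn : ∀ o, (aD o).act ≫ κ.c o ≫ n = (G ◁ (κ.c o ≫ n)) ≫ aB.act) : aP.act ≫ n = (G ◁ n) ≫ aB.act := by
  apply eqv_of_act
  intro T γ p
  apply ext_over (J := J) (p ≫ π) hR
  intro T' t ht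
  have h1 : (t ≫ p) ≫ π = 𝟙 T' ≫ (mk' (t ≫ p ≫ π) ht).obj.hom := by simp
  have h2 := κ.pt_c (mk' (t ≫ p ≫ π) ht) (t ≫ p) (𝟙 T') h1
  rw [← Category.assoc, comp_act, comp_act, ← Category.assoc t p n, ← h2, ← act_eqv _ _ _ (hD _), Category.assoc,
    act_eqv _ _ _ (hn _), Category.assoc]

/-- morphisms of `[X/G]` glue -/
theorem glueFrom [K.IsStableUnderBaseChange] (x : QuotObj K G aX) (R : Sieve x.base) (hR : R ∈ J x.base) :
    K751.Test.GlueFrom (QuotSt K G aX).p x R := by
  intro y g φ hφ hnat
  have hφ' : ∀ {z : QuotObj K G aX} (a : z ⟶ x) (ha : R a.base), (φ a ha).base = a.base ≫ g := fun a ha => hφ a ha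
  let κ := pullCov R x.π
  have ho : ∀ o : R.arrows.category, R (zHom x o).base := fun o => o.property
  have hm : ∀ {o o' : R.arrows.category} (f : o ⟶ o'),
      (pullDat R x.π).D.map f ≫ (φ (zHom x o') (ho o')).top = (φ (zHom x o) (ho o)).top := by
    intro o o' f
    obtain ⟨h, -, h2, h3⟩ := exists_zMap x f
    have h4 : R ((QuotSt K G aX).p.map (h ≫ zHom x o')) := by
      rw [h2]; exact ho o
    have h5 := hnat h (zHom x o') (ho o') h4
    have h6 : φ (h ≫ zHom x o') h4 = φ (zHom x o) (ho o) := by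
      congr 1
    rw [h6] at h5
    rw [h5, ← h3]
    rfl
  obtain ⟨n, hn, hn'⟩ := κ.existsUnique_desc hR (Z := y.P) (fun o => (φ (zHom x o) (ho o)).top) hm
  let ψ : x ⟶ y :=
    { base := g
      top := n
      eqv := by
        refine eqv_of_cov (J := J) hR κ x.act y.act (fun o => (zObj x o).act)
          (fun o => (zHom x o).eqv) n (fun o => ?_)
        rw [hn o]
        exact (φ (zHom x o) (ho o)).eqv
      cart := by
        apply κ.isPullback hR n
        intro o
        rw [hn o]
        have h1 := (φ (zHom x o) (ho o)).cart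
        rw [hφ' (zHom x o) (ho o)] at h1
        exact h1
      wφ := by
        apply κ.ext_hom hR
        intro o
        rw [← Category.assoc, hn o]
        exact (φ (zHom x o) (ho o)).wφ }
  refine ⟨ψ, ⟨rfl, fun z a ha => ?_⟩, ?_⟩
  · have ha' : R a.base := ha
    obtain ⟨χ, ⟨h1, h2⟩, -⟩ := existsUnique_fac (a' := z) (zHom x (mk' a.base ha')) (𝟙 z.base) a
      (Category.id_comp _).symm
    have h4 : R ((QuotSt K G aX).p.map (χ ≫ zHom x (mk' a.base ha'))) := by
      rw [h2]; exact ha
    have h5 := hnat χ (zHom x (mk' a.base ha')) ha' h4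
    have h6 : φ (χ ≫ zHom x (mk' a.base ha')) h4 = φ a ha := by
      congr 1
    rw [h6] at h5
    apply QuotObj.hom_ext
    · exact (hφ' a ha).symm
    · rw [h5]
      change a.top ≫ n = χ.top ≫ (φ (zHom x (mk' a.base ha')) ha').top
      rw [← hn (mk' a.base ha')]
      have h7 : χ.top ≫ κ.c (mk' a.base ha') = a.top := congrArg QuotObj.Hom.top h2
      rw [← Category.assoc, h7]
  · rintro ψ' ⟨h1, h2⟩
    apply QuotObj.hom_ext
    · exact h1
    · apply hn'
      intro o
      have h3 := h2 (zHom x o) (ho o)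
      exact congrArg QuotObj.Hom.top h3

variable (K G aX J) in
/-- `[X/G]` is a prestack. -/
theorem isPrestack_quotSt [K.IsStableUnderBaseChange] : Stk.IsPrestack J (QuotSt K G aX) :=
  (K751.Test.isPrestack_iff J).2 ⟨isFibGrpd_quotSt K G aX, fun x R hR => glueFrom x R hR⟩

end K750.QuotPre
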