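import Groth.Prelude.Def_StGerb2
import Groth.Agent.AlgSt.K739.Diag

/-!
# The group of automorphisms of an object of a fibred category, as a presheaf of groups
-/

set_option autoImplicit false
set_option backward.isDefEq.respectTransparency false
set_option backward.isDefEq.respectTransparency.types false

universe w₂ v₂ w₁ v₁ w v u

open CategoryTheory CategoryTheory.Limits Opposite

namespace K750.AutGrp

open K739.Psh

variable {C : Type u} [Category.{v} C] {𝒳 : BasedCategory.{v₂, w₂} C}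

theorem lift_autO {z : 𝒳.obj} {V : C} (hz : 𝒳.p.obj z = V) (α : Gerb.AutO z) :
    𝒳.p.IsHomLift (𝟙 V) α.hom.1 := by
  subst hz
  exact α.hom.2

theorem autO_ext {z : 𝒳.obj} {α β : Gerb.AutO z} (h : α.hom.1 = β.hom.1) : α = β :=
  Aut.ext (Functor.Fiber.hom_ext h)

@[simp] theorem autO_mul {z : 𝒳.obj} (α β : Gerb.AutO z) : (α * β).hom.1 = β.hom.1 ≫ α.hom.1 := rfl

@[simp] theorem autO_one {z : 𝒳.obj} : (1 : Gerb.AutO z).hom.1 = 𝟙 z := rfl

/-- The automorphism of `z` from an endomorphism over the identity. -/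
noncomputable def mk (h𝒳 : FibCat.IsFibGrpd 𝒳.p) {z : 𝒳.obj} {V : C} (hz : 𝒳.p.obj z = V) (a : z ⟶ z)
    (ha : 𝒳.p.IsHomLift (𝟙 V) a) : Gerb.AutO z := by
  subst hz
  haveI := ha
  haveI : IsIso a := isIso_of_id (R := 𝒳.p.obj z) h𝒳 a
  haveI : 𝒳.p.IsHomLift (𝟙 (𝒳.p.obj z)) (inv a) := IsHomLift.lift_id_inv_isIso _ _ _
  exact
    { hom := ⟨a, ha⟩
      inv := ⟨inv a, inferInstance⟩
      hom_inv_id := Functor.Fiber.hom_ext (IsIso.hom_inv_id a)
      inv_hom_id := Functor.Fiber.hom_ext (IsIso.inv_hom_id a) }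

@[simp] theorem mk_hom (h𝒳 : FibCat.IsFibGrpd 𝒳.p) {z : 𝒳.obj} {V : C} (hz : 𝒳.p.obj z = V) (a : z ⟶ z)
    (ha : 𝒳.p.IsHomLift (𝟙 V) a) : (mk h𝒳 hz a ha).hom.1 = a := by
  subst hz
  rfl

variable {U : C} (x : FibCat.overCat U ⥤ᵇ 𝒳) (h𝒳 : FibCat.IsFibGrpd 𝒳.p)

theorem lift_map {T' T : Over U} (h : T' ⟶ T) : 𝒳.p.IsHomLift h.left (x.map h) := by
  have h1 : (FibCat.overCat U).p.IsHomLift h.left h := IsHomLift.map (FibCat.overCat U).p h
  exact BasedFunctor.preserves_isHomLift x h.left h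

include h𝒳 in
theorem exists_res {T' T : Over U} (h : T' ⟶ T) (α : Gerb.AutO (x.obj T)) :
    ∃ β : Gerb.AutO (x.obj T'), β.hom.1 ≫ x.map h = x.map h ≫ α.hom.1 := by
  have h1 := lift_map x h
  have h2 : 𝒳.p.IsHomLift (𝟙 T.left) α.hom.1 := lift_autO (x.w_obj T) α
  have h3 : 𝒳.p.IsHomLift (𝟙 T'.left ≫ h.left) (x.map h ≫ α.hom.1) := by
    rw [Category.id_comp, ← Category.comp_id h.left]
    infer_instance
  obtain ⟨ψ, hψ, e⟩ := exists_fac h𝒳 h.left (x.map h) (𝟙 T'.left) (x.map h ≫ α.hom.1) h3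
  exact ⟨mk h𝒳 (x.w_obj T') ψ hψ, by rw [mk_hom]; exact e⟩

/-- restriction of automorphisms -/
noncomputable def res {T' T : Over U} (h : T' ⟶ T) (α : Gerb.AutO (x.obj T)) : Gerb.AutO (x.obj T') :=
  (exists_res x h𝒳 h α).choose

theorem res_spec {T' T : Over U} (h : T' ⟶ T) (α : Gerb.AutO (x.obj T)) :
    (res x h𝒳 h α).hom.1 ≫ x.map h = x.map h ≫ α.hom.1 := (exists_res x h𝒳 h α).choose_spec

theorem eq_res {T' T : Over U} (h : T' ⟶ T) (α : Gerb.AutO (x.obj T)) (β : Gerb.AutO (x.obj T'))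
    (e : β.hom.1 ≫ x.map h = x.map h ≫ α.hom.1) : β = res x h𝒳 h α :=
  autO_ext (cancel_id h𝒳 (x.map h) _ _ (lift_autO (x.w_obj T') β) (lift_autO (x.w_obj T') _)
    (e.trans (res_spec x h𝒳 h α).symm))

/-- restriction as a homomorphism -/
noncomputable def resHom {T' T : Over U} (h : T' ⟶ T) : Gerb.AutO (x.obj T) →* Gerb.AutO (x.obj T') where
  toFun := res x h𝒳 h
  map_one' := (eq_res x h𝒳 h 1 1 (by
    rw [autO_one, autO_one]
    erw [Category.id_comp, Category.comp_id])).symm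
  map_mul' α β := (eq_res x h𝒳 h (α * β) _ (by
    rw [autO_mul, autO_mul, Category.assoc, res_spec, ← Category.assoc, res_spec, Category.assoc])).symm

@[simp] theorem resHom_apply {T' T : Over U} (h : T' ⟶ T) (α : Gerb.AutO (x.obj T)) :
    resHom x h𝒳 h α = res x h𝒳 h α := rfl

theorem res_id (T : Over U) (α : Gerb.AutO (x.obj T)) : res x h𝒳 (𝟙 T) α = α := (eq_res x h𝒳 (𝟙 T) α α (by
  have : x.map (𝟙 T) = 𝟙 _ := x.toFunctor.map_id T
  rw [this]
  erw [Category.id_comp, Category.comp_id])).symm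

theorem res_comp {T'' T' T : Over U} (h : T' ⟶ T) (h' : T'' ⟶ T') (α : Gerb.AutO (x.obj T)) :
    res x h𝒳 (h' ≫ h) α = res x h𝒳 h' (res x h𝒳 h α) := (eq_res x h𝒳 (h' ≫ h) α _ (by
  have : x.map (h' ≫ h) = x.map h' ≫ x.map h := x.toFunctor.map_comp _ _
  rw [this, ← Category.assoc, res_spec, Category.assoc, res_spec, Category.assoc])).symm

/-- the presheaf of automorphisms -/
noncomputable def psh : (Over U)ᵒᵖ ⥤ GrpCat.{v₂} where
  obj T := GrpCat.of (Gerb.AutO (x.obj T.unop))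
  map h := GrpCat.ofHom (resHom x h𝒳 h.unop)
  map_id T := by
    apply GrpCat.hom_ext
    apply MonoidHom.ext
    intro α
    exact res_id x h𝒳 T.unop α
  map_comp h h' := by
    apply GrpCat.hom_ext
    apply MonoidHom.ext
    intro α
    exact res_comp x h𝒳 h.unop h'.unop α

/-- the tautological representation -/
noncomputable def autRep : Gerb.AutRep x (psh x h𝒳) where
  iso _ := MulEquiv.refl _
  natural h a := res_spec x h𝒳 h a

end K750.AutGrp
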