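import Groth.Agent.AlgSt.K750.Twist
import Groth.Prelude.Def_StGerb2

/-!
# The functor `BG ⥤ᵇ 𝒳` attached to an `S`-point with automorphism group `G` (helper750)
-/

set_option autoImplicit false
set_option backward.isDefEq.respectTransparency false
set_option backward.isDefEq.respectTransparency.types false

universe v₂ u₂ u

open CategoryTheory CategoryTheory.Limits MonoidalCategory CartesianMonoidalCategory MonObj GrpObj AlgebraicGeometry
open AlgSt K750.TorsPts K750.Cone K751.FG Opposite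

namespace K750.TwistBG

open K750.Twist

variable {S : Scheme.{u}} {G : Over S} [GrpObj G] {𝒳 : BasedCategory.{v₂, u₂} (Over S)}

/-- the terminal `S`-scheme -/
abbrev T₀ (S : Scheme.{u}) : Over S := Over.mk (𝟙 S)

/-- the structure morphism -/
abbrev tm (V : Over S) : V ⟶ T₀ S := Over.homMk V.hom (Category.comp_id _)

theorem tm_unique {V : Over S} (f g : V ⟶ T₀ S) : f = g := Over.mkIdTerminal.hom_ext _ _

/-- objects of `Over T₀` -/
abbrev ov (V : Over S) : Over (T₀ S) := Over.mk (tm V)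

/-- morphisms of `Over T₀` -/
abbrev om {V' V : Over S} (f : V' ⟶ V) : ov V' ⟶ ov V := Over.homMk f (tm_unique _ _)

variable (x : FibCat.overCat (T₀ S) ⥤ᵇ 𝒳) (r : Gerb.AutRep x (Gerb.ptsGrp (T₀ S) G))

theorem lift_autO {z : 𝒳.obj} {V : Over S} (hz : 𝒳.p.obj z = V) (α : Gerb.AutO z) :
    𝒳.p.IsHomLift (𝟙 V) α.hom.1 := by
  subst hz
  exact α.hom.2

/-- the `S`-point `x` with its automorphism group -/
noncomputable def ofPt : Act G 𝒳 where
  X V := x.obj (ov V)
  xm f := x.map (om f)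
  xm_lift {V' V} f := by
    have h1 : (FibCat.overCat (T₀ S)).p.IsHomLift f (om f) :=
      IsHomLift.map (FibCat.overCat (T₀ S)).p (om f)
    exact BasedFunctor.preserves_isHomLift x f (om f)
  xm_id V := by
    have : om (𝟙 V) = 𝟙 (ov V) := by ext; rfl
    rw [this]
    exact x.toFunctor.map_id _
  xm_comp f g := by
    have : om (f ≫ g) = om f ≫ om g := by ext; rfl
    rw [this]
    exact x.toFunctor.map_comp _ _
  ρ {V} g := (r.iso (ov V) g).hom.1
  ρ_lift {V} g := lift_autO (x.w_obj (ov V)) _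
  ρ_one V := by
    have := (r.iso (ov V)).map_one
    exact congrArg (fun z : Gerb.AutO (x.obj (ov V)) => z.hom.1) this
  ρ_mul {V} g h := by
    have := (r.iso (ov V)).map_mul g h
    exact congrArg (fun z : Gerb.AutO (x.obj (ov V)) => z.hom.1) this
  ρ_nat {V' V} f g := r.natural (om f) g

theorem isFull_ofPt (h𝒳 : FibCat.IsFibGrpd 𝒳.p) : (ofPt x r).IsFull := by
  intro V a ha
  have h0 : 𝒳.p.obj (x.obj (ov V)) = V := x.w_obj (ov V)
  have hiso : IsIso a := isIso_of_lift_id h𝒳 a ha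
  have h1 : ∀ (z : 𝒳.obj) (a : z ⟶ z) (W : Over S) (_ : 𝒳.p.obj z = W), 𝒳.p.IsHomLift (𝟙 W) a →
      𝒳.p.IsHomLift (𝟙 (𝒳.p.obj z)) a := by
    intro z a W hW h
    subst hW
    exact h
  have ha' : 𝒳.p.IsHomLift (𝟙 (𝒳.p.obj (x.obj (ov V)))) a := h1 _ a V h0 ha
  have hinv : 𝒳.p.IsHomLift (𝟙 (𝒳.p.obj (x.obj (ov V)))) (inv a) := IsHomLift.lift_id_inv_isIso _ _ _
  let α : Gerb.AutO (x.obj (ov V)) :=
    { hom := ⟨a, ha'⟩
      inv := ⟨inv a, hinv⟩
      hom_inv_id := by
        apply Functor.Fiber.hom_ext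
        exact IsIso.hom_inv_id a
      inv_hom_id := by
        apply Functor.Fiber.hom_ext
        exact IsIso.inv_hom_id a }
  refine ⟨(r.iso (ov V)).symm α, ?_, ?_⟩
  · change ((r.iso (ov V)) ((r.iso (ov V)).symm α)).hom.1 = a
    rw [MulEquiv.apply_symm_apply]
  · intro g hg
    have hg' : (r.iso (ov V) g).hom.1 = a := hg
    have h2 : r.iso (ov V) g = α := by
      apply Aut.ext
      apply Functor.Fiber.hom_ext
      exact hg'
    rw [← h2, MulEquiv.symm_apply_apply]

variable {K : Precoverage Scheme.{u}} [K.HasIsos] (h𝒳 : Stk.IsStack (QuotSh.J K S) 𝒳)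

/-- the point of the trivial torsor -/
noncomputable abbrev e1 (V : Over S) : V ⟶ G ⊗ V := lift (1 : V ⟶ G) (𝟙 V)

/-- comparison with the canonical object -/
abbrev σ₀ (a : (ofSch (T₀ S)).obj) : (toOverCat (T₀ S)).obj a ⟶ ov a.base := Over.homMk (𝟙 a.base) (tm_unique _ _)

/-- the restriction of the twisting functor to trivial torsors -/
theorem nonempty_iso : Nonempty (BasedFunctor.comp (quotMap K G (trivAction G)) (tFun (ofPt x r) h𝒳) ≅
    BasedFunctor.comp (toOverCat (T₀ S)) x) := by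
  let α : BasedFunctor.comp (toOverCat (T₀ S)) x ⟶ BasedFunctor.comp (quotMap K G (trivAction G)) (tFun (ofPt x r) h𝒳) :=
    mkNatTrans (fun a => x.map (σ₀ a) ≫
        (yτ (ofPt x r) h𝒳 ((quotMap K G (trivAction G)).obj a)).θ (e1 a.base))
      (fun a => by
        have h1 : (FibCat.overCat (T₀ S)).p.IsHomLift (𝟙 a.base) (σ₀ a) :=
          IsHomLift.map (FibCat.overCat (T₀ S)).p (σ₀ a)
        have h2 : 𝒳.p.IsHomLift (𝟙 a.base) (x.map (σ₀ a)) := BasedFunctor.preserves_isHomLift x (𝟙 a.base) (σ₀ a)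
        have h3 := (yτ (ofPt x r) h𝒳 ((quotMap K G (trivAction G)).obj a)).lift (e1 a.base)
        have h4 : e1 a.base ≫ ((quotMap K G (trivAction G)).obj a).π ≫ 𝟙 _ = 𝟙 a.base := by
          rw [Category.comp_id]
          exact lift_snd _ _
        rw [h4] at h3
        exact IsHomLift.comp_lift_id_left 𝒳.p (𝟙 a.base) _ _)
      (fun {a b} f => by
        have e1' : (toOverCat (T₀ S)).map f ≫ σ₀ b = σ₀ a ≫ om f.hom := by
          apply Over.OverMorphism.ext
          change f.hom ≫ 𝟙 _ = 𝟙 _ ≫ f.hom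
          simp
        have e2 : x.map ((toOverCat (T₀ S)).map f) ≫ x.map (σ₀ b) = x.map (σ₀ a) ≫ x.map (om f.hom) := by
          rw [← Functor.map_comp, e1', Functor.map_comp]
        change x.map ((toOverCat (T₀ S)).map f) ≫ x.map (σ₀ b) ≫ _ =
          (x.map (σ₀ a) ≫ _) ≫ ym (ofPt x r) h𝒳 ((quotMap K G (trivAction G)).map f)
        rw [← Category.assoc, e2, Category.assoc, Category.assoc]
        congr 1
        refine ((yτ (ofPt x r) h𝒳 ((quotMap K G (trivAction G)).obj b)).comp f.hom (e1 b.base)).symm.trans ?_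
        refine Eq.trans ?_ (θ_ym (ofPt x r) h𝒳 ((quotMap K G (trivAction G)).map f) (e1 a.base)).symm
        congr 1
        change f.hom ≫ e1 b.base = e1 a.base ≫ (G ◁ f.hom)
        apply CartesianMonoidalCategory.hom_ext
        · rw [Category.assoc, lift_fst, comp_one, Category.assoc, whiskerLeft_fst, lift_fst]
        · rw [Category.assoc, lift_snd, Category.assoc, whiskerLeft_snd, lift_snd_assoc, Category.id_comp,
            Category.comp_id])
  have : IsIso α := isIso_natTrans h𝒳.1 α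
  exact ⟨(asIso α).symm⟩

include h𝒳 r in
/-- **A point with its automorphism group gives a fully faithful functor `BG ⥤ᵇ 𝒳`.** -/
theorem exists_fullyFaithful [(QuotSh.J K S).Subcanonical] :
    ∃ F : BG K G ⥤ᵇ 𝒳, F.toFunctor.Full ∧ F.toFunctor.Faithful ∧
      Nonempty (BasedFunctor.comp (quotMap K G (trivAction G)) F ≅ BasedFunctor.comp (toOverCat (T₀ S)) x) :=
  ⟨tFun (ofPt x r) h𝒳, full_tFun h𝒳 (isFull_ofPt x r h𝒳.1) (fun _ => toUnit_unique _ _),
    faithful_tFun h𝒳 (isFull_ofPt x r h𝒳.1), nonempty_iso x r h𝒳⟩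

end K750.TwistBG
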