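import Groth.Agent.AlgSt.K750.AutGrp
import Groth.Agent.AlgSt.K738.Agree
import Groth.Agent.AlgSt.K735.Fp

/-!
# The locus where an automorphism of an object of a stack with separated diagonal is trivial is closed
-/

set_option autoImplicit false
set_option backward.isDefEq.respectTransparency false
set_option backward.isDefEq.respectTransparency.types false

universe w v u

open CategoryTheory CategoryTheory.Limits AlgebraicGeometry Opposite
open AlgSp

namespace K750.AutLoc

open K739.Psh K739.Isom K739.Diag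

variable {S : Scheme.{u}}

/-- Two sections of a separated algebraic space over `h_W` with the same image in `h_W` agree on a closed subscheme. -/
theorem exists_agree {F : Sp S} {W : Over S} (q : F ⟶ (yon S).obj W) (hq : AlgSp.IsSeparatedMor q) {U : Over S}
    (σ₁ σ₂ : F.obj.obj (op U)) (h : q.hom.app (op U) σ₁ = q.hom.app (op U) σ₂) :
    ∃ (V : Over S) (i : V ⟶ U), IsClosedImmersion i.left ∧
      ∀ {T : Over S} (t : T ⟶ U), F.obj.map t.op σ₁ = F.obj.map t.op σ₂ ↔ ∃ t' : T ⟶ V, t' ≫ i = t := by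
  have hw : ((J S).uliftYonedaEquiv.symm σ₁ : (yon S).obj U ⟶ F) ≫ q =
      ((J S).uliftYonedaEquiv.symm σ₂ : (yon S).obj U ⟶ F) ≫ q := by
    apply (J S).uliftYonedaEquiv.injective
    rw [GrothendieckTopology.uliftYonedaEquiv_comp, GrothendieckTopology.uliftYonedaEquiv_comp,
      Equiv.apply_symm_apply, Equiv.apply_symm_apply]
    exact h
  obtain ⟨V, i, fst, sq⟩ := hq.1 (pullback.lift ((J S).uliftYonedaEquiv.symm σ₁) ((J S).uliftYonedaEquiv.symm σ₂) hw)
  have hc : IsClosedImmersion i.left := hq.2 _ fst i sq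
  have h1 : fst = (yon S).map i ≫ (J S).uliftYonedaEquiv.symm σ₁ := by
    have := congrArg (· ≫ pullback.fst q q) sq.w
    simpa using this
  have h2 : fst = (yon S).map i ≫ (J S).uliftYonedaEquiv.symm σ₂ := by
    have := congrArg (· ≫ pullback.snd q q) sq.w
    simpa using this
  refine ⟨V, i, hc, fun {T} t => ⟨fun ht => ?_, ?_⟩⟩
  · rw [K738.map_eq_iff] at ht
    obtain ⟨t', ht'⟩ := (yon S).map_surjective (sq.lift
      ((yon S).map t ≫ (J S).uliftYonedaEquiv.symm σ₁) ((yon S).map t) (by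
        apply pullback.hom_ext
        · simp
        · simpa using ht))
    refine ⟨t', (yon S).map_injective ?_⟩
    rw [Functor.map_comp, ht', sq.lift_snd]
  · rintro ⟨t', rfl⟩
    rw [K738.map_eq_iff, Functor.map_comp, Category.assoc, Category.assoc, ← h1, ← h2]

variable {𝒳 : BasedCategory.{u, w} (Over S)} (h𝒳 : FibCat.IsFibGrpd 𝒳.p) {W : Over S}
  (x : FibCat.overCat W ⥤ᵇ 𝒳)

/-- the section of an automorphism -/
noncomputable def ofAut {T : Over W} (α : Gerb.AutO (x.obj T)) :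
    Sec (FibCat.toSelf 𝒳) x x (Iso.refl _) T.left where
  u := T.hom
  ψ := α.hom.1
  lift := AutGrp.lift_autO (x.w_obj T) α
  comp := by
    change 𝒳.p.map α.hom.1 = 𝟙 _
    have h := @IsHomLift.fac' _ _ _ _ 𝒳.p _ _ _ _ (𝟙 (𝒳.p.obj (x.obj T))) α.hom.1 α.hom.2
    simpa using h

theorem isRes_ofAut {T' T : Over W} (t : T' ⟶ T) (α : Gerb.AutO (x.obj T)) (β : Gerb.AutO (x.obj T')) :
    IsRes t.left (ofAut x α) (ofAut x β) ↔ β = AutGrp.res x h𝒳 t α := by
  constructor
  · rintro ⟨h1, h2⟩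
    exact AutGrp.eq_res x h𝒳 t α β h2.symm
  · rintro rfl
    exact ⟨Over.w t, (AutGrp.res_spec x h𝒳 t α).symm⟩

/-- **The locus where an automorphism is trivial is closed.** -/
theorem exists_closed (hsep : AlgSt.RepByAlgSpWith AlgSp.IsSeparatedMor (FibCat.diag (FibCat.toSelf 𝒳)))
    (T : Over W) (α : Gerb.AutO (x.obj T)) :
    ∃ (Z : Scheme.{u}) (z : Z ⟶ T.left.left), IsClosedImmersion z ∧
      ∀ (T' : Over W) (t : T' ⟶ T), AutGrp.res x h𝒳 t α = 1 ↔ ∃ t' : T'.left.left ⟶ Z, t' ≫ z = t.left.left := by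
  have hS : FibCat.IsFibGrpd (FibCat.selfOver (Over S)).p := K735.Fp.isFibGrpd_selfOver
  have h := (repByAlgSpWith_diag_iff AlgSp.IsSeparatedMor (FibCat.toSelf 𝒳) h𝒳 hS).1 hsep W x x (Iso.refl _)
  obtain ⟨F, β, hq⟩ := h
  have hb : ∀ (γ : Gerb.AutO (x.obj T)), (β.hom ≫ toBase (FibCat.toSelf 𝒳) x x (Iso.refl _) h𝒳 hS).app (op T.left)
      (β.inv.app (op T.left) (ofAut x γ)) = ⟨T.hom⟩ := by
    intro γ
    change (toBase (FibCat.toSelf 𝒳) x x (Iso.refl _) h𝒳 hS).app (op T.left)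
      ((β.inv ≫ β.hom).app (op T.left) (ofAut x γ)) = ⟨T.hom⟩
    rw [Iso.inv_hom_id]
    rfl
  obtain ⟨V, i, hi, hV⟩ := exists_agree _ hq (β.inv.app (op T.left) (ofAut x α)) (β.inv.app (op T.left) (ofAut x 1))
    ((hb α).trans (hb 1).symm)
  refine ⟨V.left, i.left, hi, fun T' t => ?_⟩
  have h1 : AutGrp.res x h𝒳 t α = 1 ↔ ∃ t' : T'.left ⟶ V, t' ≫ i = t.left := by
    rw [← hV t.left]
    have h2 : ∀ γ : Gerb.AutO (x.obj T), F.obj.obj.map t.left.op (β.inv.app (op T.left) (ofAut x γ)) =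
        β.inv.app (op T'.left) (ofAut x (AutGrp.res x h𝒳 t γ)) := by
      intro γ
      have h3 := (map_eq_iff h𝒳 hS t.left (ofAut x γ) (ofAut x (AutGrp.res x h𝒳 t γ))).2
        ((isRes_ofAut h𝒳 x t γ _).2 rfl)
      rw [← h3]
      exact (congr($(β.inv.naturality t.left.op) (ofAut x γ))).symm
    rw [h2, h2]
    have h4 : AutGrp.res x h𝒳 t 1 = 1 := (AutGrp.resHom x h𝒳 t).map_one
    rw [h4]
    constructor
    · intro h5
      rw [h5]
    · intro h5
      have h6 := congrArg (β.hom.app (op T'.left)) h5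
      have h7 : ∀ s : Sec (FibCat.toSelf 𝒳) x x (Iso.refl _) T'.left,
          β.hom.app (op T'.left) (β.inv.app (op T'.left) s) = s := by
        intro s
        change (β.inv ≫ β.hom).app (op T'.left) s = s
        rw [Iso.inv_hom_id]
        rfl
      rw [h7, h7] at h6
      have h8 : ∀ (s s' : Sec (FibCat.toSelf 𝒳) x x (Iso.refl _) T'.left) (_ : s = s') (h : s.u = T'.hom)
          (h' : s'.u = T'.hom), secAt s h = secAt s' h' := by
        rintro s _ rfl h h'
        rfl
      have h9 := h8 _ _ h6 rfl rfl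
      apply AutGrp.autO_ext
      exact h9
  rw [h1]
  constructor
  · rintro ⟨t', ht'⟩
    exact ⟨t'.left, by rw [← Over.comp_left, ht']⟩
  · rintro ⟨t', ht'⟩
    refine ⟨Over.homMk t' ?_, ?_⟩
    · rw [← Over.w i, ← Category.assoc, ht', Over.w]
    · ext1
      exact ht'

end K750.AutLoc
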