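import Groth.Agent.SGA3x.K12.MonoNhd

/-!
# Closed subgroup functors of groups of multiplicative type: triviality is open

`Sb H`: a closed subgroup functor (closed under products and containing the unit) of a group scheme `H` over `X`.
`Sb.exists_nhd`: if `H` is of multiplicative type and of finite type, and the subgroup functor is trivial at a point,
then it is trivial in a neighbourhood of the point.
-/

set_option autoImplicit false
universe u
open CategoryTheory MonoidalCategory CartesianMonoidalCategory MonObj GrpObj AlgebraicGeometry Limits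

namespace K750.MTSub

open Groth.Agent Groth.Agent.Sga3.H827 Groth.Agent.Sga3B.DSPts Groth.Agent.Sga3B.InfConj
  Groth.Agent.Sga3B.InfConjFam KerAlg1 KerAlg2 KerAlg3 KerAlg4 KerPts KerLoc

/-- a closed subgroup functor -/
structure Sb {X : Scheme.{u}} (H : Over X) [GrpObj H] where
  /-- the points of the subgroup functor -/
  mem : ∀ (T : Over X), (T ⟶ H) → Prop
  one : ∀ T, mem T 1
  mul : ∀ (T : Over X) (x y : T ⟶ H), mem T x → mem T y → mem T (x * y)
  res : ∀ {T' T : Over X} (t : T' ⟶ T) (x : T ⟶ H), mem T x → mem T' (t ≫ x)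
  closed : ∀ (T : Over X) (x : T ⟶ H), ∃ (Z : Scheme.{u}) (z : Z ⟶ T.left), IsClosedImmersion z ∧
    ∀ (T' : Over X) (t : T' ⟶ T), mem T' (t ≫ x) ↔ ∃ t' : T'.left ⟶ Z, t' ≫ z = t.left

section triv

variable {X X' X'' : Scheme.{u}} {H : Over X} [GrpObj H]

/-- trivial over `ρ` -/
def Sb.TrivOver (N : Sb H) (ρ : X' ⟶ X) : Prop :=
  ∀ (T : Over X) (t : T.left ⟶ X'), t ≫ ρ = T.hom → ∀ x : T ⟶ H, N.mem T x → x = 1

theorem Sb.TrivOver.comp {N : Sb H} {ρ : X' ⟶ X} (h : N.TrivOver ρ) (g : X'' ⟶ X') : N.TrivOver (g ≫ ρ) :=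
  fun T t ht x hx => h T (t ≫ g) (by rw [Category.assoc, ht]) x hx

/-- Descent along a flat surjective morphism. -/
theorem Sb.TrivOver.of_flat {N : Sb H} {ρ : X' ⟶ X} (g : X'' ⟶ X') [Flat g] [Surjective g]
    (h : N.TrivOver (g ≫ ρ)) : N.TrivOver ρ := by
  intro T t ht x hx
  have h1 : Surjective (pullback.fst t g) := inferInstance
  have h3 : Epi (pullback.fst t g) := Flat.epi_of_flat_of_surjective _
  let π : Over.mk (pullback.fst t g ≫ T.hom) ⟶ T := Over.homMk (pullback.fst t g) rfl
  have h4 : π ≫ x = 1 := by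
    refine h _ (pullback.snd t g) ?_ _ (N.res π x hx)
    change pullback.snd t g ≫ g ≫ ρ = pullback.fst t g ≫ T.hom
    rw [← ht, ← Category.assoc, ← Category.assoc, pullback.condition]
  have h5 : Epi π := by
    have : Epi π.left := h3
    exact Over.epi_of_epi_left _
  rw [← cancel_epi π, h4, comp_one]

/-- Descent along a flat morphism whose range contains the range of `ρ`. -/
theorem Sb.TrivOver.of_range {N : Sb H} {ρ : X' ⟶ X} {V : Scheme.{u}} (v : V ⟶ X) [Flat v]
    (hv : Set.range ρ ⊆ Set.range v) (h : N.TrivOver v) : N.TrivOver ρ := by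
  have h1 : Surjective (pullback.fst ρ v) := by
    refine ⟨fun y => ?_⟩
    obtain ⟨z, hz⟩ := hv ⟨y, rfl⟩
    obtain ⟨w, hw, -⟩ := Scheme.Pullback.exists_preimage_pullback y z hz.symm
    exact ⟨w, hw⟩
  refine Sb.TrivOver.of_flat (pullback.fst ρ v) ?_
  rw [pullback.condition]
  exact h.comp _

end triv

section bc

variable {X X' : Scheme.{u}} {H : Over X} [GrpObj H]

/-- pulling back a closed subgroup functor along a base change composed with an isomorphism -/
noncomputable def Sb.bc (N : Sb H) (v : X' ⟶ X) {H' : Over X'} [GrpObj H'] (i : H' ⟶ Red.bc v H) [IsMonHom i] :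
    Sb H' where
  mem T x := N.mem ((Over.map v).obj T) ((bcEquiv v T H).symm (x ≫ i))
  one T := by
    rw [MonObj.one_comp, map_one]
    exact N.one _
  mul T x y hx hy := by
    rw [MonObj.mul_comp, map_mul]
    exact N.mul _ _ _ hx hy
  res {T' T} t x hx := by
    rw [Category.assoc, ← bcEquiv_symm_naturality]
    exact N.res _ _ hx
  closed T x := by
    obtain ⟨Z, z, hz, h⟩ := N.closed ((Over.map v).obj T) ((bcEquiv v T H).symm (x ≫ i))
    refine ⟨Z, z, hz, fun T' t => ?_⟩
    rw [Category.assoc, ← bcEquiv_symm_naturality]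
    exact h _ ((Over.map v).map t)

theorem Sb.bc_trivOver (N : Sb H) (v : X' ⟶ X) {H' : Over X'} [GrpObj H'] (i : H' ⟶ Red.bc v H) [IsMonHom i] [IsIso i]
    {X'' : Scheme.{u}} (ρ : X'' ⟶ X') : (N.bc v i).TrivOver ρ ↔ N.TrivOver (ρ ≫ v) := by
  constructor
  · intro h T t ht x hx
    let T' : Over X' := Over.mk (t ≫ ρ)
    let j : (Over.map v).obj T' ≅ T := Over.isoMk (Iso.refl _) (by
      change 𝟙 _ ≫ T.hom = (t ≫ ρ) ≫ v
      rw [Category.id_comp, Category.assoc, ht])
    have h1 : bcEquiv v T' H (j.hom ≫ x) ≫ inv i = 1 := by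
      refine h T' t rfl _ ?_
      change N.mem _ _
      rw [Category.assoc, IsIso.inv_hom_id, Category.comp_id, MulEquiv.symm_apply_apply]
      exact N.res _ _ hx
    have h2 : bcEquiv v T' H (j.hom ≫ x) = 1 := by
      have h3 : bcEquiv v T' H (j.hom ≫ x) = (bcEquiv v T' H (j.hom ≫ x) ≫ inv i) ≫ i := by
        rw [Category.assoc, IsIso.inv_hom_id, Category.comp_id]
      rw [h3, h1, MonObj.one_comp]
    rw [← cancel_epi j.hom, comp_one]
    exact (MulEquiv.map_eq_one_iff _).mp h2
  · intro h T t ht x hx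
    have h1 : (bcEquiv v T H).symm (x ≫ i) = 1 := by
      refine h ((Over.map v).obj T) t ?_ _ hx
      rw [← Category.assoc, ht]
      rfl
    rw [MulEquiv.map_eq_one_iff] at h1
    rw [← cancel_mono i, h1, MonObj.one_comp]

end bc

section ideal

variable {C : Type u} [CommRing C] {M : Type} [AddCommGroup M]
  (N : Sb (Red.DS (Spec (CommRingCat.of C)) M))

/-- `J` is the ideal of `N`. -/
def IsIdealOf (J : Ideal (MonoidAlgebra C (Multiplicative M))) : Prop :=
  ∀ (T : Over (Spec (CommRingCat.of C))) (x : T ⟶ Red.DS (Spec (CommRingCat.of C)) M), N.mem T x ↔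
    letI := algT T; ∀ j ∈ J, MonoidAlgebra.lift C Γ(T.left, ⊤) (Multiplicative M) (dsChar x) j = 0

theorem exists_ideal : ∃ J : Ideal (MonoidAlgebra C (Multiplicative M)), IsIdealOf N J := by
  obtain ⟨Z, z, hz, hZ⟩ := N.closed _ (univPt C M)
  obtain ⟨I, e, he⟩ := (IsClosedImmersion.Spec_iff (R := CommRingCat.of (MonoidAlgebra C (Multiplicative M)))
    (f := z)).1 hz
  refine ⟨I, fun T x => ?_⟩
  obtain ⟨t, rfl⟩ := exists_eq_comp_charPt x
  rw [hZ]
  have h0 : (∃ t' : T.left ⟶ Z, t' ≫ z = t.left) ↔ ∀ j ∈ I, gl t j = 0 := by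
    constructor
    · rintro ⟨t', ht'⟩ j hj
      have h1 : gl t = ((CommRingCat.ofHom (Ideal.Quotient.mk I)) ≫
          (Scheme.ΓSpecIso (CommRingCat.of (MonoidAlgebra C (Multiplicative M) ⧸ I))).inv ≫ (t' ≫ e.hom).appTop).hom := by
        unfold gl
        congr 1
        rw [← ht', he, ← Category.assoc t', Scheme.Hom.comp_appTop (t' ≫ e.hom),
          ← Scheme.ΓSpecIso_inv_naturality_assoc]
      rw [h1]
      change ((Scheme.ΓSpecIso (CommRingCat.of (MonoidAlgebra C (Multiplicative M) ⧸ I))).inv ≫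
        (t' ≫ e.hom).appTop).hom (Ideal.Quotient.mk I j) = 0
      rw [Ideal.Quotient.eq_zero_iff_mem.2 hj, map_zero]
    · intro h
      let ρ : MonoidAlgebra C (Multiplicative M) ⧸ I →+* Γ(T.left, ⊤) := Ideal.Quotient.lift I (gl t) h
      refine ⟨T.left.toSpecΓ ≫ Spec.map (CommRingCat.ofHom ρ) ≫ e.inv, ?_⟩
      rw [he, Category.assoc, Category.assoc, Iso.inv_hom_id_assoc, ← Spec.map_comp, ← toSpecΓ_gl t,
        ← CommRingCat.ofHom_comp]
      rfl
  rw [h0]
  refine forall₂_congr fun j _ => ?_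
  rw [gl_single]

variable {N} {J : Ideal (MonoidAlgebra C (Multiplicative M))}

lemma charPt_iff (hJ : IsIdealOf N J) {E : Type u} [CommRing E] [Algebra C E] (χ : Multiplicative M →* E) :
    N.mem _ (charPt (C := C) χ) ↔ ∀ j ∈ J, MonoidAlgebra.lift C E (Multiplicative M) χ j = 0 := by
  have h1 : charPt (C := C) χ = ptMap (MonoidAlgebra.lift C E (Multiplicative M) χ) ≫ univPt C M := by
    rw [univPt, ptMap_charPt]
    congr 1
    ext m
    simp
  rw [hJ, h1]
  refine forall₂_congr fun j _ => ?_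
  rw [← gl_single, gl_ptMap]
  exact map_eq_zero_iff _ (gPt_injective C E)

lemma isKer (hJ : IsIdealOf N J) : IsKer J where
  one := by
    rw [← charPt_iff hJ, K12.MonoNhd.charPt_one]
    exact N.one _
  mul := by
    intro E _ _ χ₁ χ₂ h₁ h₂
    rw [← charPt_iff hJ] at h₁ h₂ ⊢
    rw [charPt_mul]
    exact N.mul _ _ _ h₁ h₂

lemma red_top_of {Γ : Type} [CommGroup Γ] (E : Type u) [CommRing E] [Algebra C E] (x : MonoidAlgebra C Γ) :
    red C E (⊤ : Subgroup Γ) x = MonoidAlgebra.single 1 (algebraMap C E (MonoidAlgebra.lift C C Γ 1 x)) := by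
  induction x using MonoidAlgebra.induction_linear with
  | zero => simp
  | add x y hx hy => rw [map_add, map_add, map_add, hx, hy, ← MonoidAlgebra.single_add]
  | single m c =>
    rw [red_single, MonoidAlgebra.lift_single, MonoidHom.one_apply, smul_eq_mul, _root_.mul_one]
    congr 1
    exact (QuotientGroup.eq_one_iff m).2 (Subgroup.mem_top m)

lemma triv_top {Γ : Type} [CommGroup Γ] {J : Ideal (MonoidAlgebra C Γ)} (hJ : IsKer J) (E : Type u) [CommRing E]
    [Algebra C E] : Triv C E J ⊤ := by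
  intro x hx
  rw [red_top_of, hJ.one x hx, map_zero]
  exact MonoidAlgebra.single_zero _

/-- **Algebra: a closed subgroup trivial at a prime is trivial nearby.** -/
theorem exists_nhd_alg {Γ : Type} [CommGroup Γ] [Group.FG Γ] {J : Ideal (MonoidAlgebra C Γ)} (hJ : IsKer J)
    (p : Ideal C) [p.IsPrime]
    (hp : ∀ n : Γ, (MonoidAlgebra.single n 1 - 1 : MonoidAlgebra p.ResidueField Γ) ∈ JE C p.ResidueField J) :
    ∃ f, f ∉ p ∧ ∀ (E : Type u) [CommRing E] [Algebra C E], IsUnit (algebraMap C E f) →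
      ∀ χ : Γ →* E, (∀ x ∈ J, MonoidAlgebra.lift C E Γ χ x = 0) → χ = 1 := by
  classical
  have h2 : aug (Localization.AtPrime p) (⊤ : Subgroup Γ) ≤ JE C (Localization.AtPrime p) J := by
    refine aug_le (isKer_JE hJ) (triv_JE (triv_top hJ _)) fun n _ => ?_
    obtain ⟨s, hs, j, hj, h3⟩ := at_of_mem_JE p J n (hp n)
    refine ⟨algebraMap C _ s, ?_, MonoidAlgebra.mapRingHom Γ (algebraMap C _) j, Ideal.mem_map_of_mem _ hj, fun m => ?_⟩
    · intro h4
      exact (IsLocalization.AtPrime.to_map_mem_maximal_iff (Localization.AtPrime p) p s).not.2 hs h4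
    · have h5 : (algebraMap C (Localization.AtPrime p) s) • (MonoidAlgebra.single n (1 : Localization.AtPrime p) - 1) -
          MonoidAlgebra.mapRingHom Γ (algebraMap C _) j =
          MonoidAlgebra.mapRingHom Γ (algebraMap C _) (s • (MonoidAlgebra.single n 1 - 1) - j) := by
        rw [map_sub, mapRingHom_smul, map_sub, map_one, MonoidAlgebra.mapRingHom_single, map_one, algebraMap_smul]
      rw [h5, MonoidAlgebra.coeff_mapRingHom]
      exact (IsLocalization.AtPrime.to_map_mem_maximal_iff (Localization.AtPrime p) p _).2 (h3 m)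
  obtain ⟨t, ht, ht'⟩ := exists_finset (⊤ : Subgroup Γ)
  have h3 : ∀ n ∈ t, ∃ s, s ∉ p ∧ s • (MonoidAlgebra.single n 1 - 1) ∈ J := by
    intro n hn
    apply exists_smul_mem
    rw [map_sub, map_one, MonoidAlgebra.mapRingHom_single, map_one]
    exact h2 (single_mem_aug _ (ht n hn))
  choose! s hs hs' using h3
  refine ⟨∏ n ∈ t, s n, ?_, fun E _ _ hE χ h => ?_⟩
  · have : ∏ x ∈ t, s x ∈ p.primeCompl := Submonoid.prod_mem _ fun x hx => hs x hx
    exact this
  let P : Subgroup Γ :=
    { carrier := {n | χ n = 1}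
      one_mem' := map_one χ
      mul_mem' := fun {a b} ha hb => by
        change χ _ = 1
        change χ _ = 1 at ha
        change χ _ = 1 at hb
        rw [map_mul, ha, hb, _root_.mul_one]
      inv_mem' := fun {a} ha => by
        change χ _ = 1
        change χ _ = 1 at ha
        have h1 : χ a * χ a⁻¹ = 1 := by rw [← map_mul, mul_inv_cancel, map_one]
        rwa [ha, _root_.one_mul] at h1 }
  ext n
  refine ht' P (fun n hn => ?_) (Subgroup.mem_top n)
  have h4 := h _ (hs' n hn)
  rw [map_smul, map_sub, map_one, MonoidAlgebra.lift_single, one_smul, Algebra.smul_def] at h4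
  have h5 : IsUnit (algebraMap C E (s n)) := by
    refine isUnit_of_dvd_unit ?_ hE
    exact map_dvd _ (Finset.dvd_prod_of_mem s hn)
  have h6 : χ n - 1 = 0 := (h5.mul_right_eq_zero).1 h4
  change χ n = 1
  rwa [sub_eq_zero] at h6

/-- **A closed subgroup of `D(M)` which is trivial at a point is trivial nearby.** -/
theorem exists_away [AddGroup.FG M] (N : Sb (Red.DS (Spec (CommRingCat.of C)) M)) (p : Ideal C) [p.IsPrime]
    (hp : N.TrivOver (Spec.map (CommRingCat.ofHom (algebraMap C p.ResidueField)))) :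
    ∃ f, f ∉ p ∧ N.TrivOver (Spec.map (CommRingCat.ofHom (algebraMap C (Localization.Away f)))) := by
  obtain ⟨J, hJ⟩ := exists_ideal N
  have hK := isKer hJ
  have : Group.FG (Multiplicative M) := inferInstance
  have h0 : ∀ n : Multiplicative M,
      (MonoidAlgebra.single n 1 - 1 : MonoidAlgebra p.ResidueField (Multiplicative M)) ∈ JE C p.ResidueField J := by
    obtain ⟨N', hN', hN'2⟩ := exists_subgroup p.ResidueField hK
    intro n
    refine hN'2 n ?_
    let κ := p.ResidueField
    let χ : Multiplicative M →* MonoidAlgebra κ (Multiplicative M ⧸ N') :=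
      (MonoidAlgebra.of κ (Multiplicative M ⧸ N')).comp (QuotientGroup.mk' N')
    have h1 : N.mem _ (charPt (C := C) χ) := by
      rw [charPt_iff hJ]
      intro j hj
      have h2 := lift_red' (C := C) (E := κ) (Q := MonoidAlgebra κ (Multiplicative M ⧸ N')) (N := N') χ
        (MonoidAlgebra.of κ (Multiplicative M ⧸ N')) (fun m => rfl) j
      rw [← h2, hN' j hj, map_zero]
    have h2 := hp _ (Spec.map (CommRingCat.ofHom (algebraMap κ (MonoidAlgebra κ (Multiplicative M ⧸ N'))))) (by
      rw [← Spec.map_comp, ← CommRingCat.ofHom_comp, ← IsScalarTower.algebraMap_eq]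
      rfl) _ h1
    have h3 : χ = 1 := K12.MonoNhd.charPt_injective (C := C) (h2.trans K12.MonoNhd.charPt_one.symm)
    have h4 : MonoidAlgebra.of κ (Multiplicative M ⧸ N') (QuotientGroup.mk' N' n) =
      MonoidAlgebra.of κ (Multiplicative M ⧸ N') 1 := (DFunLike.congr_fun h3 n).trans (map_one _).symm
    have h5 := MonoidAlgebra.of_injective h4
    exact (QuotientGroup.eq_one_iff n).mp h5
  obtain ⟨f, hf, h⟩ := exists_nhd_alg hK p h0
  refine ⟨f, hf, fun T t ht x hx => ?_⟩
  apply (dsEquiv T M).symm.injective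
  rw [map_one]
  change dsChar x = 1
  let _ := algT T
  exact h Γ(T.left, ⊤) (K12.MonoNhd.isUnit_away t ht) (dsChar x) ((hJ T x).1 hx)

end ideal

/-- **A closed subgroup of a group of multiplicative type which is trivial at a point is trivial nearby.** -/
theorem Sb.exists_nhd {X : Scheme.{u}} {H : Over X} [GrpObj H] (hH : SGA3x.IsMultTypeFT H) (N : Sb H) (s : X)
    (hs : N.TrivOver (X.fromSpecResidueField s)) : ∃ U : X.Opens, s ∈ U ∧ N.TrivOver U.ι := by
  obtain ⟨B, _, v, M, _, hv, ⟨y, rfl⟩, hM, ⟨e⟩⟩ := K10.MTLoc.exists_etale_split hH s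
  have : AddGroup.FG M := hM
  let i : Red.DS (Spec (CommRingCat.of B)) M ⟶ Red.bc v H := e.inv.hom.hom
  have hi : IsMonHom i := inferInstanceAs (IsMonHom e.inv.hom.hom)
  have hi' : IsIso i := inferInstanceAs (IsIso ((Grp.forget _).map e.inv))
  have hy : y.asIdeal.IsPrime := y.isPrime
  have h3 : (N.bc v i).TrivOver (Spec.map (CommRingCat.ofHom (algebraMap B y.asIdeal.ResidueField))) := by
    rw [Sb.bc_trivOver]
    have h4 : Spec.map (CommRingCat.ofHom (algebraMap B y.asIdeal.ResidueField)) ≫ v =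
        (Spec.map (Scheme.Spec.residueFieldIso (.of B) y).hom ≫ Spec.map (v.residueFieldMap y)) ≫
          X.fromSpecResidueField (v y) := by
      rw [Category.assoc, Scheme.Hom.SpecMap_residueFieldMap_fromSpecResidueField,
        ← Scheme.Spec.map_residueFieldIso_inv_eq_fromSpecResidueField, Category.assoc, ← Spec.map_comp_assoc,
        Iso.inv_hom_id, Spec.map_id, Category.id_comp]
    rw [h4]
    exact hs.comp _
  obtain ⟨f, hf, hφf⟩ := exists_away (N.bc v i) y.asIdeal h3
  rw [Sb.bc_trivOver] at hφf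
  let w : Spec (CommRingCat.of (Localization.Away f)) ⟶ X :=
    Spec.map (CommRingCat.ofHom (algebraMap B (Localization.Away f))) ≫ v
  have h5 : Etale w := inferInstance
  refine ⟨⟨Set.range w, w.isOpenMap.isOpen_range⟩, ?_, ?_⟩
  · obtain ⟨z, hz⟩ : y ∈ Set.range (Spec.map (CommRingCat.ofHom (algebraMap B (Localization.Away f)))) := by
      change y ∈ Set.range (PrimeSpectrum.comap (algebraMap B (Localization.Away f)))
      rw [PrimeSpectrum.localization_away_comap_range (Localization.Away f) f]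
      exact hf
    exact ⟨z, by rw [Scheme.Hom.comp_apply, hz]⟩
  · refine Sb.TrivOver.of_range w ?_ hφf
    rw [Scheme.Opens.range_ι]
    rfl

end K750.MTSub
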