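import Groth.Agent.AlgSt.K744.Quot
import Groth.Agent.AlgSt.K750.AutLoc
import Groth.Agent.AlgSt.K750.MTSub

/-!
# The kernel of the stabilizer map of a functor `[W/H] ⟶ 𝒳`, as a closed subgroup functor of `H ×_S W`
-/

set_option autoImplicit false
set_option backward.isDefEq.respectTransparency false
set_option backward.isDefEq.respectTransparency.types false

universe w v u

open CategoryTheory CategoryTheory.Limits MonoidalCategory CartesianMonoidalCategory MonObj GrpObj AlgebraicGeometry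
open Groth.Agent.Books.BorelOrb AlgSt

namespace K750.QStab

open K744.Quot K739.Psh

variable {S : Scheme.{u}} {K : Precoverage Scheme.{u}} [K.HasIsos] {H W : Over S} [GrpObj H] {aW : AlgGrp.Action H W}

variable (K aW) in
/-- `W ⟶ [W/H]` -/
noncomputable abbrev Y : FibCat.overCat W ⥤ᵇ QuotSt K H aW :=
  BasedFunctor.comp (ofOverCat W) (quotMap K H aW)

variable (K aW) in
/-- the arrow of trivial torsors given by a pair of a point of `H` and a point of the base -/
noncomputable def ar {T' T : Over W} (g : T'.left ⟶ H) (t : T'.left ⟶ T.left) (e : sm aW g (t ≫ T.hom) = T'.hom) :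
    (Y K aW).obj T' ⟶ (Y K aW).obj T :=
  tau ((Y K aW).obj T) ((ofOverCat W).obj T') (lift g t) (by
    change lift g t ≫ (H ◁ T.hom) ≫ aW.act = T'.hom
    rw [← Category.assoc, lift_whiskerLeft]
    exact e)

theorem ar_base {T' T : Over W} (g : T'.left ⟶ H) (t : T'.left ⟶ T.left) (e : sm aW g (t ≫ T.hom) = T'.hom) :
    (ar K aW g t e).base = t := by
  rw [ar, tau_base]
  exact lift_snd _ _

theorem pt_ar {T' T : Over W} (g : T'.left ⟶ H) (t : T'.left ⟶ T.left) (e : sm aW g (t ≫ T.hom) = T'.hom) :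
    pt (ar K aW g t e) = lift g t := pt_tau _ _ _ _

theorem ar_congr {T' T : Over W} {g g' : T'.left ⟶ H} {t t' : T'.left ⟶ T.left} (hg : g = g') (ht : t = t')
    (e : sm aW g (t ≫ T.hom) = T'.hom) :
    ar K aW g t e = ar K aW g' t' (by rw [← hg, ← ht]; exact e) := by
  subst hg ht
  rfl

theorem ar_comp {T'' T' T : Over W} (g' : T''.left ⟶ H) (t' : T''.left ⟶ T'.left)
    (e' : sm aW g' (t' ≫ T'.hom) = T''.hom) (g : T'.left ⟶ H) (t : T'.left ⟶ T.left)
    (e : sm aW g (t ≫ T.hom) = T'.hom) :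
    ar K aW g' t' e' ≫ ar K aW g t e = ar K aW (g' * (t' ≫ g)) (t' ≫ t) (by
      rw [mul_sm, Category.assoc, ← comp_sm, e, e']) := by
  apply hom_ext_pt
  refine (pt_comp (ar K aW g' t' e') (ar K aW g t e)).trans ?_
  rw [pt_ar, pt_ar]
  have h1 : (ar K aW g t e).top = sm (leftMul H T.left) (fst H T'.left) (snd H T'.left ≫ lift g t) := rfl
  have h2 : lift g' t' ≫ sm (leftMul H T.left) (fst H T'.left) (snd H T'.left ≫ lift g t) =
      lift (g' * (t' ≫ g)) (t' ≫ t) := by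
    rw [comp_sm, lift_fst, lift_snd_assoc, comp_lift, sm_leftMul, lift_fst, lift_snd]
  exact (congrArg (lift g' t' ≫ ·) h1).trans h2

theorem ar_one (T : Over W) (e : sm aW (1 : T.left ⟶ H) (𝟙 T.left ≫ T.hom) = T.hom) :
    ar K aW (1 : T.left ⟶ H) (𝟙 T.left) e = 𝟙 _ := by
  apply hom_ext_pt
  rw [pt_ar, pt]
  change _ = unitPt H T.left ≫ 𝟙 _
  rw [Category.comp_id, unitPt, Hom.one_def]

theorem map_eq_ar {T' T : Over W} (t : T' ⟶ T) : (Y K aW).map t = ar K aW (1 : T'.left ⟶ H) t.left (by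
    rw [one_sm, Over.w]) := by
  apply hom_ext_pt
  rw [pt_ar]
  change unitPt H T'.left ≫ (H ◁ t.left) = _
  apply CartesianMonoidalCategory.hom_ext
  · rw [Category.assoc, whiskerLeft_fst, unitPt_fst, lift_fst]
  · rw [Category.assoc, whiskerLeft_snd, ← Category.assoc, unitPt_snd, Category.id_comp, lift_snd]

theorem ar_lift {T' T : Over W} (g : T'.left ⟶ H) (t : T'.left ⟶ T.left) (e : sm aW g (t ≫ T.hom) = T'.hom) :
    (QuotSt K H aW).p.IsHomLift t (ar K aW g t e) := by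
  have h : (QuotSt K H aW).p.IsHomLift (ar K aW g t e).base (ar K aW g t e) :=
    IsHomLift.map (QuotSt K H aW).p (ar K aW g t e)
  rw [ar_base] at h
  exact h

section Kernel

variable {𝒳 : BasedCategory.{u, w} (Over S)} (h𝒳 : FibCat.IsFibGrpd 𝒳.p) (f : QuotSt K H aW ⥤ᵇ 𝒳)

/-- `h` fixes the point and maps to the identity -/
def Nm (T : Over W) (h : T.left ⟶ H) : Prop :=
  ∃ e : sm aW h (𝟙 T.left ≫ T.hom) = T.hom, f.map (ar K aW h (𝟙 T.left) e) = 𝟙 _

theorem fmap_lift {T' T : Over W} (g : T'.left ⟶ H) (t : T'.left ⟶ T.left) (e : sm aW g (t ≫ T.hom) = T'.hom) :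
    𝒳.p.IsHomLift t (f.map (ar K aW g t e)) := by
  have := ar_lift (K := K) g t e
  exact BasedFunctor.preserves_isHomLift f t _

theorem Nm_one (T : Over W) : Nm f T 1 := by
  refine ⟨by rw [one_sm, Category.id_comp], ?_⟩
  rw [ar_one]
  exact f.map_id _

theorem Nm_mul {T : Over W} {h h' : T.left ⟶ H} (hh : Nm f T h) (hh' : Nm f T h') : Nm f T (h * h') := by
  obtain ⟨e, he⟩ := hh
  obtain ⟨e', he'⟩ := hh'
  have e0 : sm aW (h * h') (𝟙 T.left ≫ T.hom) = T.hom := by
    rw [mul_sm, e', ← Category.id_comp T.hom, e]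
    rfl
  refine ⟨e0, ?_⟩
  have h1 := ar_comp (K := K) (T'' := T) (T' := T) (T := T) h (𝟙 _) e h' (𝟙 _) e'
  have h2 : ar K aW (h * h') (𝟙 T.left) e0 = ar K aW h (𝟙 _) e ≫ ar K aW h' (𝟙 _) e' := by
    rw [h1]
    exact ar_congr (by rw [Category.id_comp]) (Category.comp_id _).symm _
  rw [h2, f.map_comp, he, he']
  exact Category.comp_id _

include h𝒳 in
theorem Nm_ar {T' T : Over W} (g : T'.left ⟶ H) (t : T'.left ⟶ T.left) (e : sm aW g (t ≫ T.hom) = T'.hom)
    {h : T.left ⟶ H} {h' : T'.left ⟶ H} (hh : h' * g = g * (t ≫ h)) (hN : Nm f T h) : Nm f T' h' := by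
  obtain ⟨e₁, he₁⟩ := hN
  have e₂ : sm aW h' (𝟙 T'.left ≫ T'.hom) = T'.hom := by
    conv_lhs => rw [Category.id_comp, ← e, ← mul_sm, hh, mul_sm, ← comp_sm]
    rw [Category.id_comp] at e₁
    rw [e₁, e]
  refine ⟨e₂, ?_⟩
  have h1 : ar K aW h' (𝟙 T'.left) e₂ ≫ ar K aW g t e = ar K aW g t e ≫ ar K aW h (𝟙 T.left) e₁ := by
    rw [ar_comp, ar_comp]
    exact ar_congr (by rw [Category.id_comp, hh]) (by rw [Category.id_comp, Category.comp_id]) _
  have h2 := congrArg (fun m => f.map m) h1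
  dsimp only at h2
  rw [f.map_comp, f.map_comp, he₁] at h2
  have h3 := fmap_lift f h' (𝟙 T'.left) e₂
  have h4 : 𝒳.p.IsHomLift (𝟙 T'.left) (𝟙 (f.obj ((Y K aW).obj T'))) := by
    have := IsHomLift.id (p := 𝒳.p) (R := T'.left) (a := f.obj ((Y K aW).obj T')) (f.w_obj _)
    exact this
  refine cancel_id h𝒳 (f.map (ar K aW g t e)) _ _ h3 h4 ?_
  rw [h2]
  erw [Category.comp_id, Category.id_comp]

include h𝒳 in
theorem Nm_res {T' T : Over W} (t : T' ⟶ T) {h : T.left ⟶ H} (hN : Nm f T h) : Nm f T' (t.left ≫ h) :=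
  Nm_ar h𝒳 f (1 : T'.left ⟶ H) t.left (by rw [one_sm, Over.w]) (by rw [_root_.mul_one, _root_.one_mul]) hN

end Kernel

end K750.QStab
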