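import Groth.Agent.AlgSt.K750.QTriv
import Groth.Agent.CurvSt.K899.OpenCrit

/-!
# The open substack `[U/H]` of `[W/H]` and faithfulness of functors on it
-/

set_option autoImplicit false
set_option backward.isDefEq.respectTransparency false
set_option backward.isDefEq.respectTransparency.types false

universe w v u

open CategoryTheory CategoryTheory.Limits MonoidalCategory CartesianMonoidalCategory MonObj GrpObj AlgebraicGeometry
open Groth.Agent Groth.Agent.Books.BorelOrb AlgSt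

namespace K750.QOpen

open K744.Quot K739.Psh QStab QKer QTriv

variable {S : Scheme.{u}} {H W : Over S} [GrpObj H] {aW : AlgGrp.Action H W}

section opens

variable {K : Precoverage Scheme.{u}} (U : W.left.Opens) (hU : aW.act.left ⁻¹ᵁ U = (snd H W).left ⁻¹ᵁ U)

include hU in
theorem mem_of_mem (o : QuotObj K H aW) (p p' : o.P.left) (h : o.π.left p = o.π.left p')
    (hp : o.φ.left p ∈ U) : o.φ.left p' ∈ U := by
  have sq : IsPullback o.act.act.left (snd H o.P).left o.π.left o.π.left := o.cart.map (Over.forget S)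
  obtain ⟨z, hz1, hz2⟩ := Scheme.exists_preimage_of_isPullback sq p' p h.symm
  have h1 : (H ◁ o.φ).left z ∈ (snd H W).left ⁻¹ᵁ U := by
    change (snd H W).left ((H ◁ o.φ).left z) ∈ U
    have h2 : (snd H W).left ((H ◁ o.φ).left z) = o.φ.left ((snd H o.P).left z) := by
      rw [← Scheme.Hom.comp_apply, ← Scheme.Hom.comp_apply, ← Over.comp_left, ← Over.comp_left, whiskerLeft_snd]
    have h3 : (snd H o.P).left z = p := hz2
    rw [h2, h3]
    exact hp
  rw [← hU] at h1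
  have h2 : aW.act.left ((H ◁ o.φ).left z) = o.φ.left (o.act.act.left z) := by
    rw [← Scheme.Hom.comp_apply, ← Scheme.Hom.comp_apply, ← Over.comp_left, ← Over.comp_left, o.eqv]
  have h3 : o.act.act.left z = p' := hz1
  have h4 : aW.act.left ((H ◁ o.φ).left z) ∈ U := h1
  rw [h2, h3] at h4
  exact h4

theorem fppf_covers {X : Scheme.{u}} {R : Presieve X} (hR : R ∈ Scheme.fppfPrecoverage X) (x : X) :
    ∃ (Y : Scheme.{u}) (g : Y ⟶ X) (y : Y), R g ∧ g y = x := by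
  obtain ⟨Y, g, hg, y, hy⟩ := hR.1 x
  obtain @⟨Y, f, hf⟩ := hg
  exact ⟨_, _, y, hf, hy⟩

theorem fppf_flat {X : Scheme.{u}} {R : Presieve X} (hR : R ∈ Scheme.fppfPrecoverage X) {Y : Scheme.{u}}
    (g : Y ⟶ X) (hg : R g) : Flat g ∧ LocallyOfFinitePresentation g := hR.2 hg

theorem π_surjective (o : QuotObj Scheme.fppfPrecoverage H aW) (t : o.base.left) : ∃ p, o.π.left p = t := by
  obtain ⟨R, hR, hs⟩ := o.loc
  obtain ⟨Y, g, y, hg, rfl⟩ := fppf_covers hR t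
  obtain ⟨s, hs'⟩ : ∃ s : Y ⟶ o.P.left, s ≫ o.π.left = g := hs g hg
  exact ⟨s y, by rw [← Scheme.Hom.comp_apply, hs']⟩

/-- the image of `U` in the base of a torsor -/
def V (o : QuotObj Scheme.fppfPrecoverage H aW) : Set o.base.left := {t | ∃ p, o.π.left p = t ∧ o.φ.left p ∈ U}

include hU in
theorem isOpen_V (o : QuotObj Scheme.fppfPrecoverage H aW) : IsOpen (V U o) := by
  obtain ⟨R, hR, hs⟩ := o.loc
  rw [isOpen_iff_forall_mem_open]
  intro t ht
  obtain ⟨Y, g, y, hg, rfl⟩ := fppf_covers hR t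
  obtain ⟨s, hs'⟩ : ∃ s : Y ⟶ o.P.left, s ≫ o.π.left = g := hs g hg
  obtain ⟨h1, h2⟩ := fppf_flat hR g hg
  have key : ∀ y : Y, g y ∈ V U o ↔ o.φ.left (s y) ∈ U := by
    intro y
    constructor
    · rintro ⟨p, hp, hp'⟩
      refine mem_of_mem U hU o p (s y) ?_ hp'
      rw [hp, ← Scheme.Hom.comp_apply, hs']
    · intro h
      exact ⟨s y, by rw [← Scheme.Hom.comp_apply, hs'], h⟩
  refine ⟨g '' (SetLike.coe ((s ≫ o.φ.left) ⁻¹ᵁ U)), ?_, ?_, ⟨y, ?_, rfl⟩⟩
  · rintro _ ⟨y, hy, rfl⟩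
    rw [key]
    have hy' : (s ≫ o.φ.left) y ∈ U := hy
    rw [Scheme.Hom.comp_apply] at hy'
    exact hy'
  · exact g.isOpenMap _ ((s ≫ o.φ.left) ⁻¹ᵁ U).2
  · have h3 := (key y).1 ht
    change (s ≫ o.φ.left) y ∈ U
    rw [Scheme.Hom.comp_apply]
    exact h3

include hU in
theorem hasOpenLocus : K899.OpenCrit.HasOpenLocus (𝒳 := QuotSt Scheme.fppfPrecoverage H aW)
    (fun o => o.φ.left ⁻¹ᵁ U = ⊤) := by
  intro o
  refine ⟨⟨V U o, isOpen_V U hU o⟩, fun y α => ?_⟩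
  have hφ : ∀ p : y.P.left, o.φ.left (α.top.left p) = y.φ.left p := by
    intro p
    rw [← Scheme.Hom.comp_apply, ← Over.comp_left, α.wφ]
  have hπ : ∀ p : y.P.left, o.π.left (α.top.left p) = α.base.left (y.π.left p) := by
    intro p
    rw [← Scheme.Hom.comp_apply, ← Scheme.Hom.comp_apply, ← Over.comp_left, ← Over.comp_left, α.cart.w]
  constructor
  · rintro h _ ⟨t, rfl⟩
    obtain ⟨p, rfl⟩ := π_surjective y t
    refine ⟨α.top.left p, hπ p, ?_⟩
    rw [hφ]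
    have h1 : p ∈ y.φ.left ⁻¹ᵁ U := by rw [h]; trivial
    exact h1
  · intro h
    ext p
    refine ⟨fun _ => trivial, fun _ => ?_⟩
    obtain ⟨p', hp', hp''⟩ := h ⟨y.π.left p, rfl⟩
    change y.φ.left p ∈ U
    rw [← hφ]
    refine mem_of_mem U hU o p' _ ?_ hp''
    rw [hp', hπ]
    rfl

end opens

section faith

variable {K : Precoverage Scheme.{u}} [K.HasIsos]
  {𝒳 : BasedCategory.{u, w} (Over S)} (h𝒳 : FibCat.IsFibGrpd 𝒳.p) (f : QuotSt K H aW ⥤ᵇ 𝒳) (U : W.left.Opens)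

include h𝒳 in
theorem Nm_of_comp {T : Over W} {h : T.left ⟶ H} (e : sm aW h (𝟙 T.left ≫ T.hom) = T.hom) {o : QuotObj K H aW}
    (τ : (Y K aW).obj T ⟶ o) (α : o ⟶ o) (hα : f.map α = 𝟙 _) (h1 : ar K aW h (𝟙 T.left) e ≫ τ = τ ≫ α) :
    Nm f T h := by
  refine ⟨e, ?_⟩
  have h2 : f.map (ar K aW h (𝟙 T.left) e ≫ τ) = f.map (τ ≫ α) := by rw [h1]
  rw [f.map_comp, f.map_comp, hα] at h2
  have h3 := fmap_lift f h (𝟙 T.left) e
  have h4 : 𝒳.p.IsHomLift (𝟙 T.left) (𝟙 (f.obj ((Y K aW).obj T))) :=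
    IsHomLift.id (p := 𝒳.p) (R := T.left) (a := f.obj ((Y K aW).obj T)) (f.w_obj _)
  refine cancel_id h𝒳 (f.map τ) _ _ h3 h4 ?_
  rw [h2]
  erw [Category.comp_id, Category.id_comp]

/-- the tautological arrow -/
noncomputable def ta (o : QuotObj K H aW) : (Y K aW).obj (Over.mk o.φ) ⟶ o :=
  tau o ((ofOverCat W).obj (Over.mk o.φ)) (𝟙 o.P) (Category.id_comp _)

theorem pt_ta (o : QuotObj K H aW) : pt (ta o) = 𝟙 o.P := pt_tau _ _ _ _

theorem ta_top (o : QuotObj K H aW) : (ta o).top = sm o.act (fst H o.P) (snd H o.P ≫ 𝟙 o.P) := rfl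

theorem ar_ta (o : QuotObj K H aW) (α : o ⟶ o) (h : o.P ⟶ H) (hh : sm o.act h (𝟙 o.P) = α.top)
    (e : sm aW h (𝟙 o.P ≫ o.φ) = o.φ) :
    ar K aW (T' := Over.mk o.φ) (T := Over.mk o.φ) h (𝟙 o.P) e ≫ ta o = ta o ≫ α := by
  apply hom_ext_pt
  have h1 : pt (ar K aW (T' := Over.mk o.φ) (T := Over.mk o.φ) h (𝟙 o.P) e ≫ ta o) = lift h (𝟙 o.P) ≫ (ta o).top := by
    rw [pt_comp, pt_ar]
  have h2 : pt (ta o ≫ α) = α.top := by
    rw [pt_comp, pt_ta]
    exact Category.id_comp α.top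
  have h3 : lift h (𝟙 o.P) ≫ sm o.act (fst H o.P) (snd H o.P ≫ 𝟙 o.P) = α.top := by
    rw [comp_sm, lift_fst, lift_snd_assoc, Category.comp_id, hh]
  exact h1.trans ((congrArg (lift h (𝟙 o.P) ≫ ·) (ta_top o)).trans (h3.trans h2.symm))

include h𝒳 in
/-- triviality of automorphisms -/
theorem top_eq_id (hT : TrivW f U.ι) (o : QuotObj K H aW) (ho : o.φ.left ⁻¹ᵁ U = ⊤) (α : o ⟶ o) (hb : α.base = 𝟙 _)
    (hα : f.map α = 𝟙 _) : α = 𝟙 o := by
  obtain ⟨h, hh, -⟩ := existsUnique_transporter o α.top (𝟙 o.P) (by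
    rw [α.cart.w, hb, Category.comp_id, Category.id_comp])
  have e : sm aW h (𝟙 o.P ≫ o.φ) = o.φ := by
    have h1 := sm_comp_of_eqv o.eqv h (𝟙 o.P)
    rw [hh, α.wφ] at h1
    exact h1.symm
  have hN : Nm f (Over.mk o.φ) h := Nm_of_comp h𝒳 f e (ta o) α hα (ar_ta o α h hh e)
  have hr : Set.range o.φ.left ⊆ Set.range U.ι := by
    rw [Scheme.Opens.range_ι]
    rintro _ ⟨p, rfl⟩
    have h1 : p ∈ o.φ.left ⁻¹ᵁ U := by rw [ho]; trivial
    exact h1
  have h5 : h = 1 := hT (Over.mk o.φ) (IsOpenImmersion.lift U.ι o.φ.left hr) (IsOpenImmersion.lift_fac _ _ _) h hN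
  refine QuotObj.hom_ext hb ?_
  rw [← hh, h5, one_sm]
  rfl

include h𝒳 in
theorem faithful (hG : FibCat.IsFibGrpd (QuotSt K H aW).p) (hT : TrivW f U.ι) :
    (BasedFunctor.comp (AlgSt.subIncl (QuotSt K H aW) (fun o => o.φ.left ⁻¹ᵁ U = ⊤)) f).toFunctor.Faithful where
  map_injective {a b} m m' h := by
    apply ObjectProperty.hom_ext
    have h0 : f.map m.hom = f.map m'.hom := h
    have hb : m.hom.base = m'.hom.base := by
      have h1 := congrArg (fun n => 𝒳.p.map n) h0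
      dsimp only at h1
      have h2 : ∀ n : a.obj ⟶ b.obj, 𝒳.p.map (f.map n) = eqToHom (f.w_obj _) ≫ n.base ≫ eqToHom (f.w_obj _).symm := by
        intro n
        have h3 : (QuotSt K H aW).p.IsHomLift n.base n := IsHomLift.map (QuotSt K H aW).p n
        have h4 : 𝒳.p.IsHomLift n.base (f.map n) := BasedFunctor.preserves_isHomLift f _ _
        exact IsHomLift.fac' 𝒳.p n.base (f.map n)
      rw [h2, h2] at h1
      exact (cancel_mono _).1 ((cancel_epi _).1 h1)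
    have h1 : (QuotSt K H aW).p.IsHomLift m.hom.base m.hom := IsHomLift.map (QuotSt K H aW).p m.hom
    have h2 : (QuotSt K H aW).p.IsHomLift (𝟙 a.obj.base ≫ m.hom.base) m'.hom := by
      rw [Category.id_comp, hb]
      exact IsHomLift.map (QuotSt K H aW).p m'.hom
    obtain ⟨α, hα, e⟩ := exists_fac hG m.hom.base m.hom (𝟙 a.obj.base) m'.hom h2
    have hb' : α.base = 𝟙 _ := (IsHomLift.eq_of_isHomLift (QuotSt K H aW).p (𝟙 a.obj.base) α).symm
    have h3 : f.map α = 𝟙 _ := by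
      have h4 : 𝒳.p.IsHomLift (𝟙 a.obj.base) (f.map α) := BasedFunctor.preserves_isHomLift f _ _
      have h5 : 𝒳.p.IsHomLift (𝟙 a.obj.base) (𝟙 (f.obj a.obj)) :=
        IsHomLift.id (p := 𝒳.p) (R := a.obj.base) (a := f.obj a.obj) (f.w_obj _)
      refine cancel_id h𝒳 (f.map m.hom) _ _ h4 h5 ?_
      rw [← f.map_comp, e, ← h0]
      exact (Category.id_comp _).symm
    have h4 := top_eq_id h𝒳 f U hT a.obj a.property α hb' h3
    rw [← e, h4]
    exact (Category.id_comp _).symm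

end faith

end K750.QOpen
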