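import Groth.Agent.Sga3B.InfConj
import Mathlib.AlgebraicGeometry.Morphisms.Affine

/-!
# Affine morphisms through points with values in algebras

`Rp q X A`: for `q : Spec R ⟶ S` and `X` over `S`, the base change `X ×_S Spec R` is `Spec A`.
-/

set_option autoImplicit false
set_option backward.isDefEq.respectTransparency false
set_option backward.isDefEq.respectTransparency.types false
universe u
open CategoryTheory CategoryTheory.Limits AlgebraicGeometry TensorProduct

namespace K750.AffPts

open Groth.Agent.Sga3B.InfConj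

variable {S : Scheme.{u}} {R : Type u} [CommRing R] (q : Spec (CommRingCat.of R) ⟶ S)

/-- `Spec C` over `S` -/
noncomputable abbrev sp (C : Type u) [CommRing C] [Algebra R C] : Over S := (Over.map q).obj (pt R C)

variable {C D : Type u} [CommRing C] [CommRing D] [Algebra R C] [Algebra R D]

/-- on morphisms -/
noncomputable abbrev spm (φ : C →ₐ[R] D) : sp q D ⟶ sp q C := (Over.map q).map (ptMap φ)

theorem spm_comp {E : Type u} [CommRing E] [Algebra R E] (φ : C →ₐ[R] D) (ψ : D →ₐ[R] E) :
    spm q ψ ≫ spm q φ = spm q (ψ.comp φ) := by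
  rw [← Functor.map_comp, ptMap_comp]

theorem spm_left (φ : C →ₐ[R] D) : (spm q φ).left = Spec.map (CommRingCat.ofHom φ.toRingHom) := rfl

/-- `X ×_S Spec R = Spec A` -/
structure Rp (X : Over S) (A : Type u) [CommRing A] [Algebra R A] where
  /-- the universal point -/
  u : sp q A ⟶ X
  cart : IsPullback u.left (Spec.map (CommRingCat.ofHom (algebraMap R A))) X.hom q

variable {q} {X : Over S} {A : Type u} [CommRing A] [Algebra R A]

theorem Rp.existsUnique (r : Rp q X A) (x : sp q C ⟶ X) : ∃! φ : A →ₐ[R] C, spm q φ ≫ r.u = x := by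
  have hx : x.left ≫ X.hom = Spec.map (CommRingCat.ofHom (algebraMap R C)) ≫ q := Over.w x
  let l : Spec (CommRingCat.of C) ⟶ Spec (CommRingCat.of A) := r.cart.lift x.left _ hx
  obtain ⟨ψ, hψ⟩ := Spec.map_surjective l
  have h1 : l ≫ r.u.left = x.left := r.cart.lift_fst _ _ _
  have h2 : l ≫ Spec.map (CommRingCat.ofHom (algebraMap R A)) = Spec.map (CommRingCat.ofHom (algebraMap R C)) :=
    r.cart.lift_snd _ _ _
  have h3 : CommRingCat.ofHom (algebraMap R A) ≫ ψ = CommRingCat.ofHom (algebraMap R C) := by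
    apply Spec.map_injective
    rw [Spec.map_comp, hψ, h2]
  let φ : A →ₐ[R] C :=
    { ψ.hom with
      commutes' := fun a => by
        exact congr($(congrArg CommRingCat.Hom.hom h3) a) }
  refine ⟨φ, ?_, fun φ' h' => ?_⟩
  · ext1
    change Spec.map ψ ≫ r.u.left = x.left
    rw [hψ, h1]
  · have h4 : Spec.map (CommRingCat.ofHom φ'.toRingHom) = l := by
      apply r.cart.hom_ext
      · rw [h1]
        exact congrArg CommaMorphism.left h'
      · rw [h2, ← Spec.map_comp, ← CommRingCat.ofHom_comp]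
        congr 2
        ext a
        exact φ'.commutes a
    have h5 : CommRingCat.ofHom φ'.toRingHom = ψ := Spec.map_injective (h4.trans hψ.symm)
    ext a
    exact congr($(congrArg CommRingCat.Hom.hom h5) a)

/-- the algebra map of a point -/
noncomputable def Rp.pt (r : Rp q X A) (x : sp q C ⟶ X) : A →ₐ[R] C := (r.existsUnique x).choose

theorem Rp.spm_pt (r : Rp q X A) (x : sp q C ⟶ X) : spm q (r.pt x) ≫ r.u = x := (r.existsUnique x).choose_spec.1

theorem Rp.eq_pt (r : Rp q X A) {x : sp q C ⟶ X} {φ : A →ₐ[R] C} (h : spm q φ ≫ r.u = x) : φ = r.pt x :=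
  (r.existsUnique x).choose_spec.2 φ h

theorem Rp.hom_ext (r : Rp q X A) {φ φ' : A →ₐ[R] C} (h : spm q φ ≫ r.u = spm q φ' ≫ r.u) : φ = φ' :=
  (r.existsUnique (spm q φ' ≫ r.u)).unique h rfl

theorem Rp.pt_comp (r : Rp q X A) (x : sp q C ⟶ X) (φ : C →ₐ[R] D) : r.pt (spm q φ ≫ x) = φ.comp (r.pt x) := by
  symm
  apply r.eq_pt
  rw [← spm_comp, Category.assoc, r.spm_pt]

variable (q X) in
theorem exists_rp [IsAffineHom X.hom] : ∃ (A : Type u) (_ : CommRing A) (_ : Algebra R A), Nonempty (Rp q X A) := by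
  let P := pullback X.hom q
  have hP : IsAffine P := isAffine_of_isAffineHom (pullback.snd X.hom q)
  let f : CommRingCat.of R ⟶ Γ(P, ⊤) := (Scheme.ΓSpecIso (CommRingCat.of R)).inv ≫ (pullback.snd X.hom q).appTop
  let _ : Algebra R Γ(P, ⊤) := f.hom.toAlgebra
  refine ⟨Γ(P, ⊤), inferInstance, inferInstance, ⟨?_⟩⟩
  have h1 : P.isoSpec.inv ≫ pullback.snd X.hom q = Spec.map f := by
    rw [Iso.inv_comp_eq]
    change _ = P.toSpecΓ ≫ Spec.map f
    exact (toSpecΓ_SpecMap_eq _).symm
  have sq : IsPullback (P.isoSpec.inv ≫ pullback.fst X.hom q) (Spec.map f) X.hom q := by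
    refine IsPullback.of_iso (IsPullback.of_hasPullback X.hom q) P.isoSpec (Iso.refl _) (Iso.refl _) (Iso.refl _)
      ?_ ?_ (by simp) (by simp)
    · simp
    · rw [← h1]
      simp
  exact ⟨Over.homMk (P.isoSpec.inv ≫ pullback.fst X.hom q) sq.w, sq⟩

/-- base change -/
noncomputable def Rp.bc (r : Rp q X A) (R' : Type u) [CommRing R'] [Algebra R R'] :
    Rp (Spec.map (CommRingCat.ofHom (algebraMap R R')) ≫ q) X (R' ⊗[R] A) := by
  have h1 : IsPullback (Spec.map (CommRingCat.ofHom (Algebra.TensorProduct.includeRight : A →ₐ[R] R' ⊗[R] A).toRingHom))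
      (Spec.map (CommRingCat.ofHom (algebraMap R' (R' ⊗[R] A)))) (Spec.map (CommRingCat.ofHom (algebraMap R A)))
      (Spec.map (CommRingCat.ofHom (algebraMap R R'))) :=
    isPullback_SpecMap_of_isPushout _ _ _ _ (CommRingCat.isPushout_tensorProduct R R' A).flip
  have h2 := h1.paste_horiz r.cart
  exact ⟨Over.homMk _ h2.w, h2⟩

end K750.AffPts
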