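import Groth.Agent.AlgSt.K750.AutGrp
import Groth.Agent.AlgSp.K601.RelChow
import Groth.Agent.Gerb.K895.GrpSh
import Groth.Agent.CGrpSh.K731.RepPts

/-!
# The automorphism sheaf of an object over a base `W`, as a sheaf of groups over `W`

`p : W ⟶ S`, `x : overCat (Over.mk p) ⥤ᵇ 𝒳`, `I` the sheaf `Isom(x, x)` over `S` with its map to `h_W`.
-/

set_option autoImplicit false
set_option backward.isDefEq.respectTransparency false
set_option backward.isDefEq.respectTransparency.types false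

universe w v u

open CategoryTheory CategoryTheory.Limits AlgebraicGeometry Opposite
open AlgSp

namespace K750.AutSch

open K739.Psh K739.Isom K739.Diag K595 K595.ChBase K902.Slice

variable {S W : Scheme.{u}} (p : W ⟶ S) {𝒳 : BasedCategory.{u, w} (Over S)} (h𝒳 : FibCat.IsFibGrpd 𝒳.p)
  (x : FibCat.overCat (Over.mk p) ⥤ᵇ 𝒳)

/-- `V` over `W` as an object over `Over.mk p` -/
abbrev io (V : Over W) : Over (Over.mk p) := Over.mk (Over.homMk V.hom rfl : (Over.map p).obj V ⟶ Over.mk p)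

/-- `io` on morphisms -/
abbrev im {V' V : Over W} (g : V' ⟶ V) : io p V' ⟶ io p V := Over.homMk ((Over.map p).map g) (by
  apply Over.OverMorphism.ext
  exact Over.w g)

theorem im_id (V : Over W) : im p (𝟙 V) = 𝟙 _ := by
  apply Over.OverMorphism.ext
  exact (Over.map p).map_id V

theorem im_comp {V V' V'' : Over W} (g : V'' ⟶ V') (h : V' ⟶ V) : im p (g ≫ h) = im p g ≫ im p h := by
  apply Over.OverMorphism.ext
  exact (Over.map p).map_comp g h

/-- the identity 2-isomorphism -/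
abbrev φ₀ : BasedFunctor.comp x (FibCat.toSelf 𝒳) ≅ BasedFunctor.comp x (FibCat.toSelf 𝒳) := Iso.refl _

/-- the automorphism of a section -/
noncomputable def toAut {T : Over (Over.mk p)} (s : Sec (FibCat.toSelf 𝒳) x x (φ₀ p x) T.left)
    (hs : s.u = T.hom) : Gerb.AutO (x.obj T) :=
  AutGrp.mk h𝒳 (x.w_obj T) (secAt s hs) (secAt_lift s hs)

/-- the section of an automorphism -/
noncomputable def ofAut {T : Over (Over.mk p)} (α : Gerb.AutO (x.obj T)) :
    Sec (FibCat.toSelf 𝒳) x x (φ₀ p x) T.left where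
  u := T.hom
  ψ := α.hom.1
  lift := AutGrp.lift_autO (x.w_obj T) α
  comp := by
    change 𝒳.p.map α.hom.1 = 𝟙 _
    have h := @IsHomLift.fac' _ _ _ _ 𝒳.p _ _ _ _ (𝟙 (𝒳.p.obj (x.obj T))) α.hom.1 α.hom.2
    simpa using h

theorem ofAut_toAut {T : Over (Over.mk p)} (s : Sec (FibCat.toSelf 𝒳) x x (φ₀ p x) T.left)
    (hs : s.u = T.hom) : ofAut p x (toAut p h𝒳 x s hs) = s := by
  obtain ⟨u, ψ, l, c⟩ := s
  change u = T.hom at hs
  subst hs
  apply sec_ext
  exact AutGrp.mk_hom h𝒳 _ _ _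

theorem toAut_ofAut {T : Over (Over.mk p)} (α : Gerb.AutO (x.obj T)) : toAut p h𝒳 x (ofAut p x α) rfl = α :=
  AutGrp.autO_ext (AutGrp.mk_hom h𝒳 _ _ _)

theorem toAut_res {T' T : Over (Over.mk p)} (h : T' ⟶ T) (s : Sec (FibCat.toSelf 𝒳) x x (φ₀ p x) T.left)
    (hs : s.u = T.hom) (s' : Sec (FibCat.toSelf 𝒳) x x (φ₀ p x) T'.left) (hs' : s'.u = T'.hom)
    (hr : IsRes h.left s s') : toAut p h𝒳 x s' hs' = AutGrp.res x h𝒳 h (toAut p h𝒳 x s hs) := by
  apply AutGrp.eq_res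
  have h1 := K739.Diag.IsRes.secAt hr hs hs' (Over.w h)
  rw [toAut, toAut, AutGrp.mk_hom, AutGrp.mk_hom]
  exact h1.symm

section Slice

variable {p} {I : Sp S} {q : I ⟶ (yon S).obj (Over.mk p)} {X₀ : Sp W} {z₀ : X₀ ⟶ (yon W).obj (Over.mk (𝟙 W))}
  (e : (L p).obj X₀ ≅ I) (j : (L p).obj ((yon W).obj (Over.mk (𝟙 W))) ≅ (yon S).obj (Over.mk p))
  (hj : e.hom ≫ q = (L p).map z₀ ≫ j.hom)
  (hj' : ∀ (V : Over W) (m : V ⟶ Over.mk (𝟙 W)), yonHom (g := p) V ≫ (L p).map ((yon W).map m) ≫ j.hom =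
    (yon S).map (Over.homMk V.hom rfl : (Over.map p).obj V ⟶ Over.mk p))

/-- points of `X₀` as points of `I` -/
noncomputable def pts {V : Over W} (k : (yon W).obj V ⟶ X₀) : (yon S).obj ((Over.map p).obj V) ⟶ I :=
  yonHom (g := p) V ≫ (L p).map k ≫ e.hom

include hj hj' in
theorem pts_comp {V : Over W} (k : (yon W).obj V ⟶ X₀) :
    pts e k ≫ q = (yon S).map (Over.homMk V.hom rfl : (Over.map p).obj V ⟶ Over.mk p) := by
  obtain ⟨m, hm⟩ := (yon W).map_surjective (k ≫ z₀)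
  rw [← hj' V m, hm, pts, Category.assoc, Category.assoc, hj, Functor.map_comp, Category.assoc]

theorem pts_map {V V' : Over W} (g : V' ⟶ V) (k : (yon W).obj V ⟶ X₀) :
    pts e ((yon W).map g ≫ k) = (yon S).map ((Over.map p).map g) ≫ pts e k := by
  rw [pts, pts, Functor.map_comp, Category.assoc, ← Category.assoc, ← yonHom_naturality, Category.assoc]

theorem pts_injective {V : Over W} {k k' : (yon W).obj V ⟶ X₀} (h : pts e k = pts e k') : k = k' := by
  apply L_map_injective (g := p)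
  rw [pts, pts, cancel_epi, cancel_mono] at h
  exact h

include hj hj' in
theorem exists_pts {V : Over W} (y : (yon S).obj ((Over.map p).obj V) ⟶ I)
    (hy : y ≫ q = (yon S).map (Over.homMk V.hom rfl : (Over.map p).obj V ⟶ Over.mk p)) :
    ∃ k : (yon W).obj V ⟶ X₀, pts e k = y := by
  let m : V ⟶ Over.mk (𝟙 W) := Over.homMk V.hom (Category.comp_id _)
  obtain ⟨k, hk, -⟩ := exists_hom_of_comp (g := p) ((yon W).map m) z₀ (inv (yonHom (g := p) V) ≫ y ≫ e.inv) (by
    rw [← cancel_mono j.hom, ← cancel_epi (yonHom (g := p) V)]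
    simp only [Category.assoc, IsIso.hom_inv_id_assoc]
    rw [hj', ← hj, Iso.inv_hom_id_assoc, hy])
  refine ⟨k, ?_⟩
  rw [pts, hk]
  simp

end Slice

section Aut

variable {p} (hS : FibCat.IsFibGrpd (FibCat.selfOver (Over S)).p)
  (hsh : Presheaf.IsSheaf (AlgSp.J S) (K739.Isom.psh (FibCat.toSelf 𝒳) x x (φ₀ p x) h𝒳 hS))

/-- the automorphism sheaf over `S` -/
noncomputable abbrev II : Sp S := ⟨K739.Isom.psh (FibCat.toSelf 𝒳) x x (φ₀ p x) h𝒳 hS, hsh⟩

/-- its structure map -/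
noncomputable abbrev qq : II h𝒳 x hS hsh ⟶ (yon S).obj (Over.mk p) :=
  ObjectProperty.homMk (toBase (FibCat.toSelf 𝒳) x x (φ₀ p x) h𝒳 hS)

variable {X₀ : Sp W} {z₀ : X₀ ⟶ (yon W).obj (Over.mk (𝟙 W))}
  (e : (L p).obj X₀ ≅ II h𝒳 x hS hsh) (j : (L p).obj ((yon W).obj (Over.mk (𝟙 W))) ≅ (yon S).obj (Over.mk p))
  (hj : e.hom ≫ qq h𝒳 x hS hsh = (L p).map z₀ ≫ j.hom)
  (hj' : ∀ (V : Over W) (m : V ⟶ Over.mk (𝟙 W)), yonHom (g := p) V ≫ (L p).map ((yon W).map m) ≫ j.hom =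
    (yon S).map (Over.homMk V.hom rfl : (Over.map p).obj V ⟶ Over.mk p))

/-- the section of a point -/
noncomputable def sec {V : Over W} (k : (yon W).obj V ⟶ X₀) :
    Sec (FibCat.toSelf 𝒳) x x (φ₀ p x) ((Over.map p).obj V) :=
  (J S).uliftYonedaEquiv (F := II h𝒳 x hS hsh) (pts e k)

include hj hj' in
theorem sec_u {V : Over W} (k : (yon W).obj V ⟶ X₀) : (sec h𝒳 x hS hsh e k).u = (io p V).hom := by
  have h := congrArg ((J S).uliftYonedaEquiv) (pts_comp e j hj hj' k)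
  rw [GrothendieckTopology.uliftYonedaEquiv_comp, GrothendieckTopology.uliftYonedaEquiv_uliftYoneda_map] at h
  exact congrArg ULift.down h

theorem sec_map {V V' : Over W} (g : V' ⟶ V) (k : (yon W).obj V ⟶ X₀) :
    IsRes ((Over.map p).map g) (sec h𝒳 x hS hsh e k) (sec h𝒳 x hS hsh e ((yon W).map g ≫ k)) := by
  rw [← map_eq_iff h𝒳 hS]
  rw [sec, sec, pts_map]
  exact (J S).uliftYonedaEquiv_naturality (F := II h𝒳 x hS hsh) (pts e k) ((Over.map p).map g)

/-- points of `X₀` are automorphisms -/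
noncomputable def autEquiv (V : Over W) : ((yon W).obj V ⟶ X₀) ≃ Gerb.AutO (x.obj (io p V)) :=
  Equiv.ofBijective (fun k => toAut p h𝒳 x (T := io p V) (sec h𝒳 x hS hsh e k) (sec_u h𝒳 x hS hsh e j hj hj' k)) (by
    constructor
    · intro k k' h
      apply pts_injective e
      apply (J S).uliftYonedaEquiv.injective
      have h1 := ofAut_toAut p h𝒳 x (T := io p V) (sec h𝒳 x hS hsh e k) (sec_u h𝒳 x hS hsh e j hj hj' k)
      have h2 := ofAut_toAut p h𝒳 x (T := io p V) (sec h𝒳 x hS hsh e k') (sec_u h𝒳 x hS hsh e j hj hj' k')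
      have h3 := congrArg (ofAut p x) h
      dsimp only at h3
      rw [h1, h2] at h3
      exact h3
    · intro α
      obtain ⟨k, hk⟩ := exists_pts e j hj hj' (V := V) ((J S).uliftYonedaEquiv.symm (ofAut p x α)) (by
        apply (J S).uliftYonedaEquiv.injective
        rw [GrothendieckTopology.uliftYonedaEquiv_comp, GrothendieckTopology.uliftYonedaEquiv_uliftYoneda_map,
          Equiv.apply_symm_apply]
        rfl)
      refine ⟨k, ?_⟩
      have h1 : sec h𝒳 x hS hsh e k = ofAut p x α := by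
        rw [sec, hk, Equiv.apply_symm_apply]
      apply AutGrp.autO_ext
      have h3 : ∀ (s s' : Sec (FibCat.toSelf 𝒳) x x (φ₀ p x) (io p V).left) (_ : s = s') (h : s.u = (io p V).hom)
          (h' : s'.u = (io p V).hom), secAt s h = secAt s' h' := by
        rintro s _ rfl h h'
        rfl
      have h4 := h3 _ _ h1 (sec_u h𝒳 x hS hsh e j hj hj' k) rfl
      dsimp only
      rw [toAut, AutGrp.mk_hom, h4]
      rfl)

theorem autEquiv_map {V V' : Over W} (g : V' ⟶ V) (k : (yon W).obj V ⟶ X₀) :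
    autEquiv h𝒳 x hS hsh e j hj hj' V' ((yon W).map g ≫ k) =
      AutGrp.res x h𝒳 (im p g) (autEquiv h𝒳 x hS hsh e j hj hj' V k) :=
  toAut_res p h𝒳 x (im p g) _ (sec_u h𝒳 x hS hsh e j hj hj' k) _
    (sec_u h𝒳 x hS hsh e j hj hj' ((yon W).map g ≫ k)) (sec_map h𝒳 x hS hsh e g k)

end Aut

end K750.AutSch
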