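import Groth.Agent.AlgSt.K750.Fam

/-!
# Cartesian cones over a covering sieve (helper750)

`Cov 𝒟 w`: a cocone `D o ⟶ W` of cartesian squares over `w : W ⟶ U` for a cartesian diagram `𝒟 : Dat R` over the arrows of a
sieve `R` of `U`.  For `R` covering for a subcanonical topology, morphisms out of `W` are compatible families of morphisms
out of the `D o`, and two such cones are isomorphic.
-/

set_option autoImplicit false
set_option backward.isDefEq.respectTransparency false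
set_option backward.isDefEq.respectTransparency.types false

universe v u

open CategoryTheory CategoryTheory.Limits K750.Fam

namespace K750.Cone

variable {C : Type u} [Category.{v} C] {J : GrothendieckTopology C} [J.Subcanonical]

theorem ext_over {U W Z : C} (w : W ⟶ U) {R : Sieve U} (hR : R ∈ J U) {a b : W ⟶ Z}
    (h : ∀ {T : C} (t : T ⟶ W), R (t ≫ w) → t ≫ a = t ≫ b) : a = b :=
  glue_ext (J := J) (R.pullback w) (J.pullback_stable w hR) (fun t ht => h t ht)

theorem existsUnique_over {U W Z : C} (w : W ⟶ U) {R : Sieve U} (hR : R ∈ J U)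
    (m : ∀ {T : C} (t : T ⟶ W), R (t ≫ w) → (T ⟶ Z))
    (hm : ∀ {T T' : C} (s : T' ⟶ T) (t : T ⟶ W) (ht : R (t ≫ w)) (hst : R ((s ≫ t) ≫ w)),
      m (s ≫ t) hst = s ≫ m t ht) :
    ∃! n : W ⟶ Z, ∀ {T : C} (t : T ⟶ W) (ht : R (t ≫ w)), t ≫ n = m t ht :=
  existsUnique_glue (J := J) (R.pullback w) (J.pullback_stable w hR) (fun t ht => m t ht)
    (fun s t ht hst => hm s t ht hst)

variable {U : C} {R : Sieve U}

/-- the object of the sieve attached to an arrow -/
abbrev mk' {V : C} (f : V ⟶ U) (hf : R f) : R.arrows.category := ⟨Over.mk f, hf⟩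

/-- a morphism of the sieve category -/
abbrev homM {o o' : R.arrows.category} (h : o.obj.left ⟶ o'.obj.left) (w : h ≫ o'.obj.hom = o.obj.hom) : o ⟶ o' :=
  ObjectProperty.homMk (Over.homMk h w)

/-- a cartesian cone on `𝒟` over `w : W ⟶ U` -/
structure Cov (𝒟 : Dat R) {W : C} (w : W ⟶ U) where
  /-- the morphisms -/
  c : ∀ o : R.arrows.category, 𝒟.D.obj o ⟶ W
  cart : ∀ o, IsPullback (c o) (𝒟.π o) w o.obj.hom
  nat : ∀ {o o' : R.arrows.category} (f : o ⟶ o'), 𝒟.D.map f ≫ c o' = c o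

namespace Cov

variable {𝒟 : Dat R} {W Z : C} {w : W ⟶ U} (κ : Cov 𝒟 w)

/-- the point of `D o` attached to a point of `W` -/
noncomputable def pt {T : C} (o : R.arrows.category) (t : T ⟶ W) (s : T ⟶ o.obj.left) (h : t ≫ w = s ≫ o.obj.hom) :
    T ⟶ 𝒟.D.obj o := (κ.cart o).lift t s h

@[reassoc]
theorem pt_c {T : C} (o : R.arrows.category) (t : T ⟶ W) (s : T ⟶ o.obj.left) (h : t ≫ w = s ≫ o.obj.hom) :
    κ.pt o t s h ≫ κ.c o = t := (κ.cart o).lift_fst _ _ _

@[reassoc]
theorem pt_π {T : C} (o : R.arrows.category) (t : T ⟶ W) (s : T ⟶ o.obj.left) (h : t ≫ w = s ≫ o.obj.hom) :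
    κ.pt o t s h ≫ 𝒟.π o = s := (κ.cart o).lift_snd _ _ _

theorem eq_pt {T : C} (o : R.arrows.category) (e : T ⟶ 𝒟.D.obj o) :
    e = κ.pt o (e ≫ κ.c o) (e ≫ 𝒟.π o) (by rw [Category.assoc, (κ.cart o).w, Category.assoc]) := by
  apply (κ.cart o).hom_ext
  · rw [κ.pt_c]
  · rw [κ.pt_π]

theorem comp_pt {T T' : C} (r : T' ⟶ T) (o : R.arrows.category) (t : T ⟶ W) (s : T ⟶ o.obj.left)
    (h : t ≫ w = s ≫ o.obj.hom) :
    r ≫ κ.pt o t s h = κ.pt o (r ≫ t) (r ≫ s) (by rw [Category.assoc, h, Category.assoc]) := by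
  apply (κ.cart o).hom_ext
  · rw [κ.pt_c, Category.assoc, κ.pt_c]
  · rw [κ.pt_π, Category.assoc, κ.pt_π]

theorem pt_map {T : C} {o o' : R.arrows.category} (f : o ⟶ o') (t : T ⟶ W) (s : T ⟶ o.obj.left)
    (h : t ≫ w = s ≫ o.obj.hom) :
    κ.pt o t s h ≫ 𝒟.D.map f = κ.pt o' t (s ≫ f.hom.left) (by rw [Category.assoc, Over.w, h]) := by
  apply (κ.cart o').hom_ext
  · rw [Category.assoc, κ.nat, κ.pt_c, κ.pt_c]
  · rw [Category.assoc, (𝒟.cart _).w, κ.pt_π_assoc, κ.pt_π]

theorem pt_mk {T : C} (m : ∀ o : R.arrows.category, 𝒟.D.obj o ⟶ Z)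
    (hm : ∀ {o o' : R.arrows.category} (f : o ⟶ o'), 𝒟.D.map f ≫ m o' = m o)
    (o : R.arrows.category) (t : T ⟶ W) (s : T ⟶ o.obj.left) (h : t ≫ w = s ≫ o.obj.hom) {a : T ⟶ U} (ha : R a)
    (hta : t ≫ w = a) :
    κ.pt (mk' a ha) t (𝟙 T) (by rw [hta, Category.id_comp]; rfl) ≫ m (mk' a ha) = κ.pt o t s h ≫ m o := by
  rw [← hm (homM (o := mk' a ha) (o' := o) s (by rw [← h, hta]; rfl)), ← Category.assoc, κ.pt_map]
  congr 1
  congr 1
  exact Category.id_comp _

theorem comp_mem (o : R.arrows.category) : R (κ.c o ≫ w) := by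
  rw [(κ.cart o).w]
  exact R.downward_closed o.property _

theorem mem_of_pt {T : C} (o : R.arrows.category) (e : T ⟶ 𝒟.D.obj o) : R ((e ≫ κ.c o) ≫ w) := by
  rw [Category.assoc]
  exact R.downward_closed (κ.comp_mem o) e

include κ in
theorem ext_hom (hR : R ∈ J U) {a b : W ⟶ Z} (h : ∀ o, κ.c o ≫ a = κ.c o ≫ b) : a = b := by
  apply ext_over (J := J) w hR
  intro T t ht
  have h1 : t ≫ w = 𝟙 T ≫ (mk' (t ≫ w) ht).obj.hom := (Category.id_comp _).symm
  rw [← κ.pt_c (mk' (t ≫ w) ht) t (𝟙 T) h1, Category.assoc, h, Category.assoc]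

include κ in
theorem existsUnique_desc (hR : R ∈ J U) (m : ∀ o : R.arrows.category, 𝒟.D.obj o ⟶ Z)
    (hm : ∀ {o o' : R.arrows.category} (f : o ⟶ o'), 𝒟.D.map f ≫ m o' = m o) :
    ∃! n : W ⟶ Z, ∀ o, κ.c o ≫ n = m o := by
  obtain ⟨n, hn, -⟩ := existsUnique_over (J := J) (Z := Z) w hR
    (fun {T} t ht => κ.pt (mk' (t ≫ w) ht) t (𝟙 T) (Category.id_comp _).symm ≫ m _) (by
    intro T T' s t ht hst
    rw [← Category.assoc s, κ.comp_pt]
    exact κ.pt_mk m hm _ _ _ _ _ rfl)
  have h1 : ∀ o, κ.c o ≫ n = m o := by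
    intro o
    have h2 : R (κ.c o ≫ w) := κ.comp_mem o
    rw [hn (κ.c o) h2, κ.pt_mk m hm o (κ.c o) (𝒟.π o) (κ.cart o).w _ rfl]
    have h4 := κ.eq_pt o (𝟙 _)
    have h5 : κ.pt o (κ.c o) (𝒟.π o) (κ.cart o).w = 𝟙 _ := by
      rw [h4]
      congr 1 <;> rw [Category.id_comp]
    rw [h5, Category.id_comp]
  exact ⟨n, h1, fun n' hn' => κ.ext_hom hR (fun o => by rw [h1, hn'])⟩

/-- two cartesian cones on the same diagram are isomorphic -/
theorem isIso (hR : R ∈ J U) {W' : C} {w' : W' ⟶ U} (κ' : Cov 𝒟 w') (n : W ⟶ W') (hn : ∀ o, κ.c o ≫ n = κ'.c o) :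
    IsIso n := by
  obtain ⟨n', hn', -⟩ := κ'.existsUnique_desc hR κ.c κ.nat
  refine ⟨n', ?_, ?_⟩
  · apply κ.ext_hom hR
    intro o
    rw [← Category.assoc, hn, hn', Category.comp_id]
  · apply κ'.ext_hom hR
    intro o
    rw [← Category.assoc, hn', hn, Category.comp_id]

include κ in
/-- two cartesian cones on the same diagram are isomorphic -/
theorem exists_iso (hR : R ∈ J U) {W' : C} {w' : W' ⟶ U} (κ' : Cov 𝒟 w') :
    ∃ n : W ≅ W', (∀ o, κ.c o ≫ n.hom = κ'.c o) ∧ n.hom ≫ w' = w := by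
  obtain ⟨n, hn, -⟩ := κ.existsUnique_desc hR κ'.c κ'.nat
  have := κ.isIso hR κ' n hn
  refine ⟨asIso n, hn, ?_⟩
  apply κ.ext_hom hR
  intro o
  rw [asIso_hom, ← Category.assoc, hn o, (κ.cart o).w, (κ'.cart o).w]

include κ in
/-- A square is cartesian if it is so after base change to the members of a covering sieve. -/
theorem isPullback [HasPullbacks C] (hR : R ∈ J U) {Y B : C} {q : Y ⟶ B} {g : U ⟶ B} (n : W ⟶ Y)
    (h : ∀ o, IsPullback (κ.c o ≫ n) (𝒟.π o) q (o.obj.hom ≫ g)) : IsPullback n w q g := by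
  have hw : n ≫ q = w ≫ g := by
    apply κ.ext_hom hR
    intro o
    rw [← Category.assoc, (h o).w, ← Category.assoc (κ.c o), (κ.cart o).w, Category.assoc]
  let n' : W ⟶ pullback q g := pullback.lift n w hw
  have hn1 : n' ≫ pullback.fst q g = n := pullback.lift_fst _ _ _
  have hn2 : n' ≫ pullback.snd q g = w := pullback.lift_snd _ _ _
  let κ' : Cov 𝒟 (pullback.snd q g) :=
    { c := fun o => κ.c o ≫ n'
      cart := fun o => by
        refine IsPullback.of_right (h₁₂ := pullback.fst q g) (h₂₂ := g) (v₁₃ := q) ?_ ?_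
          (IsPullback.of_hasPullback q g)
        · rw [Category.assoc, hn1]
          exact h o
        · rw [Category.assoc, hn2, (κ.cart o).w]
      nat := fun f => by rw [← Category.assoc, κ.nat] }
  have : IsIso n' := κ.isIso hR κ' n' (fun o => rfl)
  refine IsPullback.of_iso (IsPullback.of_hasPullback q g) (asIso n').symm (Iso.refl _) (Iso.refl _) (Iso.refl _)
    ?_ ?_ ?_ ?_
  · simp [hn1]
  · simp [hn2]
  · simp
  · simp

end Cov

section Pull

variable [HasPullbacks C] {W : C} (w : W ⟶ U) (R)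

/-- the diagram of the base changes of `w : W ⟶ U` -/
noncomputable def pullDat : Dat R where
  D := { obj := fun o => pullback w o.obj.hom
         map := fun {o o'} f => pullback.map _ _ _ _ (𝟙 _) f.hom.left (𝟙 _) (by simp) (by simp)
         map_id := fun o => by
          apply pullback.hom_ext <;> simp
         map_comp := fun f g => by
          apply pullback.hom_ext <;> simp }
  π := fun o => pullback.snd w o.obj.hom
  cart := fun {o o'} f => by
    have h1 := IsPullback.of_hasPullback w o'.obj.hom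
    have h2 := IsPullback.of_hasPullback w o.obj.hom
    refine IsPullback.of_right (h₁₂ := pullback.fst w o'.obj.hom) (h₂₂ := o'.obj.hom) (v₁₃ := w) ?_ ?_ ?_
    · simpa using h2
    · simp
    · exact h1

/-- the cone of the base changes of `w : W ⟶ U` -/
noncomputable def pullCov : Cov (pullDat R w) w where
  c := fun o => pullback.fst w o.obj.hom
  cart := fun o => IsPullback.of_hasPullback w o.obj.hom
  nat := fun f => by simp [pullDat]

end Pull

end K750.Cone
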