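import Mathlib.CategoryTheory.Sites.Over
import Mathlib.CategoryTheory.Sites.Canonical
import Mathlib.CategoryTheory.Limits.Shapes.Pullback.IsPullback.Basic

/-!
# Cartesian diagrams over a sieve, their presheaf of compatible families of sections, and the cocone given by a
# representing object

Let `R` be a sieve on `U` in a category `C`.  A cartesian diagram over `R` (`Dat R`) assigns to every arrow `V ⟶ U` of `R` an
object `D ⟶ V` and to every morphism of such arrows a cartesian square.  `Fam 𝒟 W` (for `W : Over U`): compatible families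
of sections.  It is a sheaf for every subcanonical topology; if it is representable by `E`, then `E` is the descended object.
-/

set_option autoImplicit false
set_option backward.isDefEq.respectTransparency false
set_option backward.isDefEq.respectTransparency.types false

universe v u

open CategoryTheory CategoryTheory.Limits Opposite

namespace K750.Fam

variable {C : Type u} [Category.{v} C] {U : C}

/-- a cartesian diagram over the arrows of the sieve `R` -/
structure Dat (R : Sieve U) where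
  /-- the objects -/
  D : R.arrows.category ⥤ C
  /-- the structure morphisms -/
  π : ∀ o : R.arrows.category, D.obj o ⟶ o.obj.left
  cart : ∀ {o o' : R.arrows.category} (f : o ⟶ o'), IsPullback (D.map f) (π o) (π o') f.hom.left

variable {R : Sieve U} (𝒟 : Dat R)

/-- compatible families of sections over `W : Over U` -/
@[ext]
structure Fm (W : Over U) where
  /-- the sections -/
  s : ∀ (o : R.arrows.category) (_ : o.obj ⟶ W), o.obj.left ⟶ 𝒟.D.obj o
  sec : ∀ (o : R.arrows.category) (h : o.obj ⟶ W), s o h ≫ 𝒟.π o = 𝟙 _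
  nat : ∀ {o' o : R.arrows.category} (f : o' ⟶ o) (h : o.obj ⟶ W),
    s o' (f.hom ≫ h) ≫ 𝒟.D.map f = f.hom.left ≫ s o h

variable {𝒟}

/-- restriction of families -/
def Fm.res {W W' : Over U} (g : W' ⟶ W) (x : Fm 𝒟 W) : Fm 𝒟 W' where
  s o h := x.s o (h ≫ g)
  sec o h := x.sec o _
  nat f h := by simpa using x.nat f (h ≫ g)

@[simp] theorem Fm.res_s {W W' : Over U} (g : W' ⟶ W) (x : Fm 𝒟 W) (o : R.arrows.category) (h : o.obj ⟶ W') :
    (x.res g).s o h = x.s o (h ≫ g) := rfl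

theorem Fm.res_id {W : Over U} (x : Fm 𝒟 W) : x.res (𝟙 W) = x := by
  ext o h
  simp

theorem Fm.res_comp {W W' W'' : Over U} (g : W' ⟶ W) (g' : W'' ⟶ W') (x : Fm 𝒟 W) :
    x.res (g' ≫ g) = (x.res g).res g' := by
  ext o h
  simp

variable (𝒟) in
/-- the presheaf of compatible families of sections -/
def fun₀ : (Over U)ᵒᵖ ⥤ Type (max u v) where
  obj W := Fm 𝒟 W.unop
  map g := ↾(fun x => x.res g.unop)
  map_id W := by
    apply ConcreteCategory.hom_ext
    intro x
    exact Fm.res_id x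
  map_comp g g' := by
    apply ConcreteCategory.hom_ext
    intro x
    exact Fm.res_comp g.unop g'.unop x

/-- the section of a cartesian diagram over `W` in the sieve given by a lift to `D o` -/
noncomputable def secOf {o' o : R.arrows.category} (f : o' ⟶ o) (τ : o'.obj.left ⟶ 𝒟.D.obj o)
    (hτ : τ ≫ 𝒟.π o = f.hom.left) : o'.obj.left ⟶ 𝒟.D.obj o' :=
  (𝒟.cart f).lift τ (𝟙 _) (by rw [hτ, Category.id_comp])

theorem secOf_congr {o' o : R.arrows.category} {f f' : o' ⟶ o} (hf : f = f') {τ τ' : o'.obj.left ⟶ 𝒟.D.obj o}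
    (h : τ = τ') (hτ : τ ≫ 𝒟.π o = f.hom.left) (hτ' : τ' ≫ 𝒟.π o = f'.hom.left) : secOf f τ hτ = secOf f' τ' hτ' := by
  subst hf; subst h; rfl

theorem secOf_map {o' o : R.arrows.category} (f : o' ⟶ o) (τ : o'.obj.left ⟶ 𝒟.D.obj o)
    (hτ : τ ≫ 𝒟.π o = f.hom.left) : secOf f τ hτ ≫ 𝒟.D.map f = τ := (𝒟.cart f).lift_fst _ _ _

theorem secOf_π {o' o : R.arrows.category} (f : o' ⟶ o) (τ : o'.obj.left ⟶ 𝒟.D.obj o)
    (hτ : τ ≫ 𝒟.π o = f.hom.left) : secOf f τ hτ ≫ 𝒟.π o' = 𝟙 _ := (𝒟.cart f).lift_snd _ _ _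

/-- the arrow of the sieve given by an object over `U` mapping to an arrow of the sieve -/
abbrev mkOb {o : R.arrows.category} {W : Over U} (k : W ⟶ o.obj) : R.arrows.category :=
  ⟨W, by
    rw [← Over.w k]
    exact R.downward_closed o.property _⟩

/-- the morphism `mkOb k ⟶ o` -/
abbrev mkOb.hom {o : R.arrows.category} {W : Over U} (k : W ⟶ o.obj) : mkOb k ⟶ o := ObjectProperty.homMk k

/-- evaluation of a family at a lift of the base to `o` -/
noncomputable def Fm.ev {o : R.arrows.category} {W : Over U} (x : Fm 𝒟 W) (k : W ⟶ o.obj) : W.left ⟶ 𝒟.D.obj o :=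
  x.s (mkOb k) (𝟙 W) ≫ 𝒟.D.map (mkOb.hom k)

theorem Fm.ev_π {o : R.arrows.category} {W : Over U} (x : Fm 𝒟 W) (k : W ⟶ o.obj) : x.ev k ≫ 𝒟.π o = k.left := by
  have h1 := (𝒟.cart (mkOb.hom k)).w
  rw [Fm.ev, Category.assoc, h1, ← Category.assoc, x.sec]
  exact Category.id_comp _

theorem Fm.s_eq_ev {W : Over U} (x : Fm 𝒟 W) (o : R.arrows.category) (h : o.obj ⟶ W) :
    x.s o h = (x.res h).ev (𝟙 o.obj) := by
  have h1 : mkOb.hom (𝟙 o.obj) = 𝟙 o := rfl
  rw [Fm.ev, h1]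
  change _ = x.s o (𝟙 _ ≫ h) ≫ 𝒟.D.map (𝟙 o)
  rw [𝒟.D.map_id, Category.comp_id, Category.id_comp]

/-- compatibility of evaluations -/
theorem Fm.s_map {o : R.arrows.category} {W : Over U} (x : Fm 𝒟 W) (k : W ⟶ o.obj) (o' : R.arrows.category)
    (h : o'.obj ⟶ W) (f : o' ⟶ o) (hf : f.hom = h ≫ k) : x.s o' h ≫ 𝒟.D.map f = h.left ≫ x.ev k := by
  have h2 : f = (ObjectProperty.homMk h : o' ⟶ mkOb k) ≫ mkOb.hom k := by
    ext1
    exact hf
  rw [h2, 𝒟.D.map_comp, ← Category.assoc]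
  have h3 := x.nat (ObjectProperty.homMk h : o' ⟶ mkOb k) (𝟙 W)
  have h4 : x.s o' ((ObjectProperty.homMk h : o' ⟶ mkOb k).hom ≫ 𝟙 W) = x.s o' h := by
    congr 1
    exact Category.comp_id h
  rw [h4] at h3
  rw [h3, Category.assoc]
  rfl

theorem Fm.ev_res {o : R.arrows.category} {W W' : Over U} (x : Fm 𝒟 W) (g : W' ⟶ W) (k : W ⟶ o.obj)
    (k' : W' ⟶ o.obj) (hk : k' = g ≫ k) : (x.res g).ev k' = g.left ≫ x.ev k := by
  subst hk
  change x.s (mkOb (g ≫ k)) (𝟙 _ ≫ g) ≫ 𝒟.D.map _ = _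
  rw [Category.id_comp]
  exact x.s_map k (mkOb (g ≫ k)) g (mkOb.hom (g ≫ k)) rfl

/-- families over `W ⟶ o` are the lifts of `W ⟶ o` to `D o` -/
theorem Fm.ext_ev {o : R.arrows.category} {W : Over U} {x y : Fm 𝒟 W} (k : W ⟶ o.obj) (h : x.ev k = y.ev k) : x = y := by
  ext o' h'
  let f : o' ⟶ o := ObjectProperty.homMk (h' ≫ k)
  apply (𝒟.cart f).hom_ext
  · rw [x.s_map k o' h' f rfl, y.s_map k o' h' f rfl, h]
  · rw [x.sec, y.sec]

/-- the family given by a lift -/
noncomputable def Fm.ofLift {o : R.arrows.category} {W : Over U} (k : W ⟶ o.obj) (τ : W.left ⟶ 𝒟.D.obj o)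
    (hτ : τ ≫ 𝒟.π o = k.left) : Fm 𝒟 W where
  s o' h := secOf (ObjectProperty.homMk (h ≫ k) : o' ⟶ o) (h.left ≫ τ) (by rw [Category.assoc, hτ]; rfl)
  sec o' h := secOf_π _ _ _
  nat {o'' o'} f h := by
    apply (𝒟.cart (ObjectProperty.homMk (h ≫ k) : o' ⟶ o)).hom_ext
    · have e1 : f ≫ (ObjectProperty.homMk (h ≫ k) : o' ⟶ o) = ObjectProperty.homMk ((f.hom ≫ h) ≫ k) := by
        ext1
        simp
      have e2 : ∀ (g : o'' ⟶ o) (hg : g = ObjectProperty.homMk ((f.hom ≫ h) ≫ k)) (τ' : o''.obj.left ⟶ 𝒟.D.obj o)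
          (hτ' : τ' ≫ 𝒟.π o = (ObjectProperty.homMk ((f.hom ≫ h) ≫ k) : o'' ⟶ o).hom.left),
          secOf (ObjectProperty.homMk ((f.hom ≫ h) ≫ k) : o'' ⟶ o) τ' hτ' ≫ 𝒟.D.map g = τ' := by
        rintro g rfl τ' hτ'
        exact secOf_map _ _ _
      refine (Category.assoc _ _ _).trans ?_
      refine (congrArg (fun z => _ ≫ z) (𝒟.D.map_comp f _).symm).trans ?_
      refine (e2 _ e1 _ _).trans ?_
      refine Eq.trans ?_ (Category.assoc _ _ _).symm
      refine Eq.trans ?_ (congrArg (fun z => f.hom.left ≫ z) (secOf_map _ _ _).symm)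
      simp
    · rw [Category.assoc, (𝒟.cart f).w, ← Category.assoc, secOf_π, Category.id_comp, Category.assoc, secOf_π,
        Category.comp_id]

theorem Fm.ev_ofLift {o : R.arrows.category} {W : Over U} (k : W ⟶ o.obj) (τ : W.left ⟶ 𝒟.D.obj o)
    (hτ : τ ≫ 𝒟.π o = k.left) : (Fm.ofLift k τ hτ).ev k = τ := by
  have h1 : (ObjectProperty.homMk (𝟙 W ≫ k) : mkOb k ⟶ o) = mkOb.hom k := by
    ext1
    exact Category.id_comp k
  have h2 : (𝟙 W : W ⟶ W).left ≫ τ = τ := Category.id_comp τ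
  change secOf (ObjectProperty.homMk (𝟙 W ≫ k) : mkOb k ⟶ o) ((𝟙 W : W ⟶ W).left ≫ τ)
    (by rw [Category.assoc, hτ]; rfl) ≫ 𝒟.D.map (mkOb.hom k) = τ
  refine (congrArg (fun z => z ≫ 𝒟.D.map (mkOb.hom k)) (secOf_congr h1 h2 _ (by rw [hτ]; rfl))).trans ?_
  exact secOf_map _ _ _

section Sheaf

variable {J : GrothendieckTopology C} [J.Subcanonical]

/-- Gluing of morphisms along a covering sieve of a subcanonical topology. -/
theorem existsUnique_glue {W Z : C} (T : Sieve W) (hT : T ∈ J W) (φ : ∀ {V : C} (k : V ⟶ W), T k → (V ⟶ Z))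
    (hφ : ∀ {V V' : C} (b : V' ⟶ V) (k : V ⟶ W) (hk : T k) (hk' : T (b ≫ k)), φ (b ≫ k) hk' = b ≫ φ k hk) :
    ∃! ψ : W ⟶ Z, ∀ {V : C} (k : V ⟶ W) (hk : T k), k ≫ ψ = φ k hk := by
  have hs : Presieve.IsSheafFor (yoneda.obj Z) T.arrows :=
    GrothendieckTopology.Subcanonical.isSheaf_of_isRepresentable (J := J) (yoneda.obj Z) T hT
  let x : Presieve.FamilyOfElements (yoneda.obj Z) T.arrows := fun V k hk => φ k hk
  have hx : x.Compatible := by
    rw [Presieve.compatible_iff_sieveCompatible]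
    intro V V' k b hk
    exact hφ b k hk _
  obtain ⟨ψ, h1, h2⟩ := hs x hx
  exact ⟨ψ, fun k hk => h1 k hk, fun ψ' h => h2 ψ' (fun V k hk => h k hk)⟩

theorem glue_ext {W Z : C} (T : Sieve W) (hT : T ∈ J W) {ψ ψ' : W ⟶ Z}
    (h : ∀ {V : C} (k : V ⟶ W) (_ : T k), k ≫ ψ = k ≫ ψ') : ψ = ψ' := by
  obtain ⟨χ, -, h2⟩ := existsUnique_glue (J := J) (Z := Z) T hT (fun k _ => k ≫ ψ)
    (fun b k _ _ => by rw [Category.assoc])
  rw [h2 ψ (fun k hk => rfl), h2 ψ' (fun k hk => (h k hk).symm)]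

/-- The presheaf of compatible families is separated. -/
theorem Fm.ext_cover {W : Over U} (T : Sieve W) (hT : Sieve.overEquiv W T ∈ J W.left) {x y : Fm 𝒟 W}
    (h : ∀ {Z : Over U} (k : Z ⟶ W), T k → x.res k = y.res k) : x = y := by
  ext o h'
  have hc : Sieve.overEquiv o.obj (T.pullback h') ∈ J o.obj.left := by
    rw [Sieve.overEquiv_pullback]
    exact J.pullback_stable _ hT
  refine glue_ext (J := J) _ hc (fun {V} k hk => ?_)
  rw [Sieve.overEquiv_iff] at hk
  let Z : Over U := Over.mk (k ≫ o.obj.hom)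
  let k' : Z ⟶ o.obj := Over.homMk k
  have h1 := h (k' ≫ h') hk
  have h2 : ∀ z : Fm 𝒟 W, k ≫ z.s o h' = (z.res (k' ≫ h')).ev k' := by
    intro z
    rw [Fm.res_comp, Fm.ev_res (z.res h') k' (𝟙 _) k' (Category.comp_id _).symm, ← Fm.s_eq_ev]
    rfl
  rw [h2, h2, h1]

/-- The presheaf of compatible families is a sheaf. -/
theorem isSheafFor {W : Over U} (T : Sieve W) (hT : Sieve.overEquiv W T ∈ J W.left) :
    Presieve.IsSheafFor (fun₀ 𝒟) T.arrows := by
  rw [← Presieve.isSeparatedFor_and_exists_isAmalgamation_iff_isSheafFor]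
  constructor
  · intro x t₁ t₂ h1 h2
    apply Fm.ext_cover (J := J) T hT
    intro Z k hk
    exact (h1 k hk).trans (h2 k hk).symm
  · intro x hx
    rw [Presieve.compatible_iff_sieveCompatible] at hx
    have hc : ∀ (o : R.arrows.category) (h : o.obj ⟶ W), Sieve.overEquiv o.obj (T.pullback h) ∈ J o.obj.left := by
      intro o h
      rw [Sieve.overEquiv_pullback]
      exact J.pullback_stable _ hT
    have hk' : ∀ {o : R.arrows.category} {h : o.obj ⟶ W} {V : C} {k : V ⟶ o.obj.left},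
        Sieve.overEquiv o.obj (T.pullback h) k → T ((Over.homMk k : Over.mk (k ≫ o.obj.hom) ⟶ o.obj) ≫ h) := by
      intro o h V k hk
      rwa [Sieve.overEquiv_iff] at hk
    -- the elements of the family
    let X : ∀ {Z : Over U} (k : Z ⟶ W), T k → Fm 𝒟 Z := fun k hk => x k hk
    have hX : ∀ {Z Z' : Over U} (k : Z ⟶ W) (hk : T k) (b : Z' ⟶ Z) (hk' : T (b ≫ k)),
        X (b ≫ k) hk' = (X k hk).res b := fun k hk b hk' => hx k b hk
    -- gluing
    have key : ∀ (o : R.arrows.category) (h : o.obj ⟶ W), ∃! ψ : o.obj.left ⟶ 𝒟.D.obj o,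
        ∀ {V : C} (k : V ⟶ o.obj.left) (hk : Sieve.overEquiv o.obj (T.pullback h) k),
          k ≫ ψ = (X _ (hk' hk)).ev (Over.homMk k) := by
      intro o h
      refine existsUnique_glue (J := J) _ (hc o h) (fun k hk => (X _ (hk' hk)).ev (Over.homMk k)) ?_
      intro V V' b k hk hk2
      let b' : Over.mk ((b ≫ k) ≫ o.obj.hom) ⟶ Over.mk (k ≫ o.obj.hom) := Over.homMk b (by simp)
      have h3 : (Over.homMk (b ≫ k) : Over.mk ((b ≫ k) ≫ o.obj.hom) ⟶ o.obj) ≫ h =
          b' ≫ (Over.homMk k : Over.mk (k ≫ o.obj.hom) ⟶ o.obj) ≫ h := by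
        ext; simp [b']
      have h4 : X _ (hk' hk2) = (X _ (hk' hk)).res b' := by
        rw [← hX _ (hk' hk) b' (h3 ▸ hk' hk2)]
        congr 1
      rw [h4, Fm.ev_res _ b' (Over.homMk k) _ (by ext; simp [b'])]
      rfl
    choose ψ hψ _ using key
    have hψ' : ∀ (o : R.arrows.category) (h : o.obj ⟶ W) {Z : Over U} (k : Z ⟶ o.obj) (hk : T (k ≫ h)),
        k.left ≫ ψ o h = (X _ hk).ev k := by
      intro o h Z k hk
      have hZ : Z = Over.mk (k.left ≫ o.obj.hom) := by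
        rw [Over.w k]; rfl
      have e1 : Sieve.overEquiv o.obj (T.pullback h) k.left := by
        rw [Sieve.overEquiv_iff]
        have : (Over.homMk k.left : Over.mk (k.left ≫ o.obj.hom) ⟶ o.obj) =
            (Over.homMk (𝟙 _) (by simp) : Over.mk (k.left ≫ o.obj.hom) ⟶ Z) ≫ k := by
          ext; simp
        rw [this, Sieve.pullback_apply, Category.assoc]
        exact T.downward_closed hk _
      rw [hψ o h k.left e1]
      let i : Z ⟶ Over.mk (k.left ≫ o.obj.hom) := Over.homMk (𝟙 _) (by simp)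
      have e2 : k ≫ h = i ≫ (Over.homMk k.left : Over.mk (k.left ≫ o.obj.hom) ⟶ o.obj) ≫ h := by
        ext; simp [i]
      have e3 : X _ hk = (X _ (hk' e1)).res i := by
        rw [← hX _ (hk' e1) i (e2 ▸ hk)]
        congr 1
      rw [e3, Fm.ev_res _ i (Over.homMk k.left) _ (by ext; simp [i])]
      simp [i]
    have hsec : ∀ (o : R.arrows.category) (h : o.obj ⟶ W), ψ o h ≫ 𝒟.π o = 𝟙 _ := by
      intro o h
      refine glue_ext (J := J) _ (hc o h) (fun {V} k hk => ?_)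
      rw [← Category.assoc, hψ o h k hk, Fm.ev_π]
      simp
    let y : Fm 𝒟 W :=
      { s := fun o h => ψ o h
        sec := hsec
        nat := by
          intro o' o f h
          refine glue_ext (J := J) _ (hc o' (f.hom ≫ h)) (fun {V} k hk => ?_)
          rw [← Category.assoc, hψ o' _ k hk]
          have h5 : T (((Over.homMk k : Over.mk (k ≫ o'.obj.hom) ⟶ o'.obj) ≫ f.hom) ≫ h) := by
            rw [Category.assoc]; exact hk' hk
          have h6 := hψ' o h ((Over.homMk k : Over.mk (k ≫ o'.obj.hom) ⟶ o'.obj) ≫ f.hom) h5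
          have h7 : X _ h5 = X _ (hk' hk) := by congr 1; simp
          rw [h7] at h6
          have h8 : k ≫ f.hom.left ≫ ψ o h = ((Over.homMk k : Over.mk (k ≫ o'.obj.hom) ⟶ o'.obj) ≫ f.hom).left ≫ ψ o h := by
            simp
          rw [h8, h6]
          change ((X _ (hk' hk)).s _ _ ≫ 𝒟.D.map _) ≫ 𝒟.D.map f = (X _ (hk' hk)).s _ _ ≫ 𝒟.D.map _
          rw [Category.assoc, ← 𝒟.D.map_comp]
          rfl }
    refine ⟨y, ?_⟩
    intro Z k hk
    change y.res k = X k hk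
    ext o h
    change ψ o (h ≫ k) = _
    have h9 := hψ' o (h ≫ k) (𝟙 _) (by rw [Category.id_comp]; exact T.downward_closed hk _)
    have h10 : X (𝟙 _ ≫ h ≫ k) (by rw [Category.id_comp]; exact T.downward_closed hk _) = (X k hk).res h := by
      rw [← hX k hk h (T.downward_closed hk _)]
      congr 1
      simp
    rw [h10, ← Fm.s_eq_ev] at h9
    simpa using h9

end Sheaf

section Cocone

variable (𝒟) in
/-- `D o` over `U` -/
abbrev obU (o : R.arrows.category) : Over U := Over.mk (𝒟.π o ≫ o.obj.hom)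

variable (𝒟) in
/-- the tautological family over `D o` -/
noncomputable def taut (o : R.arrows.category) : Fm 𝒟 (obU 𝒟 o) :=
  Fm.ofLift (Over.homMk (𝒟.π o) : obU 𝒟 o ⟶ o.obj) (𝟙 _) (by simp)

theorem taut_ev (o : R.arrows.category) : (taut 𝒟 o).ev (Over.homMk (𝒟.π o) : obU 𝒟 o ⟶ o.obj) = 𝟙 _ :=
  Fm.ev_ofLift _ _ _

/-- The descended object: if `E` with the family `ξ` represents the compatible families, then there is a cocone of
cartesian squares `D o ⟶ E`. -/
theorem exists_cocone {E : Over U} (ξ : Fm 𝒟 E) (hξ : ∀ (W : Over U) (x : Fm 𝒟 W), ∃! m : W ⟶ E, ξ.res m = x) :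
    ∃ c : ∀ o : R.arrows.category, 𝒟.D.obj o ⟶ E.left,
      (∀ o, IsPullback (c o) (𝒟.π o) E.hom o.obj.hom) ∧
      ∀ {o o' : R.arrows.category} (f : o ⟶ o'), 𝒟.D.map f ≫ c o' = c o := by
  choose m hm hm' using fun o => hξ _ (taut 𝒟 o)
  have hm0 : ∀ o, ξ.res (m o) = taut 𝒟 o := hm
  have hw : ∀ o, (m o).left ≫ E.hom = 𝒟.π o ≫ o.obj.hom := fun o => Over.w (m o)
  refine ⟨fun o => (m o).left, fun o => ?_, fun {o o'} f => ?_⟩
  · refine ⟨⟨hw o⟩, ⟨PullbackCone.IsLimit.mk (hw o) (fun t => (ξ.res (Over.homMk t.fst : Over.mk (t.fst ≫ E.hom) ⟶ E)).ev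
      (Over.homMk t.snd t.condition.symm : Over.mk (t.fst ≫ E.hom) ⟶ o.obj)) ?_ ?_ ?_⟩⟩
    · intro t
      let W : Over U := Over.mk (t.fst ≫ E.hom)
      let a : W ⟶ E := Over.homMk t.fst
      let k : W ⟶ o.obj := Over.homMk t.snd t.condition.symm
      let τ : W.left ⟶ 𝒟.D.obj o := (ξ.res a).ev k
      have hτ : τ ≫ 𝒟.π o = t.snd := Fm.ev_π _ _
      let τ' : W ⟶ obU 𝒟 o := Over.homMk τ (by
        change τ ≫ 𝒟.π o ≫ o.obj.hom = t.fst ≫ E.hom
        rw [← Category.assoc, hτ, t.condition])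
      have h1 : (taut 𝒟 o).res τ' = ξ.res a := by
        apply Fm.ext_ev k
        rw [Fm.ev_res (taut 𝒟 o) τ' (Over.homMk (𝒟.π o) : obU 𝒟 o ⟶ o.obj) k (by ext; exact hτ.symm), taut_ev]
        exact Category.comp_id _
      rw [← hm0, ← Fm.res_comp] at h1
      have h2 := (hξ _ (ξ.res a)).unique h1 rfl
      exact congrArg (fun z : W ⟶ E => z.left) h2
    · intro t
      exact Fm.ev_π _ _
    · intro t τ h1 h2
      let W : Over U := Over.mk (t.fst ≫ E.hom)
      let k : W ⟶ o.obj := Over.homMk t.snd t.condition.symm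
      let τ' : W ⟶ obU 𝒟 o := Over.homMk τ (by
        change τ ≫ 𝒟.π o ≫ o.obj.hom = t.fst ≫ E.hom
        rw [← Category.assoc, h2, t.condition])
      have h3 : (Over.homMk t.fst : W ⟶ E) = τ' ≫ m o := by
        ext
        exact h1.symm
      change τ = (ξ.res (Over.homMk t.fst : W ⟶ E)).ev k
      rw [h3, Fm.res_comp, hm0,
        Fm.ev_res (taut 𝒟 o) τ' (Over.homMk (𝒟.π o) : obU 𝒟 o ⟶ o.obj) k (by ext; exact h2.symm), taut_ev]
      exact (Category.comp_id _).symm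
  · let g : obU 𝒟 o ⟶ obU 𝒟 o' := Over.homMk (𝒟.D.map f) (by
      change 𝒟.D.map f ≫ 𝒟.π o' ≫ o'.obj.hom = 𝒟.π o ≫ o.obj.hom
      rw [← Category.assoc, (𝒟.cart f).w, Category.assoc, Over.w f.hom])
    have h1 : (taut 𝒟 o').res g = taut 𝒟 o := by
      apply Fm.ext_ev ((Over.homMk (𝒟.π o) : obU 𝒟 o ⟶ o.obj) ≫ f.hom)
      rw [Fm.ev_res (taut 𝒟 o') g (Over.homMk (𝒟.π o') : obU 𝒟 o' ⟶ o'.obj) _ (by
        ext
        exact (𝒟.cart f).w.symm), taut_ev]
      refine (Category.comp_id _).trans ?_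
      have h2 : ∀ x : Fm 𝒟 (obU 𝒟 o), x.ev ((Over.homMk (𝒟.π o) : obU 𝒟 o ⟶ o.obj) ≫ f.hom) =
          x.ev (Over.homMk (𝒟.π o) : obU 𝒟 o ⟶ o.obj) ≫ 𝒟.D.map f := by
        intro x
        rw [Fm.ev, Fm.ev, Category.assoc, ← 𝒟.D.map_comp]
        rfl
      rw [h2, taut_ev]
      exact (Category.id_comp _).symm
    rw [← hm0, ← Fm.res_comp] at h1
    have h2 := (hξ _ (taut 𝒟 o)).unique h1 (hm0 o)
    exact congrArg (fun z : obU 𝒟 o ⟶ E => z.left) h2

end Cocone

end K750.Fam
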