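import Groth.Agent.AlgSt.K750.TorsPts
import Mathlib.Algebra.BigOperators.Field
import Mathlib.SetTheory.Cardinal.Finite

/-!
# The fibre category of `[X/G]` over the terminal object, when all torsors there have sections, and its mass
-/

set_option autoImplicit false
set_option backward.isDefEq.respectTransparency false
set_option backward.isDefEq.respectTransparency.types false

universe u

open CategoryTheory CategoryTheory.Limits MonoidalCategory CartesianMonoidalCategory MonObj GrpObj AlgebraicGeometry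
open AlgSt K750.TorsPts

namespace K750.FibGrpd

variable {S : Scheme.{u}} {K : Precoverage Scheme.{u}} {G X : Over S} [GrpObj G] {aX : AlgGrp.Action G X}

/-- the terminal object -/
abbrev T0 (S : Scheme.{u}) : Over S := Over.mk (𝟙 S)

/-- the fibre category over the terminal object -/
abbrev Fib (K : Precoverage Scheme.{u}) (G : Over S) [GrpObj G] (aX : AlgGrp.Action G X) : Type (u + 1) :=
  (QuotSt K G aX).p.Fiber (T0 S)

theorem eq_of_terminal {T : Over S} (f g : T ⟶ T0 S) : f = g := Over.mkIdTerminal.hom_ext f g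

theorem eq_of_base (A : Fib K G aX) {T : Over S} (f g : T ⟶ A.1.base) : f = g := by
  have h : A.1.base = T0 S := A.2
  revert f g
  rw [h]
  exact eq_of_terminal

/-- the identification of the base -/
noncomputable def bs (A : Fib K G aX) : A.1.base ⟶ T0 S := eqToHom A.2

/-- a morphism of the fibre category -/
noncomputable def mkHom {A B : Fib K G aX} (h : A.1 ⟶ B.1) : A ⟶ B :=
  ⟨h, IsHomLift.of_fac _ _ _ A.2 B.2 (eq_of_terminal _ _)⟩

theorem hom_ext_fib {A B : Fib K G aX} (s : T0 S ⟶ A.1.P) {h h' : A ⟶ B}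
    (ht : s ≫ h.1.top = s ≫ h'.1.top) : h = h' := by
  apply Subtype.ext
  apply hom_ext_of_section (bs A ≫ s) (eq_of_base A _ _)
  rw [Category.assoc, Category.assoc, ht]

theorem exists_hom_fib {A B : Fib K G aX} (s : T0 S ⟶ A.1.P) (t : T0 S ⟶ B.1.P) (hst : t ≫ B.1.φ = s ≫ A.1.φ) :
    ∃ h : A ⟶ B, s ≫ h.1.top = t := by
  obtain ⟨h, h1, h2⟩ := exists_hom_of_section (A := A.1) (B := B.1) (bs A ≫ t ≫ B.1.π) (bs A ≫ s)
    (eq_of_base A _ _) (bs A ≫ t) (by simp) (by simp [hst])
  refine ⟨mkHom h, ?_⟩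
  have : IsIso (bs A) := by unfold bs; infer_instance
  rw [← cancel_epi (bs A)]
  simpa [mkHom] using h2

theorem comp_top' {A B C : Fib K G aX} (f : A ⟶ B) (g : B ⟶ C) : (f ≫ g).1.top = f.1.top ≫ g.1.top := rfl

theorem id_top' (A : Fib K G aX) : (𝟙 A : A ⟶ A).1.top = 𝟙 _ := rfl

theorem exists_iso_fib {A B : Fib K G aX} (s : T0 S ⟶ A.1.P) (t : T0 S ⟶ B.1.P) (hst : t ≫ B.1.φ = s ≫ A.1.φ) :
    ∃ e : A ≅ B, s ≫ e.hom.1.top = t := by
  obtain ⟨f, hf⟩ := exists_hom_fib s t hst
  obtain ⟨g, hg⟩ := exists_hom_fib t s hst.symm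
  refine ⟨⟨f, g, ?_, ?_⟩, hf⟩
  · apply hom_ext_fib s
    rw [comp_top', id_top', reassoc_of% hf, hg, Category.comp_id]
  · apply hom_ext_fib t
    rw [comp_top', id_top', reassoc_of% hg, hf, Category.comp_id]

/-- the group acts simply transitively on the sections -/
theorem bij_act (A : Fib K G aX) (s : T0 S ⟶ A.1.P) :
    Function.Bijective (fun g : T0 S ⟶ G => act A.1.act g s) := by
  constructor
  · intro g g' h
    exact act_left_cancel A.1.act A.1.cart s h
  · intro t
    exact ⟨dif A.1.act A.1.cart s t (eq_of_base A _ _), act_dif _ _ _ _ _⟩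

/-- the automorphisms act simply transitively on the sections with a given image in `X` -/
theorem bij_aut (A : Fib K G aX) (s : T0 S ⟶ A.1.P) :
    Function.Bijective (fun e : Aut A => (⟨s ≫ e.hom.1.top, by
      rw [Category.assoc, e.hom.1.wφ]⟩ : {t : T0 S ⟶ A.1.P // t ≫ A.1.φ = s ≫ A.1.φ})) := by
  constructor
  · intro e e' h
    apply Aut.ext
    exact hom_ext_fib s (congrArg Subtype.val h)
  · rintro ⟨t, ht⟩
    obtain ⟨e, he⟩ := exists_iso_fib s t ht
    exact ⟨e, Subtype.ext he⟩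

variable [K.HasIsos]

/-- the object of a rational point of `X` -/
noncomputable def ob (x : T0 S ⟶ X) : Fib K G aX := ⟨(quotMap K G aX).obj ⟨T0 S, ⟨x⟩⟩, rfl⟩

theorem exists_sec_ob (x : T0 S ⟶ X) : ∃ s : T0 S ⟶ (ob (K := K) (aX := aX) x).1.P, s ≫ (ob (K := K) (aX := aX) x).1.φ = x := by
  refine ⟨lift (1 : T0 S ⟶ G) (𝟙 _), ?_⟩
  change lift (1 : T0 S ⟶ G) (𝟙 _) ≫ (G ◁ x) ≫ aX.act = x
  rw [lift_whiskerLeft_assoc, Category.id_comp]
  exact act_one aX x

/-- the range of the map on sections -/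
def rg (A : Fib K G aX) : Set (T0 S ⟶ X) := Set.range (fun s : T0 S ⟶ A.1.P => s ≫ A.1.φ)

omit [K.HasIsos] in
theorem rg_subset {A B : Fib K G aX} (e : A ⟶ B) : rg A ⊆ rg B := by
  rintro x ⟨s, rfl⟩
  exact ⟨s ≫ e.1.top, by simp only [Category.assoc]; rw [e.1.wφ]⟩

omit [K.HasIsos] in
theorem rg_eq {A B : Fib K G aX} (e : A ≅ B) : rg A = rg B := (rg_subset e.hom).antisymm (rg_subset e.inv)

omit [K.HasIsos] in
theorem card_sec (A : Fib K G aX) (s : T0 S ⟶ A.1.P) : Nat.card (T0 S ⟶ A.1.P) = Nat.card (T0 S ⟶ G) :=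
  (Nat.card_congr (Equiv.ofBijective _ (bij_act A s))).symm

omit [K.HasIsos] in
/-- sections are pairs of a point of the range and an automorphism -/
theorem card_sec' (A : Fib K G aX) : Nat.card (T0 S ⟶ A.1.P) = Nat.card (rg A) * Nat.card (Aut A) := by
  classical
  have h : ∀ x : rg A, ∃ s : T0 S ⟶ A.1.P, s ≫ A.1.φ = x.1 := fun x => x.2
  choose s hs using h
  let e1 : (T0 S ⟶ A.1.P) ≃ Σ x : rg A, {t : T0 S ⟶ A.1.P // t ≫ A.1.φ = x.1} :=
    { toFun := fun t => ⟨⟨t ≫ A.1.φ, t, rfl⟩, t, rfl⟩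
      invFun := fun t => t.2.1
      left_inv := fun t => rfl
      right_inv := by
        rintro ⟨⟨x, hx⟩, t, ht⟩
        dsimp at ht
        subst ht
        rfl }
  let e2 : ∀ x : rg A, {t : T0 S ⟶ A.1.P // t ≫ A.1.φ = x.1} ≃ Aut A := fun x =>
    (Equiv.subtypeEquivRight (fun t => by rw [hs x])).trans (Equiv.ofBijective _ (bij_aut A (s x))).symm
  rw [← Nat.card_prod]
  exact Nat.card_congr (e1.trans ((Equiv.sigmaCongrRight e2).trans (Equiv.sigmaEquivProd _ _)))

/-- The mass formula for the fibre of `[X/G]` over the terminal object when all torsors there have sections. -/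
theorem mass [Finite (T0 S ⟶ X)] [Finite (T0 S ⟶ G)]
    (hsec : ∀ A : Fib K G aX, Nonempty (T0 S ⟶ A.1.P)) :
    Finite (Quotient (isIsomorphicSetoid (Fib K G aX))) ∧ (∀ A : Fib K G aX, Finite (Aut A)) ∧
    ∑ᶠ c : Quotient (isIsomorphicSetoid (Fib K G aX)), ((Nat.card (Aut c.out) : ℚ))⁻¹ =
        (Nat.card (T0 S ⟶ X) : ℚ) / (Nat.card (T0 S ⟶ G) : ℚ) := by
  classical
  have hfS : ∀ A : Fib K G aX, Finite (T0 S ⟶ A.1.P) := fun A => by
    obtain ⟨s⟩ := hsec A
    exact Finite.of_surjective _ (bij_act A s).2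
  have hfA : ∀ A : Fib K G aX, Finite (Aut A) := fun A => by
    obtain ⟨s⟩ := hsec A
    exact Finite.of_injective _ (bij_aut A s).1
  -- points of `X` correspond to pairs of a class and a point of its range
  let F : (Σ c : Quotient (isIsomorphicSetoid (Fib K G aX)), rg c.out) → (T0 S ⟶ X) := fun p => p.2.1
  have hF : Function.Bijective F := by
    constructor
    · rintro ⟨c, x, hx⟩ ⟨c', x', hx'⟩ (h : x = x')
      subst h
      have hc : c = c' := by
        obtain ⟨s, hs⟩ := hx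
        obtain ⟨t, ht⟩ := hx'
        obtain ⟨e, -⟩ := exists_iso_fib s t (ht.trans hs.symm)
        rw [← c.out_eq, ← c'.out_eq]
        exact Quotient.sound ⟨e⟩
      subst hc
      rfl
    · intro x
      let A : Fib K G aX := ob x
      have hA : x ∈ rg A := by
        obtain ⟨s, hs⟩ := exists_sec_ob (K := K) (aX := aX) x
        exact ⟨s, hs⟩
      obtain ⟨e⟩ := (Quotient.exact (Quotient.out_eq (Quotient.mk (isIsomorphicSetoid (Fib K G aX)) A)) :
        IsIsomorphic (Quotient.out (Quotient.mk (isIsomorphicSetoid (Fib K G aX)) A)) A)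
      exact ⟨⟨Quotient.mk (isIsomorphicSetoid (Fib K G aX)) A, x, (rg_eq e).symm ▸ hA⟩, rfl⟩
  have hfQ : Finite (Quotient (isIsomorphicSetoid (Fib K G aX))) := by
    have h1 : Function.Injective (fun c : Quotient (isIsomorphicSetoid (Fib K G aX)) =>
        F ⟨c, ⟨(hsec c.out).some ≫ c.out.1.φ, _, rfl⟩⟩) := by
      intro c c' h
      exact congrArg Sigma.fst (hF.1 h)
    exact Finite.of_injective _ h1
  refine ⟨hfQ, hfA, ?_⟩
  have := Fintype.ofFinite (Quotient (isIsomorphicSetoid (Fib K G aX)))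
  rw [finsum_eq_sum_of_fintype]
  have hG : (Nat.card (T0 S ⟶ G) : ℚ) ≠ 0 := by
    have : Nonempty (T0 S ⟶ G) := ⟨1⟩
    exact_mod_cast Nat.card_pos.ne'
  have hterm : ∀ c : Quotient (isIsomorphicSetoid (Fib K G aX)),
      ((Nat.card (Aut c.out) : ℚ))⁻¹ = (Nat.card (rg c.out) : ℚ) / (Nat.card (T0 S ⟶ G) : ℚ) := by
    intro c
    obtain ⟨s⟩ := hsec c.out
    have h1 : Nat.card (T0 S ⟶ G) = Nat.card (rg c.out) * Nat.card (Aut c.out) := by
      rw [← card_sec c.out s, card_sec']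
    have h2 : (Nat.card (Aut c.out) : ℚ) ≠ 0 := by
      have := hfA c.out
      exact_mod_cast Nat.card_pos.ne'
    rw [eq_div_iff hG, h1]
    push_cast
    field_simp
  rw [Finset.sum_congr rfl (fun c _ => hterm c), ← Finset.sum_div]
  congr 1
  rw [← Nat.card_congr (Equiv.ofBijective F hF), Nat.card_sigma]
  push_cast
  rfl

end K750.FibGrpd
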