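import Groth.Agent.AlgSt.K750.TwistBG
import Groth.Agent.AlgSt.K750.QuotEff
import Groth.Agent.Gerb.K895.LocEquiv

/-!
# A gerbe over the base scheme with a section is a classifying stack (helper750)
-/

set_option autoImplicit false
set_option backward.isDefEq.respectTransparency false
set_option backward.isDefEq.respectTransparency.types false

universe v₂ u₂ u

open CategoryTheory CategoryTheory.Limits MonoidalCategory CartesianMonoidalCategory MonObj GrpObj AlgebraicGeometry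
open AlgSt K750.TorsPts K750.Cone K751.FG Opposite

namespace K750.GerbBG

open K750.Twist K750.TwistBG

variable {S : Scheme.{u}} {G : Over S} [GrpObj G] {𝒳 : BasedCategory.{v₂, u₂} (Over S)}

variable (x : FibCat.overCat (T₀ S) ⥤ᵇ 𝒳) (r : Gerb.AutRep x (Gerb.ptsGrp (T₀ S) G))
  {K : Precoverage Scheme.{u}} [K.HasIsos] (h𝒳 : FibCat.IsFibGrpd 𝒳.p)

include h𝒳 in
theorem locSurjObj (π : 𝒳 ⥤ᵇ FibCat.overCat (T₀ S)) (hπ : Gerb.LocSurjHom (QuotSh.J K S) π)
    (F : BG K G ⥤ᵇ 𝒳)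
    (e : BasedFunctor.comp (quotMap K G (trivAction G)) F ≅ BasedFunctor.comp (toOverCat (T₀ S)) x) :
    Gerb.LocSurjObj (QuotSh.J K S) F := by
  intro y
  let T : Over S := 𝒳.p.obj y
  let XT : 𝒳.obj := x.obj (ov T)
  have hT : 𝒳.p.obj XT = T := x.w_obj (ov T)
  have h1 : (π.obj XT).left = 𝒳.p.obj XT := π.w_obj XT
  have h2 : (π.obj y).left = 𝒳.p.obj y := π.w_obj y
  let b : π.obj XT ⟶ π.obj y := Over.homMk (eqToHom (h1.trans (hT.trans h2.symm))) (tm_unique _ _)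
  have hb : (FibCat.overCat (T₀ S)).p.IsHomLift (𝟙 (𝒳.p.obj XT)) b := by
    refine IsHomLift.of_fac' _ _ _ h1 (h2.trans hT.symm) ?_
    change eqToHom (h1.trans (hT.trans h2.symm)) = _
    simp
  obtain ⟨R, hR, hR'⟩ := hπ XT y b hb
  refine ⟨R.pullback (eqToHom hT.symm), (QuotSh.J K S).pullback_stable _ hR, ?_⟩
  intro V f hf
  obtain ⟨x₀, φ, ψ, hφ, hψ, -⟩ := hR' (f ≫ eqToHom hT.symm) hf
  have e1 : (f ≫ eqToHom hT.symm) ≫ eqToHom hT = f := by simp
  have hφ' : 𝒳.p.IsHomLift f φ := by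
    have : 𝒳.p.IsHomLift ((f ≫ eqToHom hT.symm) ≫ eqToHom hT) φ := inferInstance
    rwa [e1] at this
  have hψ' : 𝒳.p.IsHomLift f ψ := by
    have : 𝒳.p.IsHomLift ((f ≫ eqToHom hT.symm) ≫ eqToHom hT) ψ := inferInstance
    rwa [e1] at this
  have hx : 𝒳.p.IsHomLift f (x.map (om f : ov V ⟶ ov T)) := by
    have h1 : (FibCat.overCat (T₀ S)).p.IsHomLift f (om f : ov V ⟶ ov T) :=
      IsHomLift.map (FibCat.overCat (T₀ S)).p (om f : ov V ⟶ ov T)
    exact BasedFunctor.preserves_isHomLift x f _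
  obtain ⟨χ, hχ, -⟩ := exists_factor h𝒳 (𝟙 V) (Category.id_comp f) φ (x.map (om f : ov V ⟶ ov T)) hφ' hx
  let a : (ofSch (T₀ S)).obj := ⟨V, ⟨tm V⟩⟩
  have he : 𝒳.p.IsHomLift (𝟙 V) (e.hom.toNatTrans.app a) := e.hom.isHomLift' a
  refine ⟨(quotMap K G (trivAction G)).obj a, e.hom.toNatTrans.app a ≫ χ ≫ ψ, ?_⟩
  have h3 : 𝒳.p.IsHomLift f (χ ≫ ψ) := IsHomLift.comp_lift_id_left 𝒳.p f _ _
  exact IsHomLift.comp_lift_id_left 𝒳.p f _ _

include r in
/-- **A gerbe over the base with a section and affine automorphism group is `BG`.** -/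
theorem isQuotientOf [IsAffineHom G.hom] [K.IsStableUnderBaseChange] [K.IsStableUnderComposition]
    (hK : K ≤ Scheme.fpqcPrecoverage) (h𝒳' : Stk.IsStack (QuotSh.J K S) 𝒳)
    (π : 𝒳 ⥤ᵇ FibCat.overCat (T₀ S)) (hπ : Gerb.LocSurjHom (QuotSh.J K S) π) :
    ∃ F : QuotSt K G (trivAction G) ⥤ᵇ 𝒳, FibCat.IsEquivOver F := by
  have hsub : (QuotSh.J K S).Subcanonical := by
    have : K.toGrothendieck.Subcanonical := .of_le (Precoverage.toGrothendieck_mono hK)
    infer_instance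
  obtain ⟨F, hF1, hF2, ⟨e⟩⟩ := exists_fullyFaithful x r h𝒳'
  exact ⟨F, K895.LocEquiv.isEquivOver_of_locSurjObj (K750.QuotEff.isStack_quotSt hK _)
    (K751.Test.isPrestack_of_isStack h𝒳') F (locSurjObj x h𝒳'.1 π hπ F e)⟩

end K750.GerbBG
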