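import Groth.Agent.AlgSt.K743.Locus
import Groth.Agent.AlgSt.K742.EvQ3
import Groth.Agent.AlgSt.K737.OpenSt

/-!
# The locus where a morphism of algebraic stacks has a nice property (helper750)

* `Loc P f` : the set of points of `𝒳` in the image of a smooth chart `z` such that `z ⋙ f` has `P`;
* `ofChart_mem_loc_iff` : on a chart `U ⟶ 𝒳 ×_𝒴 V`, smooth, it is the preimage of the locus of `U ⟶ V`;
* `locQ_sub_iff` : `P` holds on an open substack iff its points lie in `Loc P f`.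
-/

set_option autoImplicit false
set_option backward.isDefEq.respectTransparency false
set_option backward.isDefEq.respectTransparency.types false

universe v₄ u₄ v u

open CategoryTheory CategoryTheory.Limits AlgebraicGeometry Opposite
open K735.Fib K735.Fp K735.Rep K742.Sq K742 K742.EvQ

namespace K750.GoodLoc

variable {S : Scheme.{u}} {𝒳 𝒴 𝒵 : AlgSt.Cat S} {P Q R : MorphismProperty Scheme.{u}}

/-- The points of `𝒳` at which `f` has `P`. -/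
def Loc (P : MorphismProperty Scheme.{u}) (f : 𝒳 ⥤ᵇ 𝒴) : Set (AlgSt.Points 𝒳) :=
  {ξ | ∃ (W : Over S) (z : FibCat.overCat W ⥤ᵇ 𝒳), AlgSt.RepByAlgSpWith (AlgSp.LocP @Smooth) z ∧
    AlgSt.RepByAlgSpWith (AlgSp.LocP P) (BasedFunctor.comp z f) ∧ ξ ∈ Set.range (AlgSt.Points.map z)}

/-- A smooth chart of `𝒳 ×_𝒴 V`. -/
structure Gw (f : 𝒳 ⥤ᵇ 𝒴) {U V : Over S} (y : FibCat.overCat V ⥤ᵇ 𝒴) (w : FibCat.overCat U ⥤ᵇ FibCat.fp f y)
    (a : U ⟶ V) : Prop where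
  sm : AlgSt.RepByAlgSpWith (AlgSp.LocP @Smooth) w
  iso : Nonempty (BasedFunctor.comp w (FibCat.fpSnd f y) ≅ AlgSt.overMap a)

theorem exists_local_chart (hP : NiceP P) (h𝒳 : FibCat.IsFibGrpd 𝒳.p) (h𝒴 : FibCat.IsFibGrpd 𝒴.p)
    (ha : AlgSt.HasAtlas (AlgSp.LocP @Smooth) 𝒳) (f : 𝒳 ⥤ᵇ 𝒴)
    {W : Over S} (x₀ : FibCat.overCat W ⥤ᵇ 𝒳) (hx₀ : AlgSt.RepByAlgSpWith (AlgSp.LocP @Smooth) x₀)
    (hc : AlgSt.RepByAlgSpWith (AlgSp.LocP P) (BasedFunctor.comp x₀ f)) {U V : Over S}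
    (y : FibCat.overCat V ⥤ᵇ 𝒴) (hy : AlgSt.RepByAlgSp1 y) (L : FibCat.overCat U ⥤ᵇ FibCat.fp f y) (h : U ⟶ V)
    (hg : Gw f y L h) :
    ∃ (T : Over S) (t : T ⟶ U), Smooth t.left ∧ P (t.left ≫ h.left) ∧
      ∀ u : U.left, AlgSt.Points.ofChart (BasedFunctor.comp L (FibCat.fpFst f y)) u ∈ Set.range (AlgSt.Points.map x₀) →
        u ∈ Set.range t.left := by
  obtain ⟨hL, ⟨iL⟩⟩ := hg
  let q := FibCat.fpFst f y
  let s₀ := FibCat.fpFst q x₀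
  have hQg : FibCat.IsFibGrpd (FibCat.fp f y).p := isFibGrpd_fp h𝒳 (isFibGrpd_overCat V) h𝒴 f y
  have hQ0g : FibCat.IsFibGrpd (FibCat.fp q x₀).p := isFibGrpd_fp hQg (isFibGrpd_overCat W) h𝒳 q x₀
  have hWg : FibCat.IsFibGrpd (FibCat.fp s₀ L).p := isFibGrpd_fp hQ0g (isFibGrpd_overCat U) hQg s₀ L
  -- atlases
  obtain ⟨T₁, w₁, hw₁, hw₁s⟩ := K742.Chain.exists_atlas_fp h𝒳 h𝒴 ha f y hy
  have ha₁ : AlgSt.HasAtlas (AlgSp.LocP @Smooth) (FibCat.fp f y) := ⟨T₁, w₁, hw₁,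
    (K735.Top.repByAlgSpWith_surjective_iff hQg (isFibGrpd_overCat T₁) (repByAlgSp1_of_with hw₁)).1 hw₁s⟩
  obtain ⟨T₂, w₂, hw₂, hw₂s⟩ := K742.Chain.exists_atlas_fp hQg h𝒳 ha₁ q x₀ (repByAlgSp1_of_with hx₀)
  have ha₂ : AlgSt.HasAtlas (AlgSp.LocP @Smooth) (FibCat.fp q x₀) := ⟨T₂, w₂, hw₂,
    (K735.Top.repByAlgSpWith_surjective_iff hQ0g (isFibGrpd_overCat T₂) (repByAlgSp1_of_with hw₂)).1 hw₂s⟩
  obtain ⟨T, w, hw, hws⟩ := K742.Chain.exists_atlas_fp hQ0g hQg ha₂ s₀ L (repByAlgSp1_of_with hL)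
  -- the map to `U`
  have hs₀ : AlgSt.RepByAlgSpWith (AlgSp.LocP @Smooth) s₀ := K742.RepComp.repByAlgSpWith_fpFst q x₀ hx₀
  obtain ⟨t, ⟨i⟩⟩ := K735.Top.exists_iso_overMap (BasedFunctor.comp w (FibCat.fpSnd s₀ L))
  have ht : Smooth t.left := (nice_smooth.overMap_iff t).1 (repByAlgSpWith_of_iso _ i
    (K742.SmComp.smooth_comp (isFibGrpd_overCat T) hWg _ _ hw (K742.RepComp.repByAlgSpWith_fpSnd s₀ L hs₀)))
  refine ⟨T, t, ht, ?_, ?_⟩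
  · have h1 : AlgSt.RepByAlgSpWith (AlgSp.LocP P) (BasedFunctor.comp w (BasedFunctor.comp (FibCat.fpFst s₀ L)
        (BasedFunctor.comp s₀ (FibCat.fpSnd f y)))) :=
      hP.comp_rep (isFibGrpd_overCat T) hWg (hP.of_smooth hw)
        (hP.comp_rep hWg hQ0g (hP.of_smooth (K742.RepComp.repByAlgSpWith_fpFst s₀ L hL)) (rep_fpFst_snd x₀ f y hc))
    let κ : BasedFunctor.comp w (BasedFunctor.comp (FibCat.fpFst s₀ L) (BasedFunctor.comp s₀ (FibCat.fpSnd f y))) ≅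
        AlgSt.overMap (t ≫ h) :=
      K743.BC.whiskerLeftIso w (K743.BC.whiskerRightIso (FibCat.fpIso s₀ L) (FibCat.fpSnd f y)) ≪≫
        K743.BC.whiskerRightIso i (BasedFunctor.comp L (FibCat.fpSnd f y)) ≪≫
        K743.BC.whiskerLeftIso (AlgSt.overMap t) iL ≪≫ overMapComp t h
    exact (hP.overMap_iff (t ≫ h)).1 (repByAlgSpWith_of_iso _ κ h1)
  · rintro u ⟨p, hp⟩
    obtain ⟨ω, hω1, -⟩ := K735.Pts.exists_fp (isFibGrpd_overCat W) hQg h𝒳 q x₀ (AlgSt.Points.ofChart L u) p hp.symm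
    obtain ⟨ω', -, hω'⟩ := K735.Pts.exists_fp (isFibGrpd_overCat U) hQ0g hQg s₀ L ω
      (AlgSt.Points.ofChart (BasedFunctor.id _) u) hω1
    obtain ⟨τ, hτ⟩ := (K735.PtsSp.surjective_map_iff_surjective_ofChart w).1 hws ω'
    refine ⟨τ, (K735.PtsSp.ofChart_id_bijective U).1 ?_⟩
    rw [← hω', ← hτ, ← K735.PtsSp.ofChart_overMap]
    exact (K735.PtsSp.ofChart_congr i τ).symm

/-- **On smooth charts of `𝒳 ×_𝒴 V` the locus is the locus of the morphism of schemes.** -/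
theorem ofChart_mem_loc_iff (hP : NiceP P) [IsZariskiLocalAtSource P] (h𝒳 : FibCat.IsFibGrpd 𝒳.p)
    (h𝒴 : FibCat.IsFibGrpd 𝒴.p)
    (ha : AlgSt.HasAtlas (AlgSp.LocP @Smooth) 𝒳) (f : 𝒳 ⥤ᵇ 𝒴) {U V : Over S}
    (y : FibCat.overCat V ⥤ᵇ 𝒴) (hy : AlgSt.RepByAlgSpWith (AlgSp.LocP @Smooth) y)
    (L : FibCat.overCat U ⥤ᵇ FibCat.fp f y) (h : U ⟶ V) (hg : Gw f y L h) (u : U.left) :
    AlgSt.Points.ofChart (BasedFunctor.comp L (FibCat.fpFst f y)) u ∈ Loc P f ↔ u ∈ K743.Locus.locus P h.left := by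
  have hQg : FibCat.IsFibGrpd (FibCat.fp f y).p := isFibGrpd_fp h𝒳 (isFibGrpd_overCat V) h𝒴 f y
  constructor
  · rintro ⟨W, z, hz, hzf, hu⟩
    obtain ⟨T, t, ht, hth, hr⟩ := exists_local_chart hP h𝒳 h𝒴 ha f z hz hzf y (repByAlgSp1_of_with hy) L h hg
    have := ht
    exact K743.Locus.range_subset_locus P t.left h.left hP.desc hth (hr u hu)
  · intro hu
    obtain ⟨hL, ⟨iL⟩⟩ := hg
    let O := K743.Locus.locus P h.left
    let jO : K737.Open.opensOver U O ⟶ U := K737.Open.opensι U O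
    have hLq : AlgSt.RepByAlgSpWith (AlgSp.LocP @Smooth) (BasedFunctor.comp L (FibCat.fpFst f y)) :=
      K742.SmComp.smooth_comp (isFibGrpd_overCat U) hQg _ _ hL (K742.RepComp.repByAlgSpWith_fpFst f y hy)
    refine ⟨K737.Open.opensOver U O, BasedFunctor.comp (AlgSt.overMap jO) (BasedFunctor.comp L (FibCat.fpFst f y)),
      ?_, ?_, ?_⟩
    · exact K743.Comp.locP_overMap_comp K597.etLoc_smooth jO (inferInstanceAs (Smooth O.ι)) _ hLq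
    · let κ : BasedFunctor.comp (BasedFunctor.comp (AlgSt.overMap jO) (BasedFunctor.comp L (FibCat.fpFst f y))) f ≅
          BasedFunctor.comp (AlgSt.overMap (jO ≫ h)) y :=
        K743.BC.whiskerLeftIso (AlgSt.overMap jO) (K743.BC.whiskerLeftIso L (FibCat.fpIso f y)) ≪≫
          K743.BC.whiskerLeftIso (AlgSt.overMap jO) (K743.BC.whiskerRightIso iL y) ≪≫
          K743.BC.whiskerRightIso (overMapComp jO h) y
      refine repByAlgSpWith_of_iso _ κ.symm ?_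
      have := hP.bc
      have := hP.comp
      refine K743.Comp.locP_overMap_comp hP.et (jO ≫ h) ?_ y (hP.of_smooth hy)
      rw [Over.comp_left]
      exact K743.Locus.locus_prop P h.left
    · refine ⟨K743.Pt.pt (⟨u, hu⟩ : ↥(K737.Open.opensOver U O).left), ?_⟩
      exact K735.PtsSp.ofChart_overMap jO (BasedFunctor.comp L (FibCat.fpFst f y)) (⟨u, hu⟩ : ↥(K737.Open.opensOver U O).left)

theorem isOpen_loc {K : Precoverage Scheme.{u}} (h𝒳 : AlgSt.IsAlgStack K 𝒳) (f : 𝒳 ⥤ᵇ 𝒴) : IsOpen (Loc P f) := by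
  rw [isOpen_iff_mem_nhds]
  rintro ξ ⟨W, z, hz, hzf, hξ⟩
  have hzo : IsOpenMap (AlgSt.Points.ofChart z) := K735.Top.isOpenMap_ofChart z
    (K735.Top.isOpenMap_map K735.Top.isOpenMap_of_smooth h𝒳.isStack.1 (isFibGrpd_overCat W)
      (K735.Top.chartCont_overCat W) hz)
  refine Filter.mem_of_superset (hzo.isOpen_range.mem_nhds ?_) ?_
  · rw [← K735.PtsSp.range_map_eq_range_ofChart]
    exact hξ
  · rw [← K735.PtsSp.range_map_eq_range_ofChart]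
    intro ξ' hξ'
    exact ⟨W, z, hz, hzf, hξ'⟩

/-- An atlas of `𝒳 ×_𝒴 V` for an atlas `V` of `𝒴`. -/
theorem exists_gw (h𝒳 : FibCat.IsFibGrpd 𝒳.p) (h𝒴 : FibCat.IsFibGrpd 𝒴.p)
    (ha : AlgSt.HasAtlas (AlgSp.LocP @Smooth) 𝒳) (f : 𝒳 ⥤ᵇ 𝒴) {V : Over S}
    (y : FibCat.overCat V ⥤ᵇ 𝒴) (hy : AlgSt.RepByAlgSpWith (AlgSp.LocP @Smooth) y) :
    ∃ (U : Over S) (L : FibCat.overCat U ⥤ᵇ FibCat.fp f y) (a : U ⟶ V), Gw f y L a ∧
      Function.Surjective (AlgSt.Points.map L) := by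
  obtain ⟨U, w, hw, hws⟩ := K742.Chain.exists_atlas_fp h𝒳 h𝒴 ha f y (repByAlgSp1_of_with hy)
  obtain ⟨a, hi⟩ := K735.Top.exists_iso_overMap (BasedFunctor.comp w (FibCat.fpSnd f y))
  exact ⟨U, w, a, ⟨hw, hi⟩, hws⟩

local notation "Alg" => AlgSt.IsAlgStack Scheme.fppfPrecoverage

theorem range_subset_of_locQ (hP : NiceP P) (h𝒳 : FibCat.IsFibGrpd 𝒳.p)
    (f : 𝒳 ⥤ᵇ 𝒴) {Q' : 𝒳.obj → Prop} (hi : ObjectProperty.IsClosedUnderIsomorphisms Q')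
    (ho : AlgSt.IsOpenImm (AlgSt.subIncl 𝒳 Q'))
    (h : AlgSt.LocQ (AlgSp.LocP P) (BasedFunctor.comp (AlgSt.subIncl 𝒳 Q') f)) :
    Set.range (AlgSt.Points.map (AlgSt.subIncl 𝒳 Q')) ⊆ Loc P f := by
  have hloc' := (K737.Pts.hasLoci_iff (Q := Q') @IsOpenImmersion K737.Open.openImm_le_mono hi).1 ho
  have hfib' : FibCat.IsFibGrpd (AlgSt.fullSub 𝒳 Q').p :=
    K737.Pts.isFibGrpd_fullSub h𝒳 (fun x z φ h => K737.Pts.HasLoci.of_hom h𝒳 hi hloc' φ h)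
  obtain ⟨U', V', x', y', h', α', hx', hx's, hy', hh'⟩ := h
  have := hP.bc
  have := hP.comp
  rintro _ ⟨q, rfl⟩
  obtain ⟨q, rfl⟩ := K735.Top.surjective_of_repByAlgSpWith hfib' (isFibGrpd_overCat U') hx's q
  refine ⟨U', BasedFunctor.comp x' (AlgSt.subIncl 𝒳 Q'),
    K743.Locus.locP_comp_openImm K597.etLoc_smooth (fun _ _ f _ => inferInstance) x' _ hx' ho, ?_, ⟨q, ?_⟩⟩
  · exact repByAlgSpWith_of_iso _ α'.symm (K743.Comp.locP_overMap_comp hP.et h' ((hP.yon_iff h').1 hh') y' (hP.of_smooth hy'))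
  · rw [K735.Pts.map_comp]

theorem locQ_of_range_subset (hP : NiceP P) [IsZariskiLocalAtSource P] (h𝒳 : Alg 𝒳) (h𝒴 : Alg 𝒴)
    (f : 𝒳 ⥤ᵇ 𝒴) {Q' : 𝒳.obj → Prop} (hQ : AlgSt.IsOpenSubstack 𝒳 Q' Scheme.fppfPrecoverage)
    (h : Set.range (AlgSt.Points.map (AlgSt.subIncl 𝒳 Q')) ⊆ Loc P f) :
    AlgSt.LocQ (AlgSp.LocP P) (BasedFunctor.comp (AlgSt.subIncl 𝒳 Q') f) := by
  have hX := h𝒳.isStack.1
  have hY := h𝒴.isStack.1
  obtain ⟨V, v, hv, hvs⟩ := h𝒴.atlas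
  have hvs' := K735.Top.surjective_of_repByAlgSpWith hY (isFibGrpd_overCat V) hvs
  obtain ⟨U, L, a, hg, hLs⟩ := exists_gw hX hY h𝒳.atlas f v hv
  have hQg : FibCat.IsFibGrpd (FibCat.fp f v).p := isFibGrpd_fp hX (isFibGrpd_overCat V) hY f v
  let x := BasedFunctor.comp L (FibCat.fpFst f v)
  have hx : AlgSt.RepByAlgSpWith (AlgSp.LocP @Smooth) x :=
      K742.SmComp.smooth_comp (isFibGrpd_overCat U) hQg _ _ hg.sm (K742.RepComp.repByAlgSpWith_fpFst f v hv)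
  have hcc := K735.Top.chartCont_of_isAlgStack h𝒳
  let O : U.left.Opens := ⟨AlgSt.Points.ofChart x ⁻¹' Set.range (AlgSt.Points.map (AlgSt.subIncl 𝒳 Q')),
    (K737.OpenSt.isOpen_range_of_isOpenSubstack h𝒳 hQ).preimage (hcc U x)⟩
  let jO : K737.Open.opensOver U O ⟶ U := K737.Open.opensι U O
  let x₀ : FibCat.overCat (K737.Open.opensOver U O) ⥤ᵇ 𝒳 := BasedFunctor.comp (AlgSt.overMap jO) x
  have hx₀ : ∀ g, Q' (x₀.obj g) := by
    intro g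
    rw [K737.OpenSt.iff_predOf h𝒳 hQ, K737.Open.predOf_obj_iff hX]
    rintro _ ⟨t, rfl⟩
    change AlgSt.Points.ofChart x₀ _ ∈ Set.range (AlgSt.Points.map (AlgSt.subIncl 𝒳 Q'))
    rw [K735.PtsSp.ofChart_overMap]
    exact (g.hom.left t).2
  have hx₀' : AlgSt.RepByAlgSpWith (AlgSp.LocP @Smooth) x₀ :=
    K743.Comp.locP_overMap_comp K597.etLoc_smooth jO (inferInstanceAs (Smooth O.ι)) x hx
  let x₁ := K743.Locus.subLift x₀ hx₀
  have hx₁ : AlgSt.RepByAlgSpWith (AlgSp.LocP @Smooth) x₁ := K743.Locus.repByAlgSpWith_of_comp_incl _ x₁ hx₀'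
  obtain ⟨hi, hloc⟩ := (K737.OpenSt.isOpenSubstack_iff h𝒳 Q').1 hQ
  have hhom : ∀ ⦃x z : 𝒳.obj⦄, (z ⟶ x) → Q' x → Q' z := fun x z φ h => K737.Pts.HasLoci.of_hom hX hi hloc φ h
  have hfib' : FibCat.IsFibGrpd (AlgSt.fullSub 𝒳 Q').p := K737.Pts.isFibGrpd_fullSub hX hhom
  have hx₁s : AlgSt.RepByAlgSpWith AlgSp.IsSurjectiveMor x₁ := by
    rw [← K735.Top.repByAlgSpWith_surjective_iff hfib' (isFibGrpd_overCat _) (repByAlgSp1_of_with hx₁)]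
    intro q
    obtain ⟨p, hp⟩ := hvs' (AlgSt.Points.map f (AlgSt.Points.map (AlgSt.subIncl 𝒳 Q') q))
    obtain ⟨m, hm1, -⟩ := K735.Pts.exists_fp (isFibGrpd_overCat V) hX hY f v _ p hp.symm
    obtain ⟨t, rfl⟩ := hLs m
    obtain ⟨t, rfl⟩ : ∃ u', K743.Pt.pt u' = t := ⟨K743.Pt.toPt t, K743.Pt.pt_toPt t⟩
    have ht : AlgSt.Points.ofChart x t = AlgSt.Points.map (AlgSt.subIncl 𝒳 Q') q := by
      rw [← hm1, ← K735.Pts.map_comp]
      rfl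
    let t' : ↥(K737.Open.opensOver U O).left := ⟨t, by
      change AlgSt.Points.ofChart x t ∈ Set.range (AlgSt.Points.map (AlgSt.subIncl 𝒳 Q'))
      rw [ht]
      exact ⟨q, rfl⟩⟩
    refine ⟨K743.Pt.pt t', ?_⟩
    apply K743.Locus.injective_map_subIncl hX hhom
    rw [← K735.Pts.map_comp, ← ht]
    exact (K735.PtsSp.ofChart_overMap jO x t' : AlgSt.Points.ofChart x₀ t' = _)
  refine locQ_of_chart hP hfib' hY h𝒴.atlas _ x₁ hx₁ hx₁s ?_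
  have := hP.bc
  have := hP.comp
  obtain ⟨iL⟩ := hg.iso
  let κ : BasedFunctor.comp (BasedFunctor.comp (AlgSt.overMap jO) (BasedFunctor.comp L (FibCat.fpFst f v))) f ≅
      BasedFunctor.comp (AlgSt.overMap (jO ≫ a)) v :=
    K743.BC.whiskerLeftIso (AlgSt.overMap jO) (K743.BC.whiskerLeftIso L (FibCat.fpIso f v)) ≪≫
      K743.BC.whiskerLeftIso (AlgSt.overMap jO) (K743.BC.whiskerRightIso iL v) ≪≫
      K743.BC.whiskerRightIso (overMapComp jO a) v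
  refine repByAlgSpWith_of_iso (f := BasedFunctor.comp (AlgSt.overMap (jO ≫ a)) v) _ κ.symm ?_
  refine K743.Comp.locP_overMap_comp hP.et (jO ≫ a) ?_ v (hP.of_smooth hv)
  rw [Over.comp_left]
  have hO : O ≤ K743.Locus.locus P a.left := fun u hu =>
    (ofChart_mem_loc_iff hP hX hY h𝒳.atlas f v hv L a hg u).1 (h hu)
  change P (O.ι ≫ a.left)
  rw [← Scheme.homOfLE_ι _ hO, Category.assoc]
  exact P.comp_mem _ _ (hP.smooth _ (inferInstance : Smooth (U.left.homOfLE hO))) (K743.Locus.locus_prop P a.left)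

end K750.GoodLoc
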