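import Groth.Agent.AlgSt.K750.UnramPsh
import Groth.Agent.AlgSt.K734.Yon2

/-!
# Unramified diagonals and automorphisms of infinitesimal points (helper750)
-/

set_option autoImplicit false
set_option backward.isDefEq.respectTransparency false
set_option backward.isDefEq.respectTransparency.types false

universe w' v' w u

open CategoryTheory CategoryTheory.Limits AlgebraicGeometry AlgSp Opposite K739.Rep K739.Isom K739.Diag

namespace K750.InfAut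

variable {S : Scheme.{u}} {𝒳 : BasedCategory.{u, w} (Over S)} {𝒴 : BasedCategory.{v', w'} (Over S)} {f : 𝒳 ⥤ᵇ 𝒴}

theorem aut_trivial_of_dm (hX : FibCat.IsFibGrpd 𝒳.p) (hY : FibCat.IsFibGrpd 𝒴.p) (h : AlgSt.IsDMMor f)
    {T T₀ : Over S} (j : T₀ ⟶ T) (hj : Surjective j.left) (xt : FibCat.overCat T ⥤ᵇ 𝒳) (Θ : xt ≅ xt)
    (h1 : BasedCategory.whiskerLeft (AlgSt.overMap j) Θ.hom = 𝟙 (BasedFunctor.comp (AlgSt.overMap j) xt))
    (h2 : BasedCategory.whiskerRight Θ.hom f = 𝟙 (BasedFunctor.comp xt f)) : Θ.hom = 𝟙 xt := by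
  have hR := (repByAlgSpWith_diag_iff _ f hX hY).1 h T xt xt (Iso.refl _)
  have hf : ∀ a, f.map (Θ.hom.toNatTrans.app a) = 𝟙 _ := fun a =>
    congrArg (fun z : (BasedFunctor.comp xt f) ⟶ (BasedFunctor.comp xt f) => z.toNatTrans.app a) h2
  let s₁ : Sec f xt xt (Iso.refl _) T := ⟨𝟙 T, Θ.hom.toNatTrans.app (pt (𝟙 T)), Θ.hom.isHomLift' (pt (𝟙 T)), hf _⟩
  let s₂ : Sec f xt xt (Iso.refl _) T := ⟨𝟙 T, 𝟙 _, (𝟙 xt : xt ⟶ xt).isHomLift' (pt (𝟙 T)), f.map_id _⟩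
  let s₁' : Sec f xt xt (Iso.refl _) T₀ := ⟨𝟙 T₀ ≫ j, Θ.hom.toNatTrans.app (pt (𝟙 T₀ ≫ j)), Θ.hom.isHomLift' (pt (𝟙 T₀ ≫ j)), hf _⟩
  let s₂' : Sec f xt xt (Iso.refl _) T₀ := ⟨𝟙 T₀ ≫ j, 𝟙 _, (𝟙 xt : xt ⟶ xt).isHomLift' (pt (𝟙 T₀ ≫ j)), f.map_id _⟩
  have e12 : s₁' = s₂' := by
    have : Θ.hom.toNatTrans.app (pt (𝟙 T₀ ≫ j)) = 𝟙 _ :=
      congrArg (fun z : (BasedFunctor.comp (AlgSt.overMap j) xt) ⟶ (BasedFunctor.comp (AlgSt.overMap j) xt) =>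
        z.toNatTrans.app (Over.mk (𝟙 T₀))) h1
    exact sec_ext this
  have hs₁ : IsRes j s₁ s₁' :=
    ⟨by change j ≫ 𝟙 T = 𝟙 T₀ ≫ j; rw [Category.comp_id, Category.id_comp], Θ.hom.toNatTrans.naturality _⟩
  have hs₂ : IsRes j s₂ s₂' :=
    ⟨by change j ≫ 𝟙 T = 𝟙 T₀ ≫ j; rw [Category.comp_id, Category.id_comp],
      (Category.comp_id _).trans (Category.id_comp _).symm⟩
  have key : s₁ = s₂ := K750.Unram.repPsh_eq_of_unram hR j hj s₁ s₂ rfl (by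
    rw [(map_eq_iff hX hY j s₁ s₁').2 hs₁, (map_eq_iff hX hY j s₂ s₂').2 hs₂, e12])
  apply K734.Fib.hom_ext_one hX
  injection key

theorem dm_of_aut_trivial (hX : FibCat.IsFibGrpd 𝒳.p) (hY : FibCat.IsFibGrpd 𝒴.p)
    (hd : AlgSt.RepByAlgSpWith (LocP @LocallyOfFiniteType) (FibCat.diag f))
    (H : ∀ (κ : Type u) [Field κ] (s : Spec (.of (DualNumber κ)) ⟶ S)
        (xt : FibCat.overCat (Over.mk s) ⥤ᵇ 𝒳) (Θ : xt ≅ xt),
        BasedCategory.whiskerLeft (AlgSt.overMap (Over.homMk (K750.Unram.incl κ) rfl : Over.mk (K750.Unram.incl κ ≫ s) ⟶ Over.mk s)) Θ.hom =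
          𝟙 (BasedFunctor.comp (AlgSt.overMap (Over.homMk (K750.Unram.incl κ) rfl : Over.mk (K750.Unram.incl κ ≫ s) ⟶ Over.mk s)) xt) →
        BasedCategory.whiskerRight Θ.hom f = 𝟙 (BasedFunctor.comp xt f) → Θ.hom = 𝟙 xt) :
    AlgSt.IsDMMor f := by
  refine (repByAlgSpWith_diag_iff _ f hX hY).2 fun U x₁ x₂ φ => ?_
  refine K750.Unram.repPsh_unram_of_dual ((repByAlgSpWith_diag_iff _ f hX hY).1 hd U x₁ x₂ φ) ?_
  intro κ _ s a b hab hres
  let j : Over.mk (K750.Unram.incl κ ≫ s) ⟶ Over.mk s := Over.homMk (K750.Unram.incl κ) rfl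
  change Sec f x₁ x₂ φ (Over.mk s) at a b
  obtain ⟨u, ψ, hψ, cψ⟩ := a
  obtain ⟨u', ψ', hψ', cψ'⟩ := b
  obtain rfl : u = u' := congrArg ULift.down hab
  let a : Sec f x₁ x₂ φ (Over.mk s) := ⟨u, ψ, hψ, cψ⟩
  let b : Sec f x₁ x₂ φ (Over.mk s) := ⟨u, ψ', hψ', cψ'⟩
  obtain ⟨a₀, ha₀⟩ := exists_isRes hX hY j a
  have hb₀ : IsRes j b a₀ := by
    rw [← map_eq_iff hX hY]
    exact hres.symm.trans ((map_eq_iff hX hY j a a₀).2 ha₀)
  let i : x₁.obj (pt u) ≅ x₂.obj (pt u) := a.iso hX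
  let i' : x₁.obj (pt u) ≅ x₂.obj (pt u) := b.iso hX
  let k := K738.Lft.idIso u
  let E : x₁.obj ((AlgSt.overMap u).obj (Over.mk (𝟙 _))) ≅ x₁.obj ((AlgSt.overMap u).obj (Over.mk (𝟙 _))) :=
    x₁.mapIso k ≪≫ (i ≪≫ i'.symm) ≪≫ (x₁.mapIso k).symm
  have hk0 : (FibCat.overCat U).p.IsHomLift ((FibCat.overCat U).p.map k.hom) k.hom := inferInstance
  have hk : K734.Fib.IsVert (FibCat.overCat U) k.hom := K734.Fib.IsVert.of_lift (R := Over.mk s) hk0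
  have hi : K734.Fib.IsVert 𝒳 i.hom := K734.Fib.IsVert.of_lift (R := Over.mk s) hψ
  have hi' : K734.Fib.IsVert 𝒳 i'.hom := K734.Fib.IsVert.of_lift (R := Over.mk s) hψ'
  have hxk : K734.Fib.IsVert 𝒳 (x₁.mapIso k).hom := K734.Fib.IsVert.map x₁ hk
  have hE : K734.Fib.IsVert 𝒳 E.hom :=
    K734.Fib.IsVert.comp hxk (K734.Fib.IsVert.comp (K734.Fib.IsVert.comp hi hi'.inv) hxk.inv)
  let xt : FibCat.overCat (Over.mk s) ⥤ᵇ 𝒳 := BasedFunctor.comp (AlgSt.overMap u) x₁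
  let Θ : xt ≅ xt := K734.Fib.isoOfOne hX (G := xt) (H := xt) E hE
  have hΘ : Θ.hom.toNatTrans.app (Over.mk (𝟙 _)) = E.hom := K734.Fib.homOfOne_app hX (G := xt) (H := xt) E.hom hE
  have hΘ1 : Θ.hom = 𝟙 xt := by
    apply H κ s xt Θ
    · apply K734.Fib.hom_ext_one hX
      change Θ.hom.toNatTrans.app ((AlgSt.overMap j).obj (Over.mk (𝟙 _))) = 𝟙 _
      let m : (AlgSt.overMap j).obj (Over.mk (𝟙 _)) ⟶ K734.Fib.one (Over.mk s) := K734.Fib.toOne _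
      obtain ⟨hr1, hr2⟩ := ha₀
      obtain ⟨hr3, hr4⟩ := hb₀
      let n := (AlgSt.overMap u).map m ≫ k.hom
      let l : (AlgSt.overMap u).obj ((AlgSt.overMap j).obj (Over.mk (𝟙 _))) ⟶ pt a₀.u := Over.homMk (𝟙 _) (by
        change 𝟙 _ ≫ a₀.u = (𝟙 _ ≫ j) ≫ u
        rw [← hr1, Category.id_comp, Category.id_comp])
      have hl : l ≫ arr j hr1 = n := by
        apply Over.OverMorphism.ext
        change 𝟙 _ ≫ j = (𝟙 _ ≫ j) ≫ 𝟙 _
        rw [Category.comp_id]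
      have hn : x₁.map n ≫ ψ = x₁.map n ≫ i'.hom := by
        rw [← hl, x₁.map_comp, Category.assoc, Category.assoc]
        congr 1
        exact hr2.trans hr4.symm
      have hmE : xt.map m ≫ E.hom = xt.map m := by
        change x₁.map ((AlgSt.overMap u).map m) ≫ x₁.map k.hom ≫ (ψ ≫ i'.inv) ≫ (x₁.mapIso k).inv = _
        rw [← Category.assoc, ← x₁.map_comp]
        change x₁.map n ≫ _ = _
        rw [← Category.assoc, ← Category.assoc, hn, Category.assoc (x₁.map n), i'.hom_inv_id, Category.comp_id,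
          x₁.map_comp, Category.assoc]
        change _ ≫ (x₁.mapIso k).hom ≫ (x₁.mapIso k).inv = _
        rw [Iso.hom_inv_id, Category.comp_id]
        rfl
      have hv : K734.Fib.IsVert 𝒳 (Θ.hom.toNatTrans.app ((AlgSt.overMap j).obj (Over.mk (𝟙 _)))) :=
        K734.Fib.hom_vert Θ.hom _
      apply K734.Fib.fac_unique hX (xt.map m)
      · rw [hv.map_eq, (K734.Fib.IsVert.id _).map_eq]
      · rw [Category.id_comp]
        have hnat := Θ.hom.toNatTrans.naturality m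
        rw [← hnat]
        exact (congrArg (fun z => xt.map m ≫ z) hΘ).trans hmE
    · apply K734.Fib.hom_ext_one hY
      change f.map (Θ.hom.toNatTrans.app (Over.mk (𝟙 _))) = 𝟙 _
      rw [hΘ]
      change f.map (x₁.map k.hom ≫ (ψ ≫ i'.inv) ≫ (x₁.mapIso k).inv) = 𝟙 _
      have h3 : f.map ψ = f.map i'.hom := cψ.trans cψ'.symm
      rw [f.map_comp, f.map_comp, f.map_comp, h3, ← f.map_comp i'.hom, i'.hom_inv_id, f.map_id, Category.id_comp,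
        ← f.map_comp]
      change f.map ((x₁.mapIso k).hom ≫ (x₁.mapIso k).inv) = _
      rw [Iso.hom_inv_id, f.map_id]
  have hE1 : E.hom = 𝟙 _ := by
    rw [← hΘ, hΘ1]
    rfl
  have h4 : i.hom ≫ i'.inv = 𝟙 _ := by
    have h5 : (x₁.mapIso k).hom ≫ (i.hom ≫ i'.inv) ≫ (x₁.mapIso k).inv = 𝟙 _ := hE1
    rw [← Iso.eq_inv_comp, Category.comp_id] at h5
    have h6 := (Iso.comp_inv_eq _).1 h5
    rw [h6, Iso.inv_hom_id]
  have h7 : ψ = ψ' := by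
    have := (Iso.comp_inv_eq _).1 h4
    rw [Category.id_comp] at this
    exact this
  exact sec_ext h7

end K750.InfAut
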