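import Groth.Agent.LieWt.K929.Act
import Mathlib.RingTheory.Flat.Basic
import Mathlib.LinearAlgebra.TensorProduct.RightExactness

/-!
# Invariants: algebra
-/

set_option autoImplicit false
universe u
open TensorProduct

namespace K750.InvAlg

open Groth.Agent.Sga3B.Cell K929.Act

/-- Invariants in an ideal after a flat base change come from invariants in the ideal. -/
theorem exists_inv {R R' A B : Type u} [CommRing R] [CommRing R'] [Algebra R R'] [Module.Flat R R'] [CommRing A]
    [Algebra R A] [CommRing B] [Algebra R B] (ρ τ : A →ₐ[R] B) (I : Ideal A) (b : R' ⊗[R] A)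
    (hb : b ∈ I.map (Algebra.TensorProduct.includeRight : A →ₐ[R] R' ⊗[R] A))
    (he : Algebra.TensorProduct.map (AlgHom.id R R') ρ b = Algebra.TensorProduct.map (AlgHom.id R R') τ b)
    {C : Type u} [CommRing C] (w : R' ⊗[R] A →+* C) (hw : w b ≠ 0) :
    ∃ a ∈ I, ρ a = τ a ∧ w (1 ⊗ₜ a) ≠ 0 := by
  let L : Submodule R A := I.restrictScalars R
  let θ : L →ₗ[R] B := (ρ.toLinearMap - τ.toLinearMap) ∘ₗ L.subtype
  have h1 : b ∈ (I.map (Algebra.TensorProduct.includeRight : A →ₐ[R] R' ⊗[R] A)).restrictScalars R := hb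
  rw [Ideal.map_includeRight_eq] at h1
  obtain ⟨b', hb'⟩ := h1
  have h2 : LinearMap.lTensor R' θ b' = 0 := by
    have h3 : LinearMap.lTensor R' θ b' = LinearMap.lTensor R' (ρ.toLinearMap - τ.toLinearMap) b := by
      rw [← hb', ← LinearMap.comp_apply, ← LinearMap.lTensor_comp]
    rw [h3, LinearMap.lTensor_sub, LinearMap.sub_apply, sub_eq_zero]
    exact he
  have hex : Function.Exact (LinearMap.ker θ).subtype θ := LinearMap.exact_subtype_ker_map θ
  have h4 := (Module.Flat.lTensor_exact (N := LinearMap.ker θ) (N' := L) (N'' := B) R'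
    (f := (LinearMap.ker θ).subtype) (g := θ) hex b').1 h2
  obtain ⟨b'', hb''⟩ := h4
  by_contra hc
  push Not at hc
  apply hw
  rw [← hb', ← hb'', ← LinearMap.comp_apply, ← LinearMap.lTensor_comp]
  clear hb''
  induction b'' using TensorProduct.induction_on with
  | zero => rw [map_zero, map_zero]
  | add x y hx hy => rw [map_add, map_add, hx, hy, add_zero]
  | tmul r a =>
    have h5 : (r ⊗ₜ[R] ((a : L) : A) : R' ⊗[R] A) = (r ⊗ₜ 1) * (1 ⊗ₜ ((a : L) : A)) := by
      rw [Algebra.TensorProduct.tmul_mul_tmul, mul_one, one_mul]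
    have h6 : ρ ((a : L) : A) = τ ((a : L) : A) := by
      have h7 : θ (a : L) = 0 := a.2
      exact sub_eq_zero.1 h7
    change w (r ⊗ₜ[R] ((a : L) : A)) = 0
    rw [h5, map_mul, hc _ (a : L).2 h6, mul_zero]

section act

variable {R A : Type u} [CommRing R] [CommRing A] [Algebra R A] {M : Type} [AddCommGroup M] (E : TAct R A M)
  {B : Type u} [CommRing B] [Algebra R B]

/-- the invariant part -/
noncomputable def inv₀ (f : A) : A := (E.rho f).coeff 1

lemma act_inv₀ (t : TPt M B) (g : Pt R A B) (f : A) : (E.act t g).hom (inv₀ E f) = g.hom (inv₀ E f) := by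
  have h : inv₀ E f ∈ Groth.Agent.Sga3B.RootCoact.gr E.coact 0 := E.rho_coeff f 1
  rw [E.act_of_mem t g h, TPt.ch_zero, mul_one]

lemma hom_inv₀ (g : Pt R A B) (hg : E.orb g = Pt.map (cM R M B) g) (f : A) : g.hom (inv₀ E f) = g.hom f := by
  rw [inv₀, ← E.coeff_orb, hg, Pt.map_hom_apply, cM_apply, MonoidAlgebra.coeff_single, Finsupp.single_eq_same]

lemma inv₀_mem (I : Ideal A) (f : A) (h : E.rho f ∈ I.map (algebraMap A (MA M A))) : inv₀ E f ∈ I := by
  let q : MA M A →+* MA M (A ⧸ I) := MonoidAlgebra.mapRingHom _ (Ideal.Quotient.mk I)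
  have h1 : I.map (algebraMap A (MA M A)) ≤ RingHom.ker q := by
    rw [Ideal.map_le_iff_le_comap]
    intro a ha
    rw [Ideal.mem_comap, RingHom.mem_ker]
    rw [MonoidAlgebra.coe_algebraMap]
    change q (MonoidAlgebra.single 1 a) = 0
    rw [MonoidAlgebra.mapRingHom_single, Ideal.Quotient.eq_zero_iff_mem.2 ha]
    exact MonoidAlgebra.single_zero _
  have h2 := h1 h
  rw [RingHom.mem_ker] at h2
  have h3 := congrArg (fun z => MonoidAlgebra.coeff z 1) h2
  simp only [q, MonoidAlgebra.coeff_mapRingHom] at h3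
  exact Ideal.Quotient.eq_zero_iff_mem.1 h3

end act

end K750.InvAlg
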