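import Groth.Agent.AlgSt.K750.InvAlg
import Groth.Agent.AlgSt.K750.AffPts
import Groth.Agent.Sga3.H828.DiagChart
import Groth.Agent.Books.BorelOrb

/-!
# Invariant functions for a group of multiplicative type acting on an affine scheme
-/

set_option autoImplicit false
set_option backward.isDefEq.respectTransparency false
set_option backward.isDefEq.respectTransparency.types false
universe u
open CategoryTheory CategoryTheory.Limits AlgebraicGeometry TensorProduct
open MonoidalCategory CartesianMonoidalCategory MonObj GrpObj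

namespace K750.InvGeo

open Groth.Agent Groth.Agent.Sga3B.InfConj Groth.Agent.Sga3B.Cell K929.Act AffPts InvAlg
  Groth.Agent.Sga3.H828.DiagChart Groth.Agent.Books.BorelOrb

variable {S : Scheme.{u}} {H W : Over S} [GrpObj H] (aW : AlgGrp.Action H W)
variable {R : Type u} [CommRing R] {q : Spec (CommRingCat.of R) ⟶ S}
variable {M : Type} [AddCommGroup M] (c : Chart H (Over.mk q) M)
variable {C D : Type u} [CommRing C] [CommRing D] [Algebra R C] [Algebra R D]

/-- the point of `H` attached to a point of `D(M)` -/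
noncomputable def hp (t : TPt M C) : sp q C ⟶ H :=
  (c.chr (Chart.taut q (pt R C))).symm ((gPt R C).toMonoidHom.comp ((Units.coeHom C).comp t))

theorem hp_mul (s t : TPt M C) : hp c (s * t) = hp c s * hp c t := by
  rw [hp, hp, hp, ← map_mul]
  congr 1
  ext m
  simp

theorem hp_one : hp c (1 : TPt M C) = 1 := by
  rw [hp, ← map_one (c.chr (Chart.taut q (pt R C))).symm]
  congr 1
  ext m
  simp
  rfl

theorem spm_hp (φ : C →ₐ[R] D) (t : TPt M C) : spm q φ ≫ hp c t = hp c (TPt.map φ t) := by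
  rw [hp, Chart.chr_symm_comp, hp]
  have h1 : spm q φ ≫ Chart.taut q (pt R C) = Chart.taut q (pt R D) := by
    ext1
    exact Over.w (ptMap φ)
  rw [h1]
  congr 1
  ext m
  exact gPt_naturality φ _

theorem hp_surjective (h : sp q C ⟶ H) : ∃ t : TPt M C, hp c t = h := by
  let χ := c.chr (Chart.taut q (pt R C)) h
  let e : Γ(Spec (CommRingCat.of C), ⊤) →+* C := (Scheme.ΓSpecIso (CommRingCat.of C)).hom.hom
  refine ⟨MonoidHom.toHomUnits (e.toMonoidHom.comp χ), ?_⟩
  rw [hp, MulEquiv.symm_apply_eq]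
  ext m
  change (Scheme.ΓSpecIso (CommRingCat.of C)).inv.hom ((Scheme.ΓSpecIso (CommRingCat.of C)).hom.hom (χ m)) = χ m
  exact congr($(congrArg CommRingCat.Hom.hom (Scheme.ΓSpecIso (CommRingCat.of C)).hom_inv_id) (χ m))

variable {A : Type u} [CommRing A] [Algebra R A] (r : Rp q W A)

/-- the action on points with values in algebras -/
noncomputable def tact : TAct R A M where
  act t g := Pt.mk (r.pt (sm aW (hp c t) (spm q g.hom ≫ r.u)))
  nat φ t g := by
    change φ.comp (r.pt _) = r.pt _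
    rw [← r.pt_comp, comp_sm, spm_hp, ← Category.assoc, spm_comp]
    rfl
  one g := by
    change r.pt _ = g.hom
    rw [hp_one, one_sm]
    exact (r.eq_pt rfl).symm
  mulP s t g := by
    change r.pt _ = r.pt _
    congr 1
    change sm aW (hp c (s * t)) _ = sm aW _ (spm q (r.pt _) ≫ r.u)
    rw [hp_mul, mul_sm, r.spm_pt]

theorem tact_act {B : Type u} [CommRing B] [Algebra R B] (t : TPt M B) (g : Pt R A B) :
    spm q ((tact aW c r).act t g).hom ≫ r.u = sm aW (hp c t) (spm q g.hom ≫ r.u) := r.spm_pt _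

section desc

variable {R' : Type u} [CommRing R'] [Algebra R R']

/-- `Spec C` over `S` through `R` and through `R'` -/
noncomputable def tr (C : Type u) [CommRing C] [Algebra R C] [Algebra R' C] [IsScalarTower R R' C] :
    sp q C ⟶ sp (Spec.map (CommRingCat.ofHom (algebraMap R R')) ≫ q) C :=
  Over.homMk (𝟙 _) (by
    change 𝟙 _ ≫ Spec.map (CommRingCat.ofHom (algebraMap R' C)) ≫ Spec.map (CommRingCat.ofHom (algebraMap R R')) ≫ q =
      Spec.map (CommRingCat.ofHom (algebraMap R C)) ≫ q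
    rw [Category.id_comp, ← Spec.map_comp_assoc, ← CommRingCat.ofHom_comp, ← IsScalarTower.algebraMap_eq])

theorem bc_u_left {X : Over S} {A : Type u} [CommRing A] [Algebra R A] (r : Rp q X A) :
    (r.bc R').u.left =
      Spec.map (CommRingCat.ofHom (Algebra.TensorProduct.includeRight : A →ₐ[R] R' ⊗[R] A).toRingHom) ≫ r.u.left := rfl

theorem tr_bc_u {X : Over S} {A : Type u} [CommRing A] [Algebra R A] (r : Rp q X A) (C : Type u) [CommRing C]
    [Algebra R C] [Algebra R' C] [IsScalarTower R R' C] (φ : R' ⊗[R] A →ₐ[R'] C) :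
    tr C ≫ spm _ φ ≫ (r.bc R').u =
      spm q ((φ.restrictScalars R).comp (Algebra.TensorProduct.includeRight : A →ₐ[R] R' ⊗[R] A)) ≫ r.u := by
  ext1
  change 𝟙 _ ≫ Spec.map (CommRingCat.ofHom φ.toRingHom) ≫ (r.bc R').u.left = Spec.map _ ≫ r.u.left
  rw [bc_u_left, Category.id_comp, ← Spec.map_comp_assoc, ← CommRingCat.ofHom_comp]
  rfl

variable {A B : Type u} [CommRing A] [Algebra R A] [CommRing B] [Algebra R B]

/-- `Spec (R' ⊗ C)` to `Spec C` -/
noncomputable def ir (C : Type u) [CommRing C] [Algebra R C] :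
    sp (Spec.map (CommRingCat.ofHom (algebraMap R R')) ≫ q) (R' ⊗[R] C) ⟶ sp q C :=
  Over.homMk (Spec.map (CommRingCat.ofHom (Algebra.TensorProduct.includeRight : C →ₐ[R] R' ⊗[R] C).toRingHom)) (by
    change Spec.map _ ≫ Spec.map (CommRingCat.ofHom (algebraMap R C)) ≫ q = Spec.map _ ≫ Spec.map _ ≫ q
    rw [← Spec.map_comp_assoc, ← Spec.map_comp_assoc, ← CommRingCat.ofHom_comp, ← CommRingCat.ofHom_comp]
    congr 3
    ext r
    change (Algebra.TensorProduct.includeRight : C →ₐ[R] R' ⊗[R] C) (algebraMap R C r) =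
      algebraMap R' (R' ⊗[R] C) (algebraMap R R' r)
    rw [AlgHom.commutes, ← IsScalarTower.algebraMap_apply])

theorem bc_pt {X : Over S} (rX : Rp q X A) {C : Type u} [CommRing C] [Algebra R C] (x : sp q C ⟶ X) :
    spm (Spec.map (CommRingCat.ofHom (algebraMap R R')) ≫ q)
      (Algebra.TensorProduct.map (AlgHom.id R' R') (rX.pt x)) ≫ (rX.bc R').u = ir C ≫ x := by
  ext1
  change Spec.map _ ≫ (rX.bc R').u.left = Spec.map _ ≫ x.left
  rw [bc_u_left, ← Spec.map_comp_assoc, ← CommRingCat.ofHom_comp]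
  have h1 : (Algebra.TensorProduct.map (AlgHom.id R' R') (rX.pt x)).toRingHom.comp
      (Algebra.TensorProduct.includeRight : A →ₐ[R] R' ⊗[R] A).toRingHom =
    (Algebra.TensorProduct.includeRight : C →ₐ[R] R' ⊗[R] C).toRingHom.comp (rX.pt x).toRingHom := by
    ext a
    change Algebra.TensorProduct.map (AlgHom.id R' R') (rX.pt x) (1 ⊗ₜ a) = 1 ⊗ₜ (rX.pt x a)
    rw [Algebra.TensorProduct.map_tmul]
    rfl
  rw [h1, CommRingCat.ofHom_comp, Spec.map_comp, Category.assoc]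
  have h2 : Spec.map (CommRingCat.ofHom (rX.pt x).toRingHom) ≫ rX.u.left = x.left :=
    congrArg CommaMorphism.left (rX.spm_pt x)
  rw [h2]

theorem bc_u {X : Over S} (rX : Rp q X A) : (rX.bc R').u = ir A ≫ rX.u := rfl

theorem bc_map {X Y : Over S} (rX : Rp q X A) (rY : Rp q Y B) (f : Y ⟶ X) :
    spm (Spec.map (CommRingCat.ofHom (algebraMap R R')) ≫ q)
      (Algebra.TensorProduct.map (AlgHom.id R' R') (rX.pt (rY.u ≫ f))) ≫ (rX.bc R').u = (rY.bc R').u ≫ f := by
  rw [bc_pt, bc_u, Category.assoc]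

section lem

variable (rA : Rp q W A) (rB : Rp q (H ⊗ W) B)
    (c : Chart H (Over.mk (Spec.map (CommRingCat.ofHom (algebraMap R R')) ≫ q)) M)

/-- the universal orbit -/
noncomputable def uo : sp (Spec.map (CommRingCat.ofHom (algebraMap R R')) ≫ q) (MA M (R' ⊗[R] A)) ⟶ H ⊗ W :=
  lift (hp c (uT M (R' ⊗[R] A))) (spm _ (cM R' M (R' ⊗[R] A)) ≫ (rA.bc R').u)

theorem uo_act : uo rA c ≫ aW.act = spm _ (tact aW c (rA.bc R')).rho ≫ (rA.bc R').u :=
  (tact_act aW c (rA.bc R') (uT M _) (Pt.map (cM R' M _) (Pt.mk (AlgHom.id R' (R' ⊗[R] A))))).symm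

theorem uo_snd : uo rA c ≫ snd H W = spm _ (cM R' M (R' ⊗[R] A)) ≫ (rA.bc R').u := lift_snd _ _

/-- the algebra map of the universal orbit -/
noncomputable def uβ : B →ₐ[R] MA M (R' ⊗[R] A) := rB.pt (tr (R' := R') (MA M (R' ⊗[R] A)) ≫ uo rA c)

theorem uβ_rho : (uβ rA rB c).comp (rA.pt (rB.u ≫ aW.act)) = ((tact aW c (rA.bc R')).rho.restrictScalars R).comp
    (Algebra.TensorProduct.includeRight : A →ₐ[R] R' ⊗[R] A) := by
  apply rA.hom_ext
  rw [← tr_bc_u, ← spm_comp, Category.assoc, rA.spm_pt, ← uo_act, uβ, ← Category.assoc, rB.spm_pt, Category.assoc]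

theorem uβ_tau : (uβ rA rB c).comp (rA.pt (rB.u ≫ snd H W)) = ((cM R' M (R' ⊗[R] A)).restrictScalars R).comp
    (Algebra.TensorProduct.includeRight : A →ₐ[R] R' ⊗[R] A) := by
  apply rA.hom_ext
  rw [← tr_bc_u, ← spm_comp, Category.assoc, rA.spm_pt, ← uo_snd rA c, uβ, ← Category.assoc, rB.spm_pt,
    Category.assoc]

theorem inv_mem (I : Ideal A) (f : A)
    (hf : rA.pt (rB.u ≫ aW.act) f ∈ I.map (rA.pt (rB.u ≫ snd H W))) :
    inv₀ (tact aW c (rA.bc R')) (1 ⊗ₜ f) ∈ I.map (Algebra.TensorProduct.includeRight : A →ₐ[R] R' ⊗[R] A) := by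
  apply inv₀_mem
  have h5 : (tact aW c (rA.bc R')).rho (1 ⊗ₜ f) = uβ rA rB c (rA.pt (rB.u ≫ aW.act) f) :=
    (DFunLike.congr_fun (uβ_rho aW rA rB c) f).symm
  rw [h5]
  have h6 : I.map (rA.pt (rB.u ≫ snd H W)) ≤ ((I.map (Algebra.TensorProduct.includeRight : A →ₐ[R] R' ⊗[R] A)).map
      (algebraMap (R' ⊗[R] A) (MA M (R' ⊗[R] A)))).comap (uβ rA rB c) := by
    rw [Ideal.map_le_iff_le_comap]
    intro a ha
    have h7 : uβ rA rB c (rA.pt (rB.u ≫ snd H W) a) = algebraMap (R' ⊗[R] A) (MA M (R' ⊗[R] A)) (1 ⊗ₜ a) :=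
      DFunLike.congr_fun (uβ_tau rA rB c) a
    rw [Ideal.mem_comap, Ideal.mem_comap, h7]
    exact Ideal.mem_map_of_mem _ (Ideal.mem_map_of_mem _ ha)
  exact h6 hf

theorem inv_eq (f : R' ⊗[R] A) :
    Algebra.TensorProduct.map (AlgHom.id R R') (rA.pt (rB.u ≫ aW.act)) (inv₀ (tact aW c (rA.bc R')) f) =
      Algebra.TensorProduct.map (AlgHom.id R R') (rA.pt (rB.u ≫ snd H W)) (inv₀ (tact aW c (rA.bc R')) f) := by
  obtain ⟨t, ht⟩ := hp_surjective c ((rB.bc R').u ≫ fst H W)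
  have h3 := act_inv₀ (tact aW c (rA.bc R')) t
    (Pt.mk (Algebra.TensorProduct.map (AlgHom.id R' R') (rA.pt (rB.u ≫ snd H W)))) f
  have h4 : ((tact aW c (rA.bc R')).act t
      (Pt.mk (Algebra.TensorProduct.map (AlgHom.id R' R') (rA.pt (rB.u ≫ snd H W))))).hom =
      Algebra.TensorProduct.map (AlgHom.id R' R') (rA.pt (rB.u ≫ aW.act)) := by
    apply (rA.bc R').hom_ext
    rw [tact_act, ht]
    change sm aW ((rB.bc R').u ≫ fst H W)
      (spm _ (Algebra.TensorProduct.map (AlgHom.id R' R') (rA.pt (rB.u ≫ snd H W))) ≫ _) = _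
    rw [bc_map, bc_map, ← comp_sm]
    congr 1
    rw [sm, lift_fst_snd, Category.id_comp]
  rw [h4] at h3
  exact h3

theorem inv_val {K : Type u} [CommRing K] [Algebra R K] (x : sp q K ⟶ W)
    (hfix : ∀ (T : Over S) (h : T ⟶ H) (z : T ⟶ sp q K), sm aW h (z ≫ x) = z ≫ x) (f : R' ⊗[R] A) :
    Algebra.TensorProduct.map (AlgHom.id R' R') (rA.pt x) (inv₀ (tact aW c (rA.bc R')) f) =
      Algebra.TensorProduct.map (AlgHom.id R' R') (rA.pt x) f := by
  let g : Pt R' (R' ⊗[R] A) (R' ⊗[R] K) := Pt.mk (Algebra.TensorProduct.map (AlgHom.id R' R') (rA.pt x))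
  have hg : (tact aW c (rA.bc R')).orb g = Pt.map (cM R' M (R' ⊗[R] K)) g := by
    change ((tact aW c (rA.bc R')).orb g).hom = (Pt.map (cM R' M (R' ⊗[R] K)) g).hom
    apply (rA.bc R').hom_ext
    refine (tact_act aW c (rA.bc R') (uT M _) (Pt.map (cM R' M _) g)).trans ?_
    have h3 : spm (Spec.map (CommRingCat.ofHom (algebraMap R R')) ≫ q) (Pt.map (cM R' M (R' ⊗[R] K)) g).hom ≫
        (rA.bc R').u = (spm (Spec.map (CommRingCat.ofHom (algebraMap R R')) ≫ q) (cM R' M (R' ⊗[R] K)) ≫ ir K) ≫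
          x := by
      rw [Category.assoc, ← bc_pt rA x, ← Category.assoc, spm_comp]
      rfl
    rw [h3]
    exact hfix _ _ _
  exact hom_inv₀ (tact aW c (rA.bc R')) g hg f

end lem

/-- **Invariant functions.** -/
theorem exists_invariant [Module.Flat R R'] (rA : Rp q W A) (rB : Rp q (H ⊗ W) B)
    (c : Chart H (Over.mk (Spec.map (CommRingCat.ofHom (algebraMap R R')) ≫ q)) M) (I : Ideal A) (f : A)
    (hf : rA.pt (rB.u ≫ aW.act) f ∈ I.map (rA.pt (rB.u ≫ snd H W)))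
    {K : Type u} [CommRing K] [Algebra R K] [Nontrivial (R' ⊗[R] K)] (x : sp q K ⟶ W)
    (hfix : ∀ (T : Over S) (h : T ⟶ H) (z : T ⟶ sp q K), sm aW h (z ≫ x) = z ≫ x) (hx : IsUnit (rA.pt x f)) :
    ∃ a ∈ I, rA.pt (rB.u ≫ aW.act) a = rA.pt (rB.u ≫ snd H W) a ∧ rA.pt x a ≠ 0 := by
  have hw : (Algebra.TensorProduct.map (AlgHom.id R' R') (rA.pt x) : R' ⊗[R] A →ₐ[R'] R' ⊗[R] K).toRingHom
      (inv₀ (tact aW c (rA.bc R')) (1 ⊗ₜ f)) ≠ 0 := by
    change Algebra.TensorProduct.map (AlgHom.id R' R') (rA.pt x) (inv₀ (tact aW c (rA.bc R')) (1 ⊗ₜ f)) ≠ 0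
    rw [inv_val aW rA c x hfix, Algebra.TensorProduct.map_tmul, map_one]
    exact (hx.map (Algebra.TensorProduct.includeRight : K →ₐ[R] R' ⊗[R] K)).ne_zero
  obtain ⟨a, ha, ha', hw⟩ := exists_inv _ _ I _ (inv_mem aW rA rB c I f hf) (inv_eq aW rA rB c _) _ hw
  refine ⟨a, ha, ha', fun h0 => hw ?_⟩
  change Algebra.TensorProduct.map (AlgHom.id R' R') (rA.pt x) (1 ⊗ₜ a) = 0
  rw [Algebra.TensorProduct.map_tmul, h0, TensorProduct.tmul_zero]

end desc

end K750.InvGeo
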