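import Groth.Agent.AlgSt.K750.InvGeo
import Groth.Agent.RedSub.H633.AffChart
import Groth.Agent.SGA3x.K10.MTLoc

/-!
# Stable affine neighbourhoods of fixed points for a group of multiplicative type
-/

set_option autoImplicit false
set_option backward.isDefEq.respectTransparency false
set_option backward.isDefEq.respectTransparency.types false
universe u
open CategoryTheory CategoryTheory.Limits AlgebraicGeometry TensorProduct
open MonoidalCategory CartesianMonoidalCategory MonObj GrpObj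

namespace K750.InvOpen

open Groth.Agent Groth.Agent.Sga3B.InfConj Groth.Agent.Sga3B.Cell K929.Act AffPts InvAlg InvGeo
  Groth.Agent.Sga3.H828.DiagChart Groth.Agent.Books.BorelOrb

variable {S : Scheme.{u}}

section rp

variable {R : Type u} [CommRing R] {q : Spec (CommRingCat.of R) ⟶ S} {X : Over S} {A : Type u} [CommRing A]
  [Algebra R A] (r : Rp q X A)

include r in
theorem isOpenImmersion_u [IsOpenImmersion q] : IsOpenImmersion r.u.left :=
  MorphismProperty.of_isPullback r.cart.flip ‹IsOpenImmersion q›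

include r in
theorem mem_range_iff (z : X.left) : z ∈ Set.range r.u.left ↔ X.hom z ∈ Set.range q := by
  constructor
  · rintro ⟨y, rfl⟩
    refine ⟨Spec.map (CommRingCat.ofHom (algebraMap R A)) y, ?_⟩
    rw [← Scheme.Hom.comp_apply, ← Scheme.Hom.comp_apply, r.cart.w]
    rfl
  · rintro ⟨y, hy⟩
    obtain ⟨a, ha, -⟩ := Scheme.exists_preimage_of_isPullback r.cart z y hy.symm
    exact ⟨a, ha⟩

theorem u_apply_pt {C : Type u} [CommRing C] [Algebra R C] (x : sp q C ⟶ X) (P : Spec (CommRingCat.of C)) :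
    r.u.left (Spec.map (CommRingCat.ofHom (r.pt x).toRingHom) P) = x.left P := by
  have h2 : Spec.map (CommRingCat.ofHom (r.pt x).toRingHom) ≫ r.u.left = x.left :=
    congrArg CommaMorphism.left (r.spm_pt x)
  exact (Scheme.Hom.comp_apply _ _ _).symm.trans (congrArg (fun f : Spec (CommRingCat.of C) ⟶ X.left => f P) h2)

end rp

section main

variable {H W : Over S} [GrpObj H] (aW : AlgGrp.Action H W) {R : Type u} [CommRing R]
  {j : Spec (CommRingCat.of R) ⟶ S} {A B : Type u} [CommRing A] [Algebra R A] [CommRing B] [Algebra R B]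
  (rA : Rp j W A) (rB : Rp j (H ⊗ W) B) (T₁ : W.left.Opens)

/-- the functions vanishing outside `T₁` -/
noncomputable def vI : Ideal A :=
  PrimeSpectrum.vanishingIdeal {P : PrimeSpectrum A | rA.u.left (show Spec (CommRingCat.of A) from P) ∉ T₁}

theorem vI_le_iff (P : PrimeSpectrum A) :
    vI rA T₁ ≤ P.asIdeal ↔ rA.u.left (show Spec (CommRingCat.of A) from P) ∉ T₁ := by
  have hc : IsClosed {P : PrimeSpectrum A | rA.u.left (show Spec (CommRingCat.of A) from P) ∉ T₁} := by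
    have h1 : IsOpen (SetLike.coe (rA.u.left ⁻¹ᵁ T₁)) := (rA.u.left ⁻¹ᵁ T₁).2
    exact h1.isClosed_compl
  have h2 := (PrimeSpectrum.zeroLocus_vanishingIdeal_eq_closure
    {P : PrimeSpectrum A | rA.u.left (show Spec (CommRingCat.of A) from P) ∉ T₁}).trans hc.closure_eq
  constructor
  · intro h
    have h3 : P ∈ PrimeSpectrum.zeroLocus (vI rA T₁ : Set A) := h
    rw [vI, h2] at h3
    exact h3
  · intro h
    have h3 : P ∈ PrimeSpectrum.zeroLocus (vI rA T₁ : Set A) := by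
      rw [vI, h2]
      exact h
    exact h3

theorem mem_radical (hT : aW.act.left ⁻¹ᵁ T₁ = (snd H W).left ⁻¹ᵁ T₁) (f : A) (hf : f ∈ vI rA T₁) :
    rA.pt (rB.u ≫ aW.act) f ∈ ((vI rA T₁).map (rA.pt (rB.u ≫ snd H W))).radical := by
  rw [Ideal.radical_eq_sInf, Ideal.mem_sInf]
  rintro Q ⟨hQ, hQp⟩
  let Q' : PrimeSpectrum B := ⟨Q, hQp⟩
  have h1 : vI rA T₁ ≤ (PrimeSpectrum.comap (rA.pt (rB.u ≫ snd H W)).toRingHom Q').asIdeal :=
    Ideal.map_le_iff_le_comap.1 hQ
  rw [vI_le_iff] at h1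
  have h2 := u_apply_pt rA (rB.u ≫ snd H W) Q'
  have h3 := u_apply_pt rA (rB.u ≫ aW.act) Q'
  have h4 : (snd H W).left (rB.u.left Q') ∉ T₁ := fun h => h1 (by
    have h5 : rA.u.left (Spec.map (CommRingCat.ofHom (rA.pt (rB.u ≫ snd H W)).toRingHom) Q') ∈ T₁ := by
      rw [h2]
      exact h
    exact h5)
  have h5 : aW.act.left (rB.u.left Q') ∉ T₁ := fun h => h4 (by
    have h6 : rB.u.left Q' ∈ aW.act.left ⁻¹ᵁ T₁ := h
    rw [hT] at h6
    exact h6)
  have h6 : vI rA T₁ ≤ (PrimeSpectrum.comap (rA.pt (rB.u ≫ aW.act)).toRingHom Q').asIdeal := by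
    rw [vI_le_iff]
    intro h
    apply h5
    have h7 : rA.u.left (Spec.map (CommRingCat.ofHom (rA.pt (rB.u ≫ aW.act)).toRingHom) Q') ∈ T₁ := h
    rw [h3] at h7
    exact h7
  exact h6 hf

/-- the stable open attached to an invariant function -/
theorem stable_of_invariant [IsOpenImmersion j] [IsOpenImmersion rA.u.left] (a : A)
    (ha : rA.pt (rB.u ≫ aW.act) a = rA.pt (rB.u ≫ snd H W) a) :
    aW.act.left ⁻¹ᵁ (rA.u.left ''ᵁ PrimeSpectrum.basicOpen a) =
      (snd H W).left ⁻¹ᵁ (rA.u.left ''ᵁ PrimeSpectrum.basicOpen a) := by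
  have hinj : Function.Injective rA.u.left := (Scheme.Hom.isOpenEmbedding rA.u.left).injective
  have key : ∀ (P : PrimeSpectrum A) (z : W.left), rA.u.left (show Spec (CommRingCat.of A) from P) = z →
      (z ∈ rA.u.left ''ᵁ PrimeSpectrum.basicOpen a ↔ a ∉ P.asIdeal) := by
    rintro P _ rfl
    constructor
    · rintro ⟨P', hP', h⟩
      obtain rfl := hinj h
      exact hP'
    · intro h
      exact ⟨P, h, rfl⟩
  have hr : ∀ z : W.left, z ∈ rA.u.left ''ᵁ PrimeSpectrum.basicOpen a → W.hom z ∈ Set.range j := by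
    rintro _ ⟨P, -, rfl⟩
    exact (mem_range_iff rA _).1 ⟨P, rfl⟩
  have key2 : ∀ Q : Spec (CommRingCat.of B), (aW.act.left (rB.u.left Q) ∈ rA.u.left ''ᵁ PrimeSpectrum.basicOpen a ↔
      (snd H W).left (rB.u.left Q) ∈ rA.u.left ''ᵁ PrimeSpectrum.basicOpen a) := by
    intro Q
    have h1 := key (PrimeSpectrum.comap (rA.pt (rB.u ≫ aW.act)).toRingHom Q) _ (u_apply_pt rA (rB.u ≫ aW.act) Q)
    have h2 := key (PrimeSpectrum.comap (rA.pt (rB.u ≫ snd H W)).toRingHom Q) _ (u_apply_pt rA (rB.u ≫ snd H W) Q)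
    refine h1.trans (Iff.trans ?_ h2.symm)
    change (rA.pt (rB.u ≫ aW.act) a ∉ (show PrimeSpectrum B from Q).asIdeal ↔
      rA.pt (rB.u ≫ snd H W) a ∉ (show PrimeSpectrum B from Q).asIdeal)
    rw [ha]
  have hact : ∀ z : (H ⊗ W).left, W.hom (aW.act.left z) = (H ⊗ W).hom z := by
    intro z
    rw [← Scheme.Hom.comp_apply, Over.w]
  have hsnd : ∀ z : (H ⊗ W).left, W.hom ((snd H W).left z) = (H ⊗ W).hom z := by
    intro z
    rw [← Scheme.Hom.comp_apply, Over.w]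
  ext z
  constructor
  · intro h
    have h1 := hr _ h
    rw [hact, ← mem_range_iff rB] at h1
    obtain ⟨Q, rfl⟩ := h1
    exact (key2 Q).1 h
  · intro h
    have h1 := hr _ h
    rw [hsnd, ← mem_range_iff rB] at h1
    obtain ⟨Q, rfl⟩ := h1
    exact (key2 Q).2 h

end main

/-- **Stable affine neighbourhoods of fixed points.** -/
theorem exists_affine_stable {H W : Over S} [GrpObj H] [IsAffineHom H.hom] (hH : SGA3x.IsMultTypeFT H)
    [IsAffineHom W.hom] (aW : AlgGrp.Action H W) (T₁ : W.left.Opens)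
    (hT : aW.act.left ⁻¹ᵁ T₁ = (snd H W).left ⁻¹ᵁ T₁)
    (K : Type u) [Field K] (p : Spec (CommRingCat.of K) ⟶ S) (w : Over.mk p ⟶ W)
    (hfix : (H ◁ w) ≫ aW.act = CartesianMonoidalCategory.snd H (Over.mk p) ≫ w) (hw : w.left ⁻¹ᵁ T₁ = ⊤) :
    ∃ U : W.left.Opens, IsAffineOpen U ∧ U ≤ T₁ ∧ w.left ⁻¹ᵁ U = ⊤ ∧
      aW.act.left ⁻¹ᵁ U = (snd H W).left ⁻¹ᵁ U := by
  let k₀ : Spec (CommRingCat.of K) := IsLocalRing.closedPoint K
  have hk₀ : ∀ k : Spec (CommRingCat.of K), k = k₀ := fun k => Subsingleton.elim (α := PrimeSpectrum K) _ _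
  obtain ⟨R, _, j, hj, -, ⟨s₀, hs₀⟩⟩ := Sga3B.NearRed.exists_affine S ⊤ (p k₀) trivial
  have hHW : IsAffineHom (H ⊗ W).hom := RedSub.H633.AffChart.isAffineHom_tensor H W
  obtain ⟨A, _, _, ⟨rA⟩⟩ := exists_rp j W
  obtain ⟨B, _, _, ⟨rB⟩⟩ := exists_rp j (H ⊗ W)
  have hu : IsOpenImmersion rA.u.left := isOpenImmersion_u rA
  -- the étale chart
  have hH₁ : SGA3x.IsMultTypeFT (Red.bc j H) := K10.MTLoc.bc j hH
  obtain ⟨R', _, v, M, _, hv, ⟨y, hy⟩, hM, ⟨e⟩⟩ := K10.MTLoc.exists_etale_split hH₁ s₀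
  obtain ⟨φ, rfl⟩ := Spec.map_surjective v
  let _ : Algebra R R' := φ.hom.toAlgebra
  have hflat : Module.Flat R R' := by
    have h1 : Flat (Spec.map φ) := inferInstance
    rw [Flat.SpecMap_iff] at h1
    exact h1
  let c : Chart H (Over.mk (Spec.map (CommRingCat.ofHom (algebraMap R R')) ≫ j)) M :=
    Chart.ofIso (Spec.map φ ≫ j) (Sga3B.BcIso.bcCompIso (Spec.map φ) j H ≪≫ e)
  -- the point
  have hp : Set.range p ⊆ Set.range j := by
    rintro _ ⟨k, rfl⟩
    rw [hk₀ k]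
    exact ⟨s₀, hs₀⟩
  obtain ⟨ψ, hψ⟩ := Spec.map_surjective (IsOpenImmersion.lift j p hp)
  have hψ' : Spec.map ψ ≫ j = p := by rw [hψ, IsOpenImmersion.lift_fac]
  let _ : Algebra R K := ψ.hom.toAlgebra
  let z₀ : sp j K ⟶ Over.mk p := Over.homMk (𝟙 _) (by
    change 𝟙 _ ≫ p = Spec.map ψ ≫ j
    rw [Category.id_comp, hψ'])
  let x : sp j K ⟶ W := z₀ ≫ w
  have hx : ∀ k, x.left k = w.left k := fun k => by
    change (𝟙 _ ≫ w.left) k = _
    rw [Category.id_comp]
  have hfix' : ∀ (T : Over S) (h : T ⟶ H) (z : T ⟶ sp j K), sm aW h (z ≫ x) = z ≫ x := by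
    intro T h z
    have h1 : lift h (z ≫ x) = lift h (z ≫ z₀) ≫ (H ◁ w) := by
      rw [lift_whiskerLeft, Category.assoc]
    rw [sm, h1, Category.assoc, hfix, lift_snd_assoc, Category.assoc]
  have hnt : Nontrivial (R' ⊗[R] K) := by
    have h1 : Spec.map φ y = Spec.map ψ k₀ := by
      have h2 : j (Spec.map φ y) = j (Spec.map ψ k₀) := by
        rw [hy, ← Scheme.Hom.comp_apply, hψ', hs₀]
      exact (Scheme.Hom.isOpenEmbedding j).injective h2
    obtain ⟨z, -⟩ := Scheme.exists_preimage_of_isPullback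
      (isPullback_SpecMap_of_isPushout _ _ _ _ (CommRingCat.isPushout_tensorProduct R R' K)) y k₀ h1
    have h2 : Nonempty (PrimeSpectrum (R' ⊗[R] K)) := ⟨z⟩
    exact PrimeSpectrum.nonempty_iff_nontrivial.1 h2
  -- a function
  have h1 : ¬ vI rA T₁ ≤ (PrimeSpectrum.comap (rA.pt x).toRingHom k₀).asIdeal := by
    rw [vI_le_iff]
    intro h
    apply h
    have h2 : rA.u.left (Spec.map (CommRingCat.ofHom (rA.pt x).toRingHom) k₀) ∈ T₁ := by
      rw [u_apply_pt, hx]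
      have h3 : k₀ ∈ w.left ⁻¹ᵁ T₁ := by rw [hw]; trivial
      exact h3
    exact h2
  obtain ⟨f₀, hf₀, hf₀'⟩ := SetLike.not_le_iff_exists.1 h1
  have hbot : ∀ k : PrimeSpectrum K, k.asIdeal = ⊥ := fun k => (Ideal.eq_bot_or_top _).resolve_right k.2.ne_top
  have hf₁ : rA.pt x f₀ ≠ 0 := by
    intro h
    apply hf₀'
    have h2 : rA.pt x f₀ ∈ (show PrimeSpectrum K from k₀).asIdeal := by
      rw [h]
      exact Ideal.zero_mem _
    exact h2
  obtain ⟨n, hn⟩ := mem_radical aW rA rB T₁ hT f₀ hf₀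
  obtain ⟨a, haI, hinv, hval⟩ := exists_invariant (R' := R') aW rA rB c (vI rA T₁) (f₀ ^ n) (by rw [map_pow]; exact hn)
    x hfix' (by rw [map_pow]; exact (IsUnit.mk0 _ hf₁).pow n)
  refine ⟨rA.u.left ''ᵁ PrimeSpectrum.basicOpen a, (IsAffineOpen.Spec_basicOpen (R := CommRingCat.of A) a).image_of_isOpenImmersion rA.u.left, ?_, ?_,
    stable_of_invariant aW rA rB a hinv⟩
  · rintro _ ⟨P, hP, rfl⟩
    by_contra hc
    exact hP ((vI_le_iff rA T₁ P).2 hc haI)
  · ext k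
    refine ⟨fun _ => trivial, fun _ => ?_⟩
    refine ⟨PrimeSpectrum.comap (rA.pt x).toRingHom k, ?_, ?_⟩
    · change rA.pt x a ∉ k.asIdeal
      rw [hbot k]
      exact hval
    · exact (u_apply_pt rA x k).trans (hx k)

end K750.InvOpen
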