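import Groth.Agent.Agf.H617.LangDom
import Groth.Prelude.Def_AlgGrp

/-!
# Lang's theorem: a pseudo-torsor under a smooth connected affine group over a finite field which is nonempty has a
rational point (the proof of S3935; no finiteness condition on the torsor is needed)
-/

set_option autoImplicit false
universe u
open CategoryTheory MonoidalCategory CartesianMonoidalCategory MonObj GrpObj AlgebraicGeometry

namespace K750.LangPt

open Groth.Agent.Books.AffBridge Groth.Agent.Books.AffBridge2 Groth.Agent.Agf.H617.LangDom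

/-- A point of an `S`-scheme with values in `Spec L`, fixed by the Frobenius, comes from a rational point. -/
lemma nonempty_of_frob_fixed {k : Type u} [Field k] [Fintype k] (X : Over (Spec (CommRingCat.of k)))
    (L : Type u) [Field L] [Algebra k L] (x : SpecOver k L ⟶ X) (hx : frob k L ≫ x = x) :
    Nonempty (𝟙_ (Over (Spec (CommRingCat.of k))) ⟶ X) := by
  let x' : Spec (CommRingCat.of L) ⟶ X.left := x.left
  obtain ⟨⟨y, f⟩, hy⟩ : ∃ yf, (Scheme.SpecToEquivOfField L X.left).symm yf = x' :=
    ⟨_, (Scheme.SpecToEquivOfField L X.left).symm_apply_apply x'⟩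
  have hy' : Spec.map f ≫ X.left.fromSpecResidueField y = x' := hy
  have hfr : Spec.map (CommRingCat.ofHom (FiniteField.frobeniusAlgHom k L).toRingHom) ≫ x' = x' :=
    congrArg (fun z : SpecOver k L ⟶ X => z.left) hx
  rw [← hy', ← Category.assoc, cancel_mono, ← Spec.map_comp] at hfr
  have hf : f ≫ CommRingCat.ofHom (FiniteField.frobeniusAlgHom k L).toRingHom = f := Spec.map_injective hfr
  have hmem : ∀ t : X.left.residueField y, f.hom t ∈ Set.range (algebraMap k L) := by
    intro t
    apply mem_range_of_frobenius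
    exact congrArg (fun g : X.left.residueField y ⟶ CommRingCat.of L => g.hom t) hf
  choose s hs using hmem
  have hinj : Function.Injective (algebraMap k L) := (algebraMap k L).injective
  let σ : X.left.residueField y →+* k :=
    { toFun := s
      map_one' := hinj (by rw [hs, map_one, map_one])
      map_mul' := fun a b => hinj (by rw [hs, map_mul, map_mul, hs, hs])
      map_zero' := hinj (by rw [hs, map_zero, map_zero])
      map_add' := fun a b => hinj (by rw [hs, map_add, map_add, hs, hs]) }
  have hσ : CommRingCat.ofHom σ ≫ CommRingCat.ofHom (algebraMap k L) = f := by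
    ext t
    exact hs t
  let p : Spec (CommRingCat.of k) ⟶ X.left := Spec.map (CommRingCat.ofHom σ) ≫ X.left.fromSpecResidueField y
  have hp : Spec.map (CommRingCat.ofHom (algebraMap k L)) ≫ p = x' := by
    rw [← hy', ← hσ, Spec.map_comp, Category.assoc]
  have hp2 : p ≫ X.hom = 𝟙 _ := by
    have h1 : Spec.map (CommRingCat.ofHom (algebraMap k L)) ≫ p ≫ X.hom =
        Spec.map (CommRingCat.ofHom (algebraMap k L)) := by
      rw [← Category.assoc, hp]
      exact Over.w x
    obtain ⟨τ, hτ⟩ : ∃ τ, Spec.map τ = p ≫ X.hom := ⟨_, Spec.map_preimage _⟩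
    rw [← hτ, ← Spec.map_comp] at h1
    have h2 : τ ≫ CommRingCat.ofHom (algebraMap k L) = CommRingCat.ofHom (algebraMap k L) :=
      Spec.map_injective h1
    have h3 : τ = 𝟙 _ := by
      ext c
      exact hinj (congrArg (fun g : CommRingCat.of k ⟶ CommRingCat.of L => g.hom c) h2)
    rw [← hτ, h3, Spec.map_id]
  exact ⟨Over.homMk p hp2⟩

/-- Let k be a finite field, G an affine, smooth, connected group scheme over k, and X a nonempty k-scheme with an
action of G such that (g, x) ↦ (g · x, x) is an isomorphism. Then X has a k-point. -/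
theorem torsor_trivial (k : Type u) [Field k] [Finite k]
    (G : Over (Spec (CommRingCat.of k))) [GrpObj G] [IsAffine G.left] [Smooth G.hom] [ConnectedSpace G.left]
    (X : Over (Spec (CommRingCat.of k))) [Nonempty ↥X.left] (a : AlgGrp.Action G X)
    (hX : IsIso (CartesianMonoidalCategory.lift a.act (CartesianMonoidalCategory.snd G X))) :
    Nonempty (𝟙_ (Over (Spec (CommRingCat.of k))) ⟶ X) := by
  have := Fintype.ofFinite k
  obtain ⟨x0⟩ := ‹Nonempty ↥X.left›
  let L := AlgebraicClosure (X.left.residueField x0)
  let p : Spec (CommRingCat.of L) ⟶ X.left :=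
    Spec.map (CommRingCat.ofHom (algebraMap (X.left.residueField x0) L)) ≫ X.left.fromSpecResidueField x0
  let _ : Algebra k L := (Spec.preimage (p ≫ X.hom)).hom.toAlgebra
  have hpw : p ≫ X.hom = Spec.map (CommRingCat.ofHom (algebraMap k L)) := (Spec.map_preimage _).symm
  let x : SpecOver k L ⟶ X := Over.homMk p hpw
  let φ : SpecOver k L ⟶ SpecOver k L := frob k L
  -- the element `g0` with `g0 · x = F(x)`
  obtain ⟨g0, hg0⟩ : ∃ g0 : SpecOver k L ⟶ G, lift g0 x ≫ a.act = φ ≫ x := by
    let w : SpecOver k L ⟶ G ⊗ X := lift (φ ≫ x) x ≫ inv (lift a.act (snd G X))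
    have hw : w ≫ lift a.act (snd G X) = lift (φ ≫ x) x := by
      simp only [w, Category.assoc, IsIso.inv_hom_id, Category.comp_id]
    have h1 : w ≫ a.act = φ ≫ x := by
      have := congrArg (fun z => z ≫ fst X X) hw
      simpa using this
    have h2 : w ≫ snd G X = x := by
      have := congrArg (fun z => z ≫ snd X X) hw
      simpa using this
    refine ⟨w ≫ fst G X, ?_⟩
    have h3 : lift (w ≫ fst G X) x = w := by
      apply CartesianMonoidalCategory.hom_ext <;> simp [h2]
    rw [h3, h1]
  obtain ⟨g, hg⟩ := exists_lang G L g0⁻¹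
  -- the translate `g · x` is fixed by the Frobenius
  have hg' : (φ ≫ g) * g0 = g := by
    have h1 : g0⁻¹ = g⁻¹ * (φ ≫ g) := hg
    have h2 : φ ≫ g = g * g0⁻¹ := by rw [h1, mul_inv_cancel_left]
    rw [h2, inv_mul_cancel_right]
  refine nonempty_of_frob_fixed X L (lift g x ≫ a.act) ?_
  have hmul : ∀ u v : SpecOver k L ⟶ G, lift (u * v) x ≫ a.act = lift u (lift v x ≫ a.act) ≫ a.act := by
    intro u v
    have h1 : lift (u * v) x = lift (lift u v) x ≫ (μ[G] ▷ X) := by
      rw [lift_whiskerRight]; rfl
    rw [h1, Category.assoc, a.mul_act]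
    simp only [lift_lift_associator_hom_assoc, lift_whiskerLeft_assoc]
  change φ ≫ lift g x ≫ a.act = lift g x ≫ a.act
  rw [← Category.assoc, comp_lift, ← hg0, ← hmul, hg']

end K750.LangPt
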