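import Groth.Agent.AlgSt.K750.GoodLoc

/-!
# The largest open substack on which a morphism has a nice property: compatibilities (helper750)
-/

set_option autoImplicit false
set_option backward.isDefEq.respectTransparency false
set_option backward.isDefEq.respectTransparency.types false

universe v₄ u₄ v u

open CategoryTheory CategoryTheory.Limits AlgebraicGeometry Opposite
open K735.Fib K735.Fp K735.Rep K742.Sq K742 K742.EvQ K737.Open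

namespace K750.Largest

open K750.GoodLoc

variable {S : Scheme.{u}} {𝒳 𝒴 𝒵 𝒳' 𝒴' : AlgSt.Cat S} {P Q R : MorphismProperty Scheme.{u}}

local notation "Alg" => AlgSt.IsAlgStack Scheme.fppfPrecoverage

theorem predOf_preimage (h𝒳 : FibCat.IsFibGrpd 𝒳.p) (h𝒳' : FibCat.IsFibGrpd 𝒳'.p) (g : 𝒳' ⥤ᵇ 𝒳)
    (T : Set (AlgSt.Points 𝒳)) (a : 𝒳'.obj) : predOf (AlgSt.Points.map g ⁻¹' T) a ↔ predOf T (g.obj a) := by
  obtain ⟨y, e, he⟩ := K737.Core.exists_yo h𝒳' a rfl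
  have h1 : predOf (AlgSt.Points.map g ⁻¹' T) a ↔ predOf (AlgSt.Points.map g ⁻¹' T) (y.obj (Over.mk (𝟙 _))) :=
    ⟨fun h => predOf_of_hom e.hom h, fun h => predOf_of_hom e.inv h⟩
  have h2 : predOf T (g.obj a) ↔ predOf T ((BasedFunctor.comp y g).obj (Over.mk (𝟙 _))) :=
    ⟨fun h => predOf_of_hom (g.map e.hom) h, fun h => predOf_of_hom (g.map e.inv) h⟩
  rw [h1, h2, predOf_obj_iff h𝒳', predOf_obj_iff h𝒳]
  have h3 : AlgSt.Points.ofChart (BasedFunctor.comp y g) ⁻¹' T = AlgSt.Points.ofChart y ⁻¹' (AlgSt.Points.map g ⁻¹' T) := by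
    ext t
    rfl
  rw [h3]

/-- The points of the largest open substack. -/
theorem range_eq_loc (hP : NiceP P) [IsZariskiLocalAtSource P] (h𝒳 : Alg 𝒳) (h𝒴 : Alg 𝒴) (f : 𝒳 ⥤ᵇ 𝒴)
    {Q : 𝒳.obj → Prop} (hQ₁ : AlgSt.IsOpenSubstack 𝒳 Q Scheme.fppfPrecoverage)
    (hQ₂ : AlgSt.LocQ (AlgSp.LocP P) (BasedFunctor.comp (AlgSt.subIncl 𝒳 Q) f))
    (hQ₃ : ∀ Q' : 𝒳.obj → Prop, AlgSt.IsOpenSubstack 𝒳 Q' Scheme.fppfPrecoverage →
      AlgSt.LocQ (AlgSp.LocP P) (BasedFunctor.comp (AlgSt.subIncl 𝒳 Q') f) → ∀ a, Q' a → Q a) :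
    Set.range (AlgSt.Points.map (AlgSt.subIncl 𝒳 Q)) = Loc P f := by
  have hX := h𝒳.isStack.1
  refine subset_antisymm (range_subset_of_locQ hP hX f hQ₁.1 hQ₁.2.2 hQ₂) ?_
  obtain ⟨h1, h2⟩ := K737.OpenSt.isOpenSubstack_predOf h𝒳 (isOpen_loc (P := P) h𝒳 f)
  have h3 := hQ₃ _ h1 (locQ_of_range_subset hP h𝒳 h𝒴 f h1 h2.subset)
  intro ξ hξ
  obtain ⟨p, rfl⟩ := AlgSt.Points.mk_surjective ξ
  have h4 : predOf (Loc P f) p.obj := (predOf_fpt _ p).2 hξ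
  have h5 := (K737.OpenSt.iff_predOf h𝒳 hQ₁ p.obj).1 (h3 _ h4)
  exact (predOf_fpt _ p).1 h5

/-- **Compatibility of the largest open substack with a morphism `g` for which the loci correspond.** -/
theorem largest_pullback (hP : NiceP P) [IsZariskiLocalAtSource P] (h𝒳 : Alg 𝒳) (h𝒴 : Alg 𝒴) (h𝒳' : Alg 𝒳')
    (h𝒴' : Alg 𝒴') (f : 𝒳 ⥤ᵇ 𝒴) (f' : 𝒳' ⥤ᵇ 𝒴') (g : 𝒳' ⥤ᵇ 𝒳)
    (hL : Loc P f' = AlgSt.Points.map g ⁻¹' Loc P f)
    (Q : 𝒳.obj → Prop) (hQ₁ : AlgSt.IsOpenSubstack 𝒳 Q Scheme.fppfPrecoverage)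
    (hQ₂ : AlgSt.LocQ (AlgSp.LocP P) (BasedFunctor.comp (AlgSt.subIncl 𝒳 Q) f))
    (hQ₃ : ∀ Q' : 𝒳.obj → Prop, AlgSt.IsOpenSubstack 𝒳 Q' Scheme.fppfPrecoverage →
      AlgSt.LocQ (AlgSp.LocP P) (BasedFunctor.comp (AlgSt.subIncl 𝒳 Q') f) → ∀ a, Q' a → Q a) :
    AlgSt.IsOpenSubstack 𝒳' (fun a ↦ Q (g.obj a)) Scheme.fppfPrecoverage ∧
      AlgSt.LocQ (AlgSp.LocP P)
        (BasedFunctor.comp (AlgSt.subIncl 𝒳' (fun a ↦ Q (g.obj a))) f') ∧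
      ∀ Q' : 𝒳'.obj → Prop, AlgSt.IsOpenSubstack 𝒳' Q' Scheme.fppfPrecoverage →
        AlgSt.LocQ (AlgSp.LocP P) (BasedFunctor.comp (AlgSt.subIncl 𝒳' Q') f') →
        ∀ a, Q' a → Q (g.obj a) := by
  have hr := range_eq_loc hP h𝒳 h𝒴 f hQ₁ hQ₂ hQ₃
  have key : ∀ a, Q (g.obj a) ↔ predOf (Loc P f') a := by
    intro a
    rw [hL, predOf_preimage h𝒳.isStack.1 h𝒳'.isStack.1, K737.OpenSt.iff_predOf h𝒳 hQ₁, hr]
  have key' : (fun a ↦ Q (g.obj a)) = predOf (Loc P f') := funext fun a => propext (key a)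
  obtain ⟨h1, h2⟩ := K737.OpenSt.isOpenSubstack_predOf h𝒳' (isOpen_loc (P := P) h𝒳' f')
  rw [key']
  refine ⟨h1, locQ_of_range_subset hP h𝒳' h𝒴' f' h1 h2.subset, ?_⟩
  intro Q' hQ' hQ'' a ha
  rw [key]
  exact predOf_mono (range_subset_of_locQ hP h𝒳'.isStack.1 f' hQ'.1 hQ'.2.2 hQ'')
    ((K737.OpenSt.iff_predOf h𝒳' hQ' a).1 ha)

theorem ofChart_mem_loc_iff' (hP : NiceP P) [IsZariskiLocalAtSource P] (h𝒳 : FibCat.IsFibGrpd 𝒳.p)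
    (h𝒴 : FibCat.IsFibGrpd 𝒴.p)
    (ha : AlgSt.HasAtlas (AlgSp.LocP @Smooth) 𝒳) (f : 𝒳 ⥤ᵇ 𝒴) {U V : Over S} (x : FibCat.overCat U ⥤ᵇ 𝒳)
    (y : FibCat.overCat V ⥤ᵇ 𝒴) (hy : AlgSt.RepByAlgSpWith (AlgSp.LocP @Smooth) y) (h : U ⟶ V)
    (hg : GoodSq f x y h) (u : U.left) :
    AlgSt.Points.ofChart x u ∈ Loc P f ↔ u ∈ K743.Locus.locus P h.left := by
  obtain ⟨α, hα⟩ := hg
  exact ofChart_mem_loc_iff hP h𝒳 h𝒴 ha f y hy (FibCat.fpLift x (AlgSt.overMap h) α) h ⟨hα, ⟨Iso.refl _⟩⟩ u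

theorem mem_locus_comp_iff (hP : NiceP P) [IsZariskiLocalAtSource P] {A B C : Scheme.{u}} (a : A ⟶ B) (b : B ⟶ C)
    (ha : Smooth a) (w : A) : w ∈ K743.Locus.locus P (a ≫ b) ↔ a w ∈ K743.Locus.locus P b := by
  have := hP.comp
  constructor
  · intro hw
    let O := K743.Locus.locus P (a ≫ b)
    have h1 : P ((O.ι ≫ a) ≫ b) := by
      rw [Category.assoc]
      exact K743.Locus.locus_prop P (a ≫ b)
    have h2 := K743.Locus.range_subset_locus P (O.ι ≫ a) b hP.desc h1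
    exact h2 ⟨⟨w, hw⟩, rfl⟩
  · intro hw
    let O := K743.Locus.locus P b
    have h1 : P ((a ⁻¹ᵁ O).ι ≫ a ≫ b) := by
      rw [← Category.assoc, ← morphismRestrict_ι, Category.assoc]
      exact P.comp_mem _ _ (hP.smooth _ inferInstance) (K743.Locus.locus_prop P b)
    exact K743.Locus.le_locus P (a ≫ b) h1 hw

/-- The locus commutes with smooth precomposition. -/
theorem loc_comp (hP : NiceP P) [IsZariskiLocalAtSource P] (h𝒳' : Alg 𝒳') (h𝒳 : Alg 𝒳) (h𝒴 : Alg 𝒴)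
    (g : 𝒳' ⥤ᵇ 𝒳) (hg : AlgSt.LocQ (AlgSp.LocP @Smooth) g) (f : 𝒳 ⥤ᵇ 𝒴) :
    Loc P (BasedFunctor.comp g f) = AlgSt.Points.map g ⁻¹' Loc P f := by
  have hX := h𝒳.isStack.1
  have hY := h𝒴.isStack.1
  have hX' := h𝒳'.isStack.1
  obtain ⟨W, U, V, x, y, z, a, b, hx, hy, hz, hxs, -, hga, hgb, hgc, -⟩ :=
    exists_chain hX' hX hY h𝒳'.atlas h𝒳.atlas h𝒴.atlas g f
  have ha : Smooth a.left := goodSq_of_locQ nice_smooth hX' hX g hg x y (repByAlgSp1_of_with hy) a hga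
  ext ξ
  obtain ⟨w, rfl⟩ := hxs ξ
  rw [ofChart_mem_loc_iff' hP hX' hY h𝒳'.atlas _ x z hz (a ≫ b) hgc, Over.comp_left, mem_locus_comp_iff hP _ _ ha,
    ← ofChart_mem_loc_iff' hP hX hY h𝒳.atlas f y z hz b hgb, Set.mem_preimage]
  obtain ⟨α, -⟩ := hga
  have h1 : AlgSt.Points.map g (AlgSt.Points.ofChart x w) = AlgSt.Points.ofChart (BasedFunctor.comp x g) w := rfl
  rw [h1, K735.PtsSp.ofChart_congr α, K735.PtsSp.ofChart_overMap]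

end K750.Largest

namespace K750.Largest

instance isZariskiLocalAtSource_smooth : IsZariskiLocalAtSource (@Smooth : MorphismProperty Scheme.{u}) := inferInstance

end K750.Largest
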