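import Groth.Agent.AlgSt.K750.SqCmp
import Groth.Agent.AlgSp.K637.EtLocLci
import Groth.Agent.FlatA.EtaleSections

/-!
# Local complete intersection morphisms of algebraic stacks: comparison of charts (helper750)

* `LM_desc_smooth` : if `t` is smooth and surjective and `t ≫ h` is a local complete intersection morphism then so is `h`;
* `sqP_lci : SqP AlgSp.lci`; `lci_yon_iff`.
-/

set_option autoImplicit false
set_option backward.isDefEq.respectTransparency false
set_option backward.isDefEq.respectTransparency.types false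

universe v₃ u₃ v₂ u₂ v u

open CategoryTheory CategoryTheory.Limits AlgebraicGeometry Opposite

namespace K750.LciSq

open K561.LciDict K637.EtLocLci K750.SqCmp

theorem LM_desc_smooth {A B C : Scheme.{u}} (t : A ⟶ B) (h : B ⟶ C) (ht : Smooth t) (hs : Surjective t)
    (H : Groth.Agent.Dual.H375.LciLocus.LM (t ≫ h)) : Groth.Agent.Dual.H375.LciLocus.LM h := by
  refine LM_descend' h fun b => ?_
  obtain ⟨B', g, b', hg, hb, k, hk⟩ := Groth.Agent.FlatA.EtaleSections.exists_section t b (hs.surj b)
  refine ⟨B', g, hg, ⟨b', hb⟩, ?_⟩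
  have h1 : Groth.Agent.Dual.H375.LciLocus.LM k := LM_of_comp_smooth k t (by rw [hk]; exact LM_smooth g)
  rw [← hk, Category.assoc]
  exact LM_comp h1 H

theorem sqP_lci : SqP AlgSp.lci.{u} where
  smooth X Y f hf := (lci_iff f).2 (LM_smooth f)
  comp A B C a b ha hb := by
    rw [lci_iff] at ha hb ⊢
    exact LM_comp ha hb
  cancel A B C a b hb h := by
    rw [lci_iff] at h ⊢
    exact LM_of_comp_smooth a b h
  desc A B C t h ht hs H := by
    rw [lci_iff] at H ⊢
    exact LM_desc_smooth t h ht hs H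

theorem lci_yon_iff {S : Scheme.{u}} {U V : Over S} (h : U ⟶ V) :
    AlgSp.IsLCIMor ((AlgSp.yon S).map h) ↔ AlgSp.lci h.left :=
  ⟨fun hq => hq (𝟙 _) (𝟙 _) h (AlgSp.repWith_id _ U) (AlgSp.repWith_id _ V) (by simp),
    fun hq => K597.locP_of_chart etLoc_lci _ (𝟙 _) (𝟙 _) h (AlgSp.repWith_id _ U) (AlgSp.repWith_id _ U)
      (AlgSp.repWith_id _ V) (by simp) hq⟩

end K750.LciSq
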