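import Groth.Agent.S2155
import Groth.Agent.AlgSp.K629.SchDesc
import Groth.Agent.AlgSt.K743.Locus

/-!
# The smooth locus of a morphism of schemes and flat base change (helper750)
-/

set_option autoImplicit false
set_option backward.isDefEq.respectTransparency false
set_option backward.isDefEq.respectTransparency.types false

universe u

open CategoryTheory CategoryTheory.Limits AlgebraicGeometry K743.Locus

namespace K750.SmLocBC

theorem le_smoothLocus {X Y : Scheme.{u}} (f : X ⟶ Y) [LocallyOfFinitePresentation f] (O : X.Opens) (h : Smooth (O.ι ≫ f)) :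
    O ≤ f.smoothLocus := by
  intro x hx
  have h1 : (O.ι ≫ f).smoothLocus = ⊤ := (O.ι ≫ f).smoothLocus_eq_top
  have h2 := Scheme.Hom.preimage_smoothLocus_eq O.ι f
  have h3 : (⟨x, hx⟩ : O) ∈ O.ι ⁻¹ᵁ f.smoothLocus := by
    rw [h2, h1]
    trivial
  exact h3

theorem smooth_smoothLocus {X Y : Scheme.{u}} (f : X ⟶ Y) [LocallyOfFinitePresentation f] :
    Smooth (f.smoothLocus.ι ≫ f) := by
  rw [← Scheme.Hom.smoothLocus_eq_top_iff, ← Scheme.Hom.preimage_smoothLocus_eq]
  ext x
  exact ⟨fun _ => trivial, fun _ => x.2⟩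

theorem locus_smooth_eq {X Y : Scheme.{u}} (f : X ⟶ Y) [LocallyOfFinitePresentation f] :
    locus @Smooth f = f.smoothLocus :=
  le_antisymm (le_smoothLocus f _ (locus_prop @Smooth f)) (le_locus @Smooth f (smooth_smoothLocus f))

variable {X Y X' Y' : Scheme.{u}} {f : X ⟶ Y} {g : Y' ⟶ Y} {f' : X' ⟶ Y'} {g' : X' ⟶ X}

theorem preimage_le (h : IsPullback g' f' f g) : g' ⁻¹ᵁ (locus @Smooth f) ≤ locus @Smooth f' := by
  apply le_locus
  let O := locus @Smooth f
  have h1 : Smooth (O.ι ≫ f) := locus_prop @Smooth f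
  have sq : IsPullback (g' ∣_ O) (g' ⁻¹ᵁ O).ι O.ι g' := isPullback_morphismRestrict g' O
  have sq2 : IsPullback (g' ∣_ O) ((g' ⁻¹ᵁ O).ι ≫ f') (O.ι ≫ f) g := sq.paste_vert h
  exact MorphismProperty.of_isPullback (P := @Smooth) sq2 h1

theorem mem_of_lfp (h : IsPullback g' f' f g) [LocallyOfFinitePresentation f] [Flat g] (x : X')
    (hx : x ∈ locus @Smooth f') : g' x ∈ locus @Smooth f := by
  have : LocallyOfFinitePresentation f' := MorphismProperty.of_isPullback h inferInstance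
  rw [locus_smooth_eq] at hx ⊢
  rw [Groth.Agent.S2155.result f g f' g' h (Or.inr inferInstance)] at hx
  exact hx

theorem mem_of_flat_lfp (h : IsPullback g' f' f g) [Flat g] [LocallyOfFinitePresentation g] (x : X')
    (hx : x ∈ locus @Smooth f') : g' x ∈ locus @Smooth f := by
  have hg' : Flat g' := MorphismProperty.of_isPullback h.flip inferInstance
  have hg'' : LocallyOfFinitePresentation g' := MorphismProperty.of_isPullback h.flip inferInstance
  let O' := locus @Smooth f'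
  have hO' : Smooth (O'.ι ≫ f') := locus_prop @Smooth f'
  have hopen : IsOpenMap (O'.ι ≫ g') := K735.Top.isOpenMap_of_flat_lfp _ ⟨inferInstance, inferInstance⟩
  let W : X.Opens := ⟨Set.range (O'.ι ≫ g'), hopen.isOpen_range⟩
  let k : (O' : Scheme.{u}) ⟶ W := IsOpenImmersion.lift W.ι (O'.ι ≫ g') (by
    rw [Scheme.Opens.range_ι]
    exact subset_rfl)
  have hk : k ≫ W.ι = O'.ι ≫ g' := IsOpenImmersion.lift_fac _ _ _
  have sqk : IsPullback k (𝟙 _) W.ι (k ≫ W.ι) := by
    refine ⟨⟨by simp⟩, ⟨PullbackCone.IsLimit.mk _ (fun s => s.snd) (fun s => ?_) (fun s => ?_) (fun s m h1 h2 => ?_)⟩⟩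
    · have := s.condition
      rw [← cancel_mono W.ι, this, Category.assoc]
    · simp
    · simpa using h2
  have hkf : Flat k := by
    have : Flat (k ≫ W.ι) := by rw [hk]; infer_instance
    exact MorphismProperty.of_isPullback (P := @Flat) sqk.flip this
  have hkl : LocallyOfFinitePresentation k := by
    have : LocallyOfFinitePresentation (k ≫ W.ι) := by rw [hk]; infer_instance
    exact MorphismProperty.of_isPullback (P := @LocallyOfFinitePresentation) sqk.flip this
  have hks : Surjective k := by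
    refine ⟨fun w => ?_⟩
    obtain ⟨t, ht⟩ := w.2
    refine ⟨t, ?_⟩
    apply W.ι.isOpenEmbedding.injective
    rw [← Scheme.Hom.comp_apply, hk]
    exact ht
  have hWl : LocallyOfFinitePresentation (W.ι ≫ f) := by
    apply K629.SchDesc.lfp k (W.ι ≫ f) hkf hkl hks
    rw [← Category.assoc, hk, Category.assoc, h.w, ← Category.assoc]
    infer_instance
  have sq : IsPullback (g' ∣_ W) (g' ⁻¹ᵁ W).ι W.ι g' := isPullback_morphismRestrict g' W
  have sq2 : IsPullback (g' ∣_ W) ((g' ⁻¹ᵁ W).ι ≫ f') (W.ι ≫ f) g := sq.paste_vert h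
  have hxW : x ∈ g' ⁻¹ᵁ W := ⟨⟨x, hx⟩, rfl⟩
  have h1 : (⟨x, hxW⟩ : ↥(g' ⁻¹ᵁ W)) ∈ locus @Smooth ((g' ⁻¹ᵁ W).ι ≫ f') := by
    have h2 : (g' ⁻¹ᵁ W).ι ⁻¹ᵁ O' ≤ locus @Smooth ((g' ⁻¹ᵁ W).ι ≫ f') := by
      apply le_locus
      rw [← Category.assoc, ← morphismRestrict_ι, Category.assoc]
      infer_instance
    exact h2 (show (g' ⁻¹ᵁ W).ι ⟨x, hxW⟩ ∈ O' from hx)
  have h3 := mem_of_lfp sq2 _ h1
  let O₂ := locus @Smooth (W.ι ≫ f)
  have h4 : Smooth (O₂.ι ≫ W.ι ≫ f) := locus_prop @Smooth (W.ι ≫ f)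
  have h5 : W.ι ''ᵁ O₂ ≤ locus @Smooth f := by
    apply le_locus
    have e1 : (W.ι ''ᵁ O₂).ι ≫ f = (Scheme.Hom.isoImage W.ι O₂).inv ≫ O₂.ι ≫ W.ι ≫ f := by
      rw [← Category.assoc, ← Category.assoc, Category.assoc _ O₂.ι, Scheme.Hom.isoImage_inv_ι]
    rw [e1]
    infer_instance
  apply h5
  have e2 : W.ι ((g' ∣_ W) ⟨x, hxW⟩) = g' x := by
    rw [← Scheme.Hom.comp_apply, morphismRestrict_ι]
    rfl
  rw [← e2]
  exact ⟨_, h3, rfl⟩

/-- **The smooth locus commutes with flat base change**, one of the two morphisms being locally of finite presentation. -/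
theorem mem_locus_iff (h : IsPullback g' f' f g) (hg : Flat g)
    (hl : LocallyOfFinitePresentation g ∨ LocallyOfFinitePresentation f) (x : X') :
    x ∈ locus @Smooth f' ↔ g' x ∈ locus @Smooth f := by
  refine ⟨fun hx => ?_, fun hx => preimage_le h hx⟩
  rcases hl with hl | hl
  · exact mem_of_flat_lfp h x hx
  · exact mem_of_lfp h x hx

end K750.SmLocBC
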