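import Groth.Agent.AlgSt.K750.Largest
import Groth.Agent.AlgSt.K750.SmLocBC
import Groth.Agent.AlgSt.K734.FpAlg

/-!
# The locus of a nice property and base change (helper750)
-/

set_option autoImplicit false
set_option backward.isDefEq.respectTransparency false
set_option backward.isDefEq.respectTransparency.types false

universe v₄ u₄ v u

open CategoryTheory CategoryTheory.Limits AlgebraicGeometry Opposite
open K735.Fib K735.Fp K735.Rep K742.Sq K742 K742.EvQ K737.Open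

namespace K750.LocBC

open K750.GoodLoc K750.Largest

variable {S : Scheme.{u}} {𝒳 𝒴 𝒵 𝒳' 𝒴' : AlgSt.Cat S} {P Q R : MorphismProperty Scheme.{u}}

/-- The 2-fibre product of two slices is the slice over the fibre product. -/
theorem exists_slice {U V V' U₁ : Over S} {h : U ⟶ V} {b : V' ⟶ V} {p₁ : U₁ ⟶ U} {p₂ : U₁ ⟶ V'}
    (sq : IsPullback p₁ p₂ h b) : ∃ E : FibCat.overCat U₁ ⥤ᵇ FibCat.fp (AlgSt.overMap h) (AlgSt.overMap b),
      FibCat.IsEquivOver E ∧ Nonempty (BasedFunctor.comp E (FibCat.fpFst _ _) ≅ AlgSt.overMap p₁) ∧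
      Nonempty (BasedFunctor.comp E (FibCat.fpSnd _ _) ≅ AlgSt.overMap p₂) := by
  have sq' := sq.map (AlgSp.yon S)
  let M : FibCat.fp (AlgSt.ofSpMap ((AlgSp.yon S).map h)) (AlgSt.ofSpMap ((AlgSp.yon S).map b)) ⥤ᵇ
      FibCat.fp (AlgSt.overMap h) (AlgSt.overMap b) :=
    K734.Fib.fpMap (AlgSt.toOverCat U) (AlgSt.toOverCat V') (AlgSt.toOverCat V) (Iso.refl _) (Iso.refl _)
  have hM : FibCat.IsEquivOver M := K734.Fib.isEquivOver_fpMap _ _ _ _ _ (isEquivOver_toOverCat U)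
    (isEquivOver_toOverCat V') (K734.Fib.full_of (isEquivOver_toOverCat V)) (K734.Fib.faithful_of (isEquivOver_toOverCat V))
  refine ⟨BasedFunctor.comp (AlgSt.ofOverCat U₁) (BasedFunctor.comp (K735.SpFp.theta sq'.w) M),
    IsEquivOver.comp (isEquivOver_ofOverCat U₁) (IsEquivOver.comp (K735.SpFp.isEquivOver_theta sq') hM), ?_, ?_⟩
  · exact ⟨K743.Chart.overMapSp p₁⟩
  · exact ⟨K743.Chart.overMapSp p₂⟩

/-- **The base change of a chart.** -/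
theorem exists_bc_chart (h𝒳 : FibCat.IsFibGrpd 𝒳.p) (h𝒴 : FibCat.IsFibGrpd 𝒴.p)
    (f : 𝒳 ⥤ᵇ 𝒴) (y : 𝒴' ⥤ᵇ 𝒴) {U V V' U₁ : Over S} (v : FibCat.overCat V ⥤ᵇ 𝒴)
    (L : FibCat.overCat U ⥤ᵇ FibCat.fp f v) (h : U ⟶ V) (hL : Gw f v L h) (hLs : Function.Surjective (AlgSt.Points.map L))
    (N : FibCat.overCat V' ⥤ᵇ FibCat.fp y v) (b : V' ⟶ V) (hN : Gw y v N b) {p₁ : U₁ ⟶ U} {p₂ : U₁ ⟶ V'}
    (sq : IsPullback p₁ p₂ h b) :
    ∃ Λ : FibCat.overCat U₁ ⥤ᵇ FibCat.fp (FibCat.fpFst y f) (BasedFunctor.comp N (FibCat.fpFst y v)),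
      Gw (FibCat.fpFst y f) (BasedFunctor.comp N (FibCat.fpFst y v)) Λ p₂ ∧ Function.Surjective (AlgSt.Points.map Λ) ∧
      Nonempty (BasedFunctor.comp (BasedFunctor.comp Λ (FibCat.fpFst _ _)) (FibCat.fpSnd y f) ≅
        BasedFunctor.comp (AlgSt.overMap p₁) (BasedFunctor.comp L (FibCat.fpFst f v))) := by
  obtain ⟨E, hE, ⟨e₁⟩, ⟨e₂⟩⟩ := exists_slice sq
  obtain ⟨iL⟩ := hL.iso
  obtain ⟨iN⟩ := hN.iso
  let v' := BasedFunctor.comp N (FibCat.fpFst y v)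
  let β : BasedFunctor.comp v' y ≅ BasedFunctor.comp (AlgSt.overMap b) v :=
    K743.BC.whiskerLeftIso N (FibCat.fpIso y v) ≪≫ K743.BC.whiskerRightIso iN v
  let A := BasedFunctor.comp E (K734.Fib.fpCongrL iL (AlgSt.overMap b))
  have hA : FibCat.IsEquivOver A := IsEquivOver.comp hE (K734.Fib.isEquivOver_fpCongrL iL (AlgSt.overMap b))
  let E₃ := K734.Fib.fpPreL L (FibCat.fpSnd f v) (AlgSt.overMap b)
  obtain ⟨k, hk, -, ⟨kk⟩⟩ := IsEquivOver.exists_inv (K734.Fib.isEquivOver_fpPaste (AlgSt.overMap b) v f)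
  let B₁ : FibCat.fp (FibCat.fpSnd f v) (AlgSt.overMap b) ⥤ᵇ FibCat.fp (AlgSt.overMap b) (FibCat.fpFst v f) :=
    BasedFunctor.comp (K734.Fib.fpSwap (FibCat.fpSnd f v) (AlgSt.overMap b)) (K734.Fib.fpPreR (AlgSt.overMap b) (K734.Fib.fpSwap f v) (FibCat.fpFst v f))
  have hB₁ : FibCat.IsEquivOver B₁ := IsEquivOver.comp (K734.Fib.isEquivOver_fpSwap _ _)
    (K734.Fib.isEquivOver_fpPreR _ _ (K734.Fib.isEquivOver_fpSwap _ _) _)
  let B₂ : FibCat.fp (BasedFunctor.comp (AlgSt.overMap b) v) f ⥤ᵇ FibCat.fp (FibCat.fpFst y f) v' :=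
    BasedFunctor.comp (K734.Fib.fpCongrL β f) (BasedFunctor.comp (K734.Fib.fpPaste v' y f) (K734.Fib.fpSwap v' (FibCat.fpFst y f)))
  have hB₂ : FibCat.IsEquivOver B₂ := IsEquivOver.comp (K734.Fib.isEquivOver_fpCongrL β f)
    (IsEquivOver.comp (K734.Fib.isEquivOver_fpPaste _ _ _) (K734.Fib.isEquivOver_fpSwap _ _))
  let B := BasedFunctor.comp B₁ (BasedFunctor.comp k B₂)
  have hB : FibCat.IsEquivOver B := IsEquivOver.comp hB₁ (IsEquivOver.comp hk hB₂)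
  have hfv : FibCat.IsFibGrpd (FibCat.fp f v).p := isFibGrpd_fp h𝒳 (isFibGrpd_overCat V) h𝒴 f v
  have hE₃ : AlgSt.RepByAlgSpWith (AlgSp.LocP @Smooth) E₃ := K734.Rep.repByAlgSpWith_fpPreL _ _ hL.sm
  have hLs' : AlgSt.RepByAlgSpWith AlgSp.IsSurjectiveMor L :=
    (K735.Top.repByAlgSpWith_surjective_iff hfv (isFibGrpd_overCat U) (repByAlgSp1_of_with hL.sm)).1 hLs
  have hE₃s : AlgSt.RepByAlgSpWith AlgSp.IsSurjectiveMor E₃ := K734.Rep.repByAlgSpWith_fpPreL _ _ hLs'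
  obtain ⟨B', hB', ⟨i₁⟩, -⟩ := IsEquivOver.exists_inv hB
  refine ⟨BasedFunctor.comp A (BasedFunctor.comp E₃ B), ⟨?_, ?_⟩, ?_, ?_⟩
  · exact K735.Rep.repByAlgSpWith_of_sq _ E₃ (BasedFunctor.comp A (BasedFunctor.comp E₃ B)) A B' hA hB'
      (K743.BC.whiskerLeftIso (BasedFunctor.comp A E₃) i₁) hE₃
  · exact ⟨(K743.BC.whiskerLeftIso (BasedFunctor.comp (BasedFunctor.comp A E₃) B₁)
      (K743.BC.whiskerRightIso kk (FibCat.fpFst (AlgSt.overMap b) (FibCat.fpFst v f))) :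
      BasedFunctor.comp (BasedFunctor.comp A (BasedFunctor.comp E₃ B)) (FibCat.fpSnd (FibCat.fpFst y f) v') ≅
      BasedFunctor.comp E (FibCat.fpSnd (AlgSt.overMap h) (AlgSt.overMap b))) ≪≫ e₂⟩
  · have h1 : FibCat.IsFibGrpd (FibCat.fp (BasedFunctor.comp L (FibCat.fpSnd f v)) (AlgSt.overMap b)).p :=
      isFibGrpd_fp (isFibGrpd_overCat U) (isFibGrpd_overCat V') (isFibGrpd_overCat V) _ _
    have h2 : FibCat.IsFibGrpd (FibCat.fp (FibCat.fpSnd f v) (AlgSt.overMap b)).p :=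
      isFibGrpd_fp hfv (isFibGrpd_overCat V') (isFibGrpd_overCat V) _ _
    have s1 := K735.Top.surjective_of_repByAlgSpWith h2 h1 hE₃s
    have s2 := (K735.Pts.map_bijective_of_isEquivOver hA).surjective
    have s3 := (K735.Pts.map_bijective_of_isEquivOver hB).surjective
    intro w
    obtain ⟨w, rfl⟩ := s3 w
    obtain ⟨w, rfl⟩ := s1 w
    obtain ⟨w, rfl⟩ := s2 w
    exact ⟨w, by rw [K735.Pts.map_comp, K735.Pts.map_comp]⟩
  · exact ⟨(K743.BC.whiskerLeftIso (BasedFunctor.comp (BasedFunctor.comp A E₃) B₁)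
      (K743.BC.whiskerRightIso kk (BasedFunctor.comp (FibCat.fpSnd (AlgSt.overMap b) (FibCat.fpFst v f)) (FibCat.fpSnd v f))) :
      BasedFunctor.comp (BasedFunctor.comp (BasedFunctor.comp A (BasedFunctor.comp E₃ B)) (FibCat.fpFst (FibCat.fpFst y f) v'))
        (FibCat.fpSnd y f) ≅
      BasedFunctor.comp (BasedFunctor.comp E (FibCat.fpFst (AlgSt.overMap h) (AlgSt.overMap b)))
        (BasedFunctor.comp L (FibCat.fpFst f v))) ≪≫
      K743.BC.whiskerRightIso e₁ (BasedFunctor.comp L (FibCat.fpFst f v))⟩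

theorem Gw.goodSq {f : 𝒳 ⥤ᵇ 𝒴} {U V : Over S} {y : FibCat.overCat V ⥤ᵇ 𝒴} {w : FibCat.overCat U ⥤ᵇ FibCat.fp f y}
    {a : U ⟶ V} (h : Gw f y w a) : GoodSq f (BasedFunctor.comp w (FibCat.fpFst f y)) y a := by
  obtain ⟨i⟩ := h.iso
  obtain ⟨k⟩ := nonempty_iso_fpLift f y w i
  exact ⟨sqIso f y w i, repByAlgSpWith_of_iso _ k h.sm⟩

local notation "Alg" => AlgSt.IsAlgStack Scheme.fppfPrecoverage

/-- **The smooth locus commutes with flat base change**, one of the two morphisms being locally of finite presentation. -/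
theorem loc_fp (h𝒳 : Alg 𝒳) (h𝒴 : Alg 𝒴) (h𝒴' : Alg 𝒴') (f : 𝒳 ⥤ᵇ 𝒴) (y : 𝒴' ⥤ᵇ 𝒴)
    (hy : AlgSt.LocQ (AlgSp.LocP @Flat) y)
    (hfp : AlgSt.LocQ (AlgSp.LocP @LocallyOfFinitePresentation) y ∨
      AlgSt.LocQ (AlgSp.LocP @LocallyOfFinitePresentation) f) :
    Loc @Smooth (FibCat.fpFst y f) = AlgSt.Points.map (FibCat.fpSnd y f) ⁻¹' Loc @Smooth f := by
  have hX := h𝒳.isStack.1
  have hY := h𝒴.isStack.1
  have hY' := h𝒴'.isStack.1
  obtain ⟨V, v, hv, hvs⟩ := h𝒴.atlas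
  have hvs' := K735.Top.surjective_of_repByAlgSpWith hY (isFibGrpd_overCat V) hvs
  obtain ⟨U, L, h, hL, hLs⟩ := exists_gw hX hY h𝒳.atlas f v hv
  obtain ⟨V', N, b, hN, hNs⟩ := exists_gw hY' hY h𝒴'.atlas y v hv
  let v' := BasedFunctor.comp N (FibCat.fpFst y v)
  have hyv : FibCat.IsFibGrpd (FibCat.fp y v).p := isFibGrpd_fp hY' (isFibGrpd_overCat V) hY y v
  have hv' : AlgSt.RepByAlgSpWith (AlgSp.LocP @Smooth) v' :=
    K742.SmComp.smooth_comp (isFibGrpd_overCat V') hyv _ _ hN.sm (K742.RepComp.repByAlgSpWith_fpFst y v hv)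
  have hb : Flat b.left := goodSq_of_locQ nice_flat hY' hY y hy _ v (repByAlgSp1_of_with hv) b (Gw.goodSq hN)
  have hl : LocallyOfFinitePresentation b.left ∨ LocallyOfFinitePresentation h.left := by
    rcases hfp with hfp | hfp
    · exact Or.inl (goodSq_of_locQ nice_lfp hY' hY y hfp _ v (repByAlgSp1_of_with hv) b (Gw.goodSq hN))
    · exact Or.inr (goodSq_of_locQ nice_lfp hX hY f hfp _ v (repByAlgSp1_of_with hv) h (Gw.goodSq hL))
  obtain ⟨Λ, hΛ, hΛs, ⟨κ⟩⟩ := exists_bc_chart hX hY f y v L h hL hLs N b hN (IsPullback.of_hasPullback h b)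
  have hsq : IsPullback (pullback.fst h b).left (pullback.snd h b).left h.left b.left :=
    (IsPullback.of_hasPullback h b).map (Over.forget S)
  have hfp' : FibCat.IsFibGrpd (FibCat.fp y f).p := isFibGrpd_fp hY' hX hY y f
  have ha : AlgSt.HasAtlas (AlgSp.LocP @Smooth) (FibCat.fp y f) :=
    (K742.QC.isAlgStack_fp h𝒴' h𝒳 h𝒴 y f).atlas
  ext ξ
  obtain ⟨q, hq⟩ := hvs' (AlgSt.Points.map y (AlgSt.Points.map (FibCat.fpFst y f) ξ))
  obtain ⟨m, hm1, -⟩ := K735.Pts.exists_fp (isFibGrpd_overCat V) hY' hY y v _ q hq.symm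
  obtain ⟨t, rfl⟩ := hNs m
  have ht : AlgSt.Points.map v' t = AlgSt.Points.map (FibCat.fpFst y f) ξ := by
    rw [← hm1, K735.Pts.map_comp]
  obtain ⟨ω, hω, -⟩ := K735.Pts.exists_fp (isFibGrpd_overCat V') hfp' hY' (FibCat.fpFst y f) v' ξ t ht.symm
  obtain ⟨u₁, rfl⟩ := (K735.PtsSp.surjective_map_iff_surjective_ofChart Λ).1 hΛs ω
  have hξ : ξ = AlgSt.Points.ofChart (BasedFunctor.comp Λ (FibCat.fpFst (FibCat.fpFst y f) v')) u₁ := hω.symm
  have h1 : AlgSt.Points.map (FibCat.fpSnd y f) ξ =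
      AlgSt.Points.ofChart (BasedFunctor.comp L (FibCat.fpFst f v)) ((pullback.fst h b).left u₁) := by
    rw [hξ]
    change AlgSt.Points.ofChart (BasedFunctor.comp (BasedFunctor.comp Λ (FibCat.fpFst (FibCat.fpFst y f) v'))
      (FibCat.fpSnd y f)) u₁ = _
    rw [K735.PtsSp.ofChart_congr κ, K735.PtsSp.ofChart_overMap]
  rw [Set.mem_preimage, h1, ofChart_mem_loc_iff nice_smooth hX hY h𝒳.atlas f v hv L h hL, hξ,
    ofChart_mem_loc_iff nice_smooth hfp' hY' ha (FibCat.fpFst y f) v' hv' Λ _ hΛ]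
  exact K750.SmLocBC.mem_locus_iff hsq hb hl u₁

end K750.LocBC
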