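import Groth.Agent.AlgSt.K740.Inertia
import Groth.Agent.AlgSt.K738.RepDiag

/-! # Diagonals of locally separated morphisms are immersions (helper750) -/

set_option autoImplicit false
set_option backward.isDefEq.respectTransparency false
set_option backward.isDefEq.respectTransparency.types false

universe u
open CategoryTheory CategoryTheory.Limits AlgebraicGeometry

namespace K750.LocSep

variable {S : Scheme.{u}} {𝒳 𝒴 : AlgSt.Cat S}

theorem isImm_diag (f : 𝒳 ⥤ᵇ 𝒴) (h : AlgSt.RepByAlgSpWith AlgSp.IsLocallySeparatedMor f) :
    AlgSt.IsImm (FibCat.diag f) := by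
  apply K738.repByAlgSpWith_diag h
  intro F U V π i fst g hπ sq _
  have h1 : AlgSp.RepWith @IsImmersion (pullback.diagonal π) := hπ
  exact (AlgSp.RepWith (S := S) @IsImmersion).of_isPullback sq h1

end K750.LocSep
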