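import Groth.Agent.AlgSt.K750.QStab

/-!
# The kernel of the stabilizer map is a closed subgroup functor
-/

set_option autoImplicit false
set_option backward.isDefEq.respectTransparency false
set_option backward.isDefEq.respectTransparency.types false

universe w v u

open CategoryTheory CategoryTheory.Limits MonoidalCategory CartesianMonoidalCategory MonObj GrpObj AlgebraicGeometry
open Groth.Agent Groth.Agent.Books.BorelOrb AlgSt

namespace K750.QKer

open K744.Quot K739.Psh QStab Groth.Agent.Sga3B.DSPts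

variable {S : Scheme.{u}} {K : Precoverage Scheme.{u}} [K.HasIsos] {H W : Over S} [GrpObj H] {aW : AlgGrp.Action H W}
  {𝒳 : BasedCategory.{u, w} (Over S)} (h𝒳 : FibCat.IsFibGrpd 𝒳.p) (f : QuotSt K H aW ⥤ᵇ 𝒳)

/-- the automorphism of the image -/
noncomputable def auN (T : Over W) (h : T.left ⟶ H) (e : sm aW h (𝟙 T.left ≫ T.hom) = T.hom) :
    Gerb.AutO ((BasedFunctor.comp (Y K aW) f).obj T) :=
  AutGrp.mk h𝒳 (V := T.left) ((BasedFunctor.comp (Y K aW) f).w_obj T) (f.map (ar K aW h (𝟙 _) e)) (fmap_lift f _ _ _)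

theorem auN_hom (T : Over W) (h : T.left ⟶ H) (e : sm aW h (𝟙 T.left ≫ T.hom) = T.hom) :
    (auN h𝒳 f T h e).hom.1 = f.map (ar K aW h (𝟙 _) e) := AutGrp.mk_hom h𝒳 _ _ _

theorem auN_eq_one_iff (T : Over W) (h : T.left ⟶ H) (e : sm aW h (𝟙 T.left ≫ T.hom) = T.hom) :
    auN h𝒳 f T h e = 1 ↔ f.map (ar K aW h (𝟙 _) e) = 𝟙 _ := by
  rw [← auN_hom h𝒳]
  constructor
  · intro h
    rw [h]
    rfl
  · intro h
    exact AutGrp.autO_ext h

theorem res_auN {T' T : Over W} (t : T' ⟶ T) (h : T.left ⟶ H) (e : sm aW h (𝟙 T.left ≫ T.hom) = T.hom)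
    (e' : sm aW (t.left ≫ h) (𝟙 T'.left ≫ T'.hom) = T'.hom) :
    AutGrp.res (BasedFunctor.comp (Y K aW) f) h𝒳 t (auN h𝒳 f T h e) = auN h𝒳 f T' (t.left ≫ h) e' := by
  symm
  apply AutGrp.eq_res
  rw [auN_hom, auN_hom]
  change f.map _ ≫ f.map ((Y K aW).map t) = f.map ((Y K aW).map t) ≫ f.map _
  rw [← f.map_comp, ← f.map_comp]
  congr 1
  rw [map_eq_ar, ar_comp, ar_comp]
  exact ar_congr (by rw [comp_one, _root_.mul_one, _root_.one_mul]) (by rw [Category.id_comp, Category.comp_id]) _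

include h𝒳 in
theorem exists_closed [IsSeparated W.hom]
    (hsep : AlgSt.RepByAlgSpWith AlgSp.IsSeparatedMor (FibCat.diag (FibCat.toSelf 𝒳))) (T : Over W) (h : T.left ⟶ H) :
    ∃ (Z : Scheme.{u}) (z : Z ⟶ T.left.left), IsClosedImmersion z ∧
      ∀ (T' : Over W) (t : T' ⟶ T), Nm f T' (t.left ≫ h) ↔ ∃ t' : T'.left.left ⟶ Z, t' ≫ z = t.left.left := by
  obtain ⟨E, jj, hjj, hE, -⟩ := Sga3.H797.HomFin.exists_eq (sm aW h T.hom) T.hom
  let T₁ : Over W := Over.mk (jj ≫ T.hom)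
  have e₀ : sm aW (jj ≫ h) T₁.hom = T₁.hom := by
    change sm aW (jj ≫ h) (jj ≫ T.hom) = jj ≫ T.hom
    rw [← comp_sm]
    exact (hE E jj).1 ⟨𝟙 _, Category.id_comp _⟩
  have e₁ : sm aW (jj ≫ h) (𝟙 T₁.left ≫ T₁.hom) = T₁.hom := by
    change sm aW (jj ≫ h) (𝟙 E ≫ jj ≫ T.hom) = jj ≫ T.hom
    rw [Category.id_comp]
    exact e₀
  obtain ⟨Z, z, hz, hZ⟩ := AutLoc.exists_closed h𝒳 (BasedFunctor.comp (Y K aW) f) hsep T₁ (auN h𝒳 f T₁ (jj ≫ h) e₁)
  refine ⟨Z, z ≫ jj.left, inferInstance, fun T' t => ?_⟩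
  have key : ∀ (k : T' ⟶ T₁), k.left ≫ jj = t.left → (Nm f T' (t.left ≫ h) ↔ ∃ t' : T'.left.left ⟶ Z, t' ≫ z = k.left.left) := by
    intro k hk
    have e' : sm aW (k.left ≫ jj ≫ h) (𝟙 T'.left ≫ T'.hom) = T'.hom := by
      rw [Category.id_comp, ← Over.w k, ← comp_sm, e₀]
    rw [← hZ T' k, res_auN h𝒳 f k (jj ≫ h) e₁ e', auN_eq_one_iff, ← hk, Category.assoc]
    exact ⟨fun h => h.2, fun h => ⟨_, h⟩⟩
  constructor
  · intro hN
    obtain ⟨k, hk⟩ := (hE T'.left t.left).2 (by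
      obtain ⟨e, -⟩ := hN
      rw [Category.id_comp] at e
      rw [comp_sm, Over.w t]
      exact e)
    obtain ⟨t', ht'⟩ := (key (Over.homMk k (by
      change k ≫ jj ≫ T.hom = T'.hom
      rw [← Category.assoc, hk, Over.w])) hk).1 hN
    refine ⟨t', ?_⟩
    rw [← Category.assoc, ht']
    change k.left ≫ jj.left = t.left.left
    rw [← Over.comp_left, hk]
  · rintro ⟨t', ht'⟩
    let k : T'.left ⟶ E := Over.homMk (t' ≫ z) (by
      rw [← Over.w jj, Category.assoc, ← Category.assoc z, ← Category.assoc, ht', Over.w])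
    have hk : k ≫ jj = t.left := by
      ext1
      change (t' ≫ z) ≫ jj.left = t.left.left
      rw [Category.assoc, ht']
    exact (key (Over.homMk k (by
      change k ≫ jj ≫ T.hom = T'.hom
      rw [← Category.assoc, hk, Over.w])) hk).2 ⟨t', rfl⟩

section ker

/-- a scheme over `W` as an object over `W : Over S` -/
abbrev tw (V : Over W.left) : Over W := Over.mk (Over.homMk V.hom rfl : (Over.map W.hom).obj V ⟶ W)

/-- on morphisms -/
abbrev tm {V' V : Over W.left} (g : V' ⟶ V) : tw V' ⟶ tw V := Over.homMk ((Over.map W.hom).map g) (by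
  apply Over.OverMorphism.ext
  exact Over.w g)

/-- the kernel of the stabilizer map -/
noncomputable def ker [IsSeparated W.hom]
    (hsep : AlgSt.RepByAlgSpWith AlgSp.IsSeparatedMor (FibCat.diag (FibCat.toSelf 𝒳))) :
    MTSub.Sb (Red.bc W.hom H) where
  mem V x := Nm f (tw V) ((bcEquiv W.hom V H).symm x)
  one V := by
    have h1 := (bcEquiv W.hom V H).symm.map_one
    rw [h1]
    exact Nm_one f _
  mul V x y hx hy := by
    have h1 := (bcEquiv W.hom V H).symm.map_mul x y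
    rw [h1]
    exact Nm_mul f hx hy
  res {V' V} t x hx := by
    rw [← bcEquiv_symm_naturality]
    exact Nm_res h𝒳 f (tm t) hx
  closed V x := by
    obtain ⟨Z, z, hz, hZ⟩ := exists_closed h𝒳 f hsep (tw V) ((bcEquiv W.hom V H).symm x)
    refine ⟨Z, z, hz, fun V' t => ?_⟩
    rw [← bcEquiv_symm_naturality]
    exact hZ (tw V') (tm t)

end ker

end K750.QKer
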