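import Groth.Agent.AlgSt.K750.QKer

/-!
# The open locus where the kernel of the stabilizer map is trivial
-/

set_option autoImplicit false
set_option backward.isDefEq.respectTransparency false
set_option backward.isDefEq.respectTransparency.types false

universe w v u

open CategoryTheory CategoryTheory.Limits MonoidalCategory CartesianMonoidalCategory MonObj GrpObj AlgebraicGeometry
open Groth.Agent Groth.Agent.Books.BorelOrb AlgSt

namespace K750.QTriv

open K744.Quot K739.Psh QStab QKer MTSub Groth.Agent.Sga3B.DSPts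

section general

variable {X : Scheme.{u}} {H : Over X} [GrpObj H] (N : Sb H)

/-- Local nature of triviality. -/
theorem trivOver_of_local {X' : Scheme.{u}} (ρ : X' ⟶ X) (h : ∀ y : X', ∃ U : X.Opens, ρ y ∈ U ∧ N.TrivOver U.ι) :
    N.TrivOver ρ := by
  intro T t ht x hx
  choose U hU hN using h
  let V : X' → T.left.Opens := fun y => T.hom ⁻¹ᵁ U y
  have hV : TopologicalSpace.IsOpenCover V := by
    rw [TopologicalSpace.IsOpenCover, eq_top_iff]
    intro z _
    rw [TopologicalSpace.Opens.mem_iSup]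
    refine ⟨t z, ?_⟩
    change T.hom z ∈ U (t z)
    rw [← ht, Scheme.Hom.comp_apply]
    exact hU _
  ext1
  refine (Scheme.openCoverOfIsOpenCover T.left V hV).hom_ext _ _ fun y => ?_
  change (V y).ι ≫ x.left = (V y).ι ≫ (1 : T ⟶ H).left
  let j : Over.mk ((V y).ι ≫ T.hom) ⟶ T := Over.homMk (V y).ι rfl
  have h1 : j ≫ x = 1 := by
    refine hN y _ (T.hom ∣_ U y) ?_ _ (N.res j x hx)
    exact morphismRestrict_ι _ _
  have h2 := congrArg CommaMorphism.left (h1.trans (comp_one j).symm)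
  exact h2

theorem trivOver_point_iff {P : Scheme.{u}} (φ : P ⟶ X) (z : P) :
    N.TrivOver (P.fromSpecResidueField z ≫ φ) ↔ N.TrivOver (X.fromSpecResidueField (φ z)) := by
  rw [← Scheme.Hom.SpecMap_residueFieldMap_fromSpecResidueField]
  constructor
  · intro h
    have h1 : Flat (Spec.map (φ.residueFieldMap z)) := by
      rw [Flat.SpecMap_iff]
      algebraize [(φ.residueFieldMap z).hom]
      have : Module.Free (X.residueField (φ z)) (P.residueField z) := Module.Free.of_divisionRing _ _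
      exact Module.Flat.of_free
    have h2 : Surjective (Spec.map (φ.residueFieldMap z)) :=
      ⟨fun x => ⟨IsLocalRing.closedPoint _, Subsingleton.elim (α := PrimeSpectrum (X.residueField (φ z))) _ _⟩⟩
    exact Sb.TrivOver.of_flat _ h
  · intro h
    exact h.comp _

/-- the locus where the subgroup is trivial -/
def locus : Set X := {x | N.TrivOver (X.fromSpecResidueField x)}

theorem mem_locus_of_trivOver (U : X.Opens) (hU : N.TrivOver U.ι) (x : X) (hx : x ∈ U) : x ∈ locus N := by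
  have h1 : Set.range (X.fromSpecResidueField x) ⊆ Set.range U.ι := by
    rw [Scheme.Opens.range_ι, Scheme.range_fromSpecResidueField]
    rintro _ rfl
    exact hx
  have h2 : N.TrivOver (IsOpenImmersion.lift U.ι (X.fromSpecResidueField x) h1 ≫ U.ι) := hU.comp _
  rw [IsOpenImmersion.lift_fac] at h2
  exact h2

theorem isOpen_locus (hH : SGA3x.IsMultTypeFT H) : IsOpen (locus N) := by
  rw [isOpen_iff_forall_mem_open]
  intro x hx
  obtain ⟨U, hxU, hU⟩ := N.exists_nhd hH x hx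
  exact ⟨U, fun y hy => mem_locus_of_trivOver N U hU y hy, U.2, hxU⟩

theorem trivOver_of_le (hH : SGA3x.IsMultTypeFT H) (U : X.Opens) (hU : ∀ x ∈ U, x ∈ locus N) : N.TrivOver U.ι := by
  apply trivOver_of_local
  intro y
  obtain ⟨V, hV, hV'⟩ := N.exists_nhd hH (U.ι y) (hU _ y.2)
  exact ⟨V, hV, hV'⟩

end general

variable {S : Scheme.{u}} {K : Precoverage Scheme.{u}} [K.HasIsos] {H W : Over S} [GrpObj H] {aW : AlgGrp.Action H W}
  {𝒳 : BasedCategory.{u, w} (Over S)} (h𝒳 : FibCat.IsFibGrpd 𝒳.p) (f : QuotSt K H aW ⥤ᵇ 𝒳)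

/-- the kernel is trivial over `ρ` -/
def TrivW {X' : Scheme.{u}} (ρ : X' ⟶ W.left) : Prop :=
  ∀ (T : Over W) (t : T.left.left ⟶ X'), t ≫ ρ = T.hom.left → ∀ h : T.left ⟶ H, Nm f T h → h = 1

theorem trivOver_iff [IsSeparated W.hom]
    (hsep : AlgSt.RepByAlgSpWith AlgSp.IsSeparatedMor (FibCat.diag (FibCat.toSelf 𝒳))) {X' : Scheme.{u}}
    (ρ : X' ⟶ W.left) : (ker h𝒳 f hsep).TrivOver ρ ↔ TrivW f ρ := by
  constructor
  · intro hρ T t ht h hN
    let V : Over W.left := Over.mk T.hom.left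
    let j₀ : (Over.map W.hom).obj V ⟶ T.left := Over.homMk (𝟙 _) (by
      change 𝟙 _ ≫ T.left.hom = T.hom.left ≫ W.hom
      rw [Category.id_comp, Over.w])
    let j : tw V ⟶ T := Over.homMk j₀ (by
      ext1
      change 𝟙 _ ≫ T.hom.left = T.hom.left
      rw [Category.id_comp])
    have h0 : IsIso j₀.left := inferInstanceAs (IsIso (𝟙 _))
    have h1 : Epi j₀ := by
      have : Epi j₀.left := inferInstance
      exact Over.epi_of_epi_left _
    have h2 : bcEquiv W.hom V H (j₀ ≫ h) = bcEquiv W.hom V H 1 := by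
      refine (hρ V t ht _ ?_).trans (bcEquiv W.hom V H).map_one.symm
      change Nm f (tw V) ((bcEquiv W.hom V H).symm (bcEquiv W.hom V H (j₀ ≫ h)))
      have h3 : (bcEquiv W.hom V H).symm (bcEquiv W.hom V H (j₀ ≫ h)) = j₀ ≫ h :=
        (bcEquiv W.hom V H).symm_apply_apply _
      rw [h3]
      exact Nm_res h𝒳 f j hN
    rw [← cancel_epi j₀, comp_one]
    exact (bcEquiv W.hom V H).injective h2
  · intro hρ V t ht x hx
    have h1 := hρ (tw V) t ht _ hx
    exact (bcEquiv W.hom V H).symm.injective (h1.trans (bcEquiv W.hom V H).symm.map_one.symm)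

theorem TrivW.comp {X' X'' : Scheme.{u}} {ρ : X' ⟶ W.left} (h : TrivW f ρ) (g : X'' ⟶ X') : TrivW f (g ≫ ρ) :=
  fun T t ht x hx => h T (t ≫ g) (by rw [Category.assoc, ht]) x hx

include h𝒳 in
/-- invariance under the action -/
theorem trivW_sm {T₀ : Over S} (g : T₀ ⟶ H) (a : T₀ ⟶ W) (ha : TrivW f a.left) : TrivW f (sm aW g a).left := by
  intro T t ht h hN
  have ht' : t ≫ T₀.hom = T.left.hom := by
    rw [← Over.w (sm aW g a), ← Category.assoc, ht, Over.w]
  let t' : T.left ⟶ T₀ := Over.homMk t ht'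
  have h1 : t' ≫ sm aW g a = T.hom := by
    ext1
    exact ht
  let T₂ : Over W := Over.mk (t' ≫ a)
  have e : sm aW (t' ≫ g)⁻¹ (𝟙 T.left ≫ T.hom) = T₂.hom := by
    rw [Category.id_comp, ← h1, comp_sm, ← mul_sm, inv_mul_cancel, one_sm]
    rfl
  have h2 : Nm f T₂ ((t' ≫ g)⁻¹ * h * (t' ≫ g)) :=
    Nm_ar h𝒳 f (T' := T₂) (T := T) (t' ≫ g)⁻¹ (𝟙 T.left) e (by
      have h5 : ∀ (u v : T.left ⟶ H), (u⁻¹ * v * u) * u⁻¹ = u⁻¹ * v := fun u v => mul_inv_cancel_right _ _
      have h6 : 𝟙 T.left ≫ h = h := Category.id_comp h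
      exact (h5 _ _).trans (congrArg (fun v => (t' ≫ g)⁻¹ * v) h6.symm)) hN
  have h3 := ha T₂ t rfl _ h2
  have h4 : (t' ≫ g) * ((t' ≫ g)⁻¹ * h * (t' ≫ g)) * (t' ≫ g)⁻¹ = h := by
    rw [_root_.mul_assoc, _root_.mul_assoc, _root_.mul_assoc, mul_inv_cancel, _root_.mul_one, ← _root_.mul_assoc,
      mul_inv_cancel, _root_.one_mul]
  rw [← h4, h3, _root_.mul_one, mul_inv_cancel]

include h𝒳 in
/-- the point of `W` at which the stabilizer map is injective -/
theorem trivW_of_autMap {P : Over S} (w : P ⟶ W) (hG : FibCat.IsFibGrpd (QuotSt K H aW).p)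
    (hst : ∀ T : Over P, Function.Injective
      (Gerb.autMap f ((BasedFunctor.comp (AlgSt.overMap w) (Y K aW)).obj T))) : TrivW f w.left := by
  intro T t ht h hN
  have ht' : t ≫ P.hom = T.left.hom := by
    rw [← Over.w w, ← Category.assoc, ht, Over.w]
  let T' : Over P := Over.mk (Over.homMk t ht' : T.left ⟶ P)
  let T'' : Over W := (AlgSt.overMap w).obj T'
  let k : T'' ⟶ T := Over.homMk (𝟙 T.left) (by
    ext1
    change 𝟙 _ ≫ T.hom.left = t ≫ w.left
    rw [Category.id_comp, ht])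
  obtain ⟨e, he⟩ := Nm_res h𝒳 f k hN
  let α : Gerb.AutO ((Y K aW).obj T'') :=
    AutGrp.mk hG (V := T''.left) rfl (ar K aW (k.left ≫ h) (𝟙 _) e) (ar_lift _ _ _)
  have h1 : Gerb.autMap f ((Y K aW).obj T'') α = Gerb.autMap f ((Y K aW).obj T'') 1 := by
    apply AutGrp.autO_ext
    rw [Gerb.autMap_hom_val, AutGrp.mk_hom, he, map_one]
    rfl
  have h2 : α = 1 := hst T' h1
  have h3 : ar K aW (k.left ≫ h) (𝟙 T''.left) e = 𝟙 _ := by
    have h4 := congrArg (fun β : Gerb.AutO ((Y K aW).obj T'') => β.hom.1) h2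
    dsimp only at h4
    rw [AutGrp.mk_hom] at h4
    exact h4
  have h4 := congrArg (fun σ => pt σ) h3
  rw [pt_ar] at h4
  have h5 : lift (k.left ≫ h) (𝟙 T''.left) = unitPt H T''.left := by
    rw [h4, pt]
    exact Category.comp_id _
  have h6 : lift (k.left ≫ h) (𝟙 T''.left) ≫ fst H T''.left = unitPt H T''.left ≫ fst H T''.left :=
    congrArg (· ≫ fst H T''.left) h5
  rw [lift_fst, unitPt_fst] at h6
  exact (Category.id_comp h).symm.trans h6

section final

variable [IsSeparated W.hom]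
    (hsep : AlgSt.RepByAlgSpWith AlgSp.IsSeparatedMor (FibCat.diag (FibCat.toSelf 𝒳)))

/-- the locus in `W` where the kernel is trivial -/
noncomputable def T₁ (hH : SGA3x.IsMultTypeFT H) : W.left.Opens :=
  ⟨locus (ker h𝒳 f hsep), isOpen_locus _ (K10.MTLoc.bc W.hom hH)⟩

theorem trivW_point_iff {P : Over S} (a : P ⟶ W) (z : P.left) :
    TrivW f (P.left.fromSpecResidueField z ≫ a.left) ↔
      (ker h𝒳 f hsep).TrivOver (W.left.fromSpecResidueField (a.left z)) := by
  rw [← trivOver_iff h𝒳 f hsep, trivOver_point_iff]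

theorem T₁_stable (hH : SGA3x.IsMultTypeFT H) :
    aW.act.left ⁻¹ᵁ (T₁ h𝒳 f hsep hH) = (snd H W).left ⁻¹ᵁ (T₁ h𝒳 f hsep hH) := by
  have key : ∀ z : (H ⊗ W).left, TrivW f ((H ⊗ W).left.fromSpecResidueField z ≫ aW.act.left) ↔
      TrivW f ((H ⊗ W).left.fromSpecResidueField z ≫ (snd H W).left) := by
    intro z
    let T₀ : Over S := Over.mk ((H ⊗ W).left.fromSpecResidueField z ≫ (H ⊗ W).hom)
    let ζ : T₀ ⟶ H ⊗ W := Over.homMk ((H ⊗ W).left.fromSpecResidueField z) rfl
    have h1 : (ζ ≫ aW.act) = sm aW (ζ ≫ fst H W) (ζ ≫ snd H W) := by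
      rw [← comp_sm, sm, lift_fst_snd, Category.id_comp]
    have h2 : (ζ ≫ snd H W) = sm aW (ζ ≫ fst H W)⁻¹ (ζ ≫ aW.act) := by
      rw [h1, ← mul_sm, inv_mul_cancel, one_sm]
    constructor
    · intro h
      have h3 : TrivW f (ζ ≫ aW.act).left := h
      have h4 := trivW_sm h𝒳 f (ζ ≫ fst H W)⁻¹ (ζ ≫ aW.act) h3
      rw [← h2] at h4
      exact h4
    · intro h
      have h3 : TrivW f (ζ ≫ snd H W).left := h
      have h4 := trivW_sm h𝒳 f (ζ ≫ fst H W) (ζ ≫ snd H W) h3
      rw [← h1] at h4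
      exact h4
  ext z
  exact (trivW_point_iff h𝒳 f hsep aW.act z).symm.trans ((key z).trans (trivW_point_iff h𝒳 f hsep (snd H W) z))

theorem T₁_preimage (hH : SGA3x.IsMultTypeFT H) {P : Over S} (w : P ⟶ W) (hw : TrivW f w.left) :
    w.left ⁻¹ᵁ (T₁ h𝒳 f hsep hH) = ⊤ := by
  ext z
  refine ⟨fun _ => trivial, fun _ => ?_⟩
  exact (trivW_point_iff h𝒳 f hsep w z).1 (hw.comp f _)

theorem trivW_of_le (hH : SGA3x.IsMultTypeFT H) (U : W.left.Opens) (hU : U ≤ T₁ h𝒳 f hsep hH) : TrivW f U.ι := by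
  rw [← trivOver_iff h𝒳 f hsep]
  exact trivOver_of_le _ (K10.MTLoc.bc W.hom hH) U fun x hx => hU hx

end final

end K750.QTriv
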