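import Groth.Agent.AlgSt.K743.Locus
import Groth.Agent.AlgSt.K742.EvQ
import Groth.Agent.AlgSt.K741.OfSp

/-!
# Comparison of chart squares without base change (helper750)

`SqP P` : `P` contains the smooth morphisms, is stable under composition, can be cancelled against smooth morphisms on the target
side and descends along smooth surjective morphisms on the source.  For such `P` every square of smooth charts of `f` has `P` as
soon as one square whose source chart is surjective has it (no stability under base change is needed; e.g. local complete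
intersection morphisms).
-/

set_option autoImplicit false
set_option backward.isDefEq.respectTransparency false
set_option backward.isDefEq.respectTransparency.types false

universe v₃ u₃ v₂ u₂ v u

open CategoryTheory CategoryTheory.Limits AlgebraicGeometry Opposite

namespace K750.SqCmp

open AlgSt K735.Fib K735.Fp K735.Rep K735.Pts K735.PtsSp

/-- Properties of morphisms of schemes for which chart squares can be compared. -/
structure SqP (P : MorphismProperty Scheme.{u}) : Prop where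
  smooth : ∀ ⦃X Y : Scheme.{u}⦄ (f : X ⟶ Y), Smooth f → P f
  comp : ∀ ⦃A B C : Scheme.{u}⦄ (a : A ⟶ B) (b : B ⟶ C), P a → P b → P (a ≫ b)
  cancel : ∀ ⦃A B C : Scheme.{u}⦄ (a : A ⟶ B) (b : B ⟶ C), Smooth b → P (a ≫ b) → P a
  desc : ∀ ⦃A B C : Scheme.{u}⦄ (t : A ⟶ B) (h : B ⟶ C), Smooth t → Surjective t → P (t ≫ h) → P h

variable {S : Scheme.{u}} {𝒳 : BasedCategory.{v₂, u₂} (Over S)} {𝒴 : BasedCategory.{v₃, u₃} (Over S)}

theorem surjective_left {W T : Over S} {𝒴 : BasedCategory.{v₃, u₃} (Over S)} {𝒵 : BasedCategory.{v₂, u₂} (Over S)} (h𝒴 : FibCat.IsFibGrpd 𝒴.p)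
    (h𝒵 : FibCat.IsFibGrpd 𝒵.p) (a : FibCat.overCat T ⥤ᵇ 𝒴) (y : 𝒵 ⥤ᵇ 𝒴) (s : W ⟶ T)
    (E : FibCat.overCat W ⥤ᵇ FibCat.fp a y) (i : BasedFunctor.comp E (FibCat.fpFst a y) ≅ AlgSt.overMap s)
    (hE : Function.Surjective (Points.map E)) (hy : Function.Surjective (Points.map y)) : Surjective s.left := by
  refine ⟨fun t => ?_⟩
  obtain ⟨u, hu⟩ := hy (Points.map a (K743.Pt.pt t))
  obtain ⟨z, hz1, -⟩ := exists_fp h𝒵 (isFibGrpd_overCat T) h𝒴 a y (K743.Pt.pt t) u hu.symm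
  obtain ⟨z, rfl⟩ := hE z
  obtain ⟨z, rfl⟩ : ∃ u', K743.Pt.pt u' = z := ⟨K743.Pt.toPt z, K743.Pt.pt_toPt z⟩
  rw [← map_comp, map_congr i, K743.Pt.map_overMap_pt] at hz1
  exact ⟨z, K743.Pt.pt_injective hz1⟩

theorem smooth_id (U : Over S) : AlgSt.RepByAlgSpWith (AlgSp.LocP @Smooth) (BasedFunctor.id (FibCat.overCat U)) :=
  K741.repByAlgSpWith_id _ fun V => K741.smooth_of_isIso _

/-- **Comparison of two squares of smooth charts.** -/
theorem prop_of_sq {P : MorphismProperty Scheme.{u}} (hP : SqP P) (h𝒳 : FibCat.IsFibGrpd 𝒳.p)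
    (h𝒴 : FibCat.IsFibGrpd 𝒴.p) (f : 𝒳 ⥤ᵇ 𝒴) {U₀ V₀ W V : Over S}
    (x₀ : FibCat.overCat U₀ ⥤ᵇ 𝒳) (y₀ : FibCat.overCat V₀ ⥤ᵇ 𝒴) (h₀ : U₀ ⟶ V₀)
    (α₀ : BasedFunctor.comp x₀ f ≅ BasedFunctor.comp (overMap h₀) y₀)
    (hx₀ : AlgSt.RepByAlgSpWith (AlgSp.LocP @Smooth) x₀) (hx₀s : Function.Surjective (Points.map x₀))
    (hy₀ : AlgSt.RepByAlgSpWith (AlgSp.LocP @Smooth) y₀) (hh₀ : P h₀.left)
    (x : FibCat.overCat W ⥤ᵇ 𝒳) (z : FibCat.overCat V ⥤ᵇ 𝒴) (h : W ⟶ V)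
    (α : BasedFunctor.comp x f ≅ BasedFunctor.comp (overMap h) z)
    (hx : AlgSt.RepByAlgSpWith (AlgSp.LocP @Smooth) x)
    (hz : AlgSt.RepByAlgSpWith (AlgSp.LocP @Smooth) z) : P h.left := by
  -- `T = W ×_𝒳 U₀`
  obtain ⟨T, s, r, E, ⟨i⟩, ⟨j⟩, hs, hr, hE⟩ := K743.Comp.exists_chart₂ x x₀ hx₀ hx
  have hss : Surjective s.left := surjective_left h𝒳 (isFibGrpd_overCat U₀) x x₀ s E i hE hx₀s
  let β : BasedFunctor.comp (overMap (s ≫ h)) z ≅ BasedFunctor.comp (overMap (r ≫ h₀)) y₀ :=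
    (K735.Fib.whiskerRightIso (K743.Chart.overMapComp s h).symm z :
      BasedFunctor.comp (overMap (s ≫ h)) z ≅ BasedFunctor.comp (overMap s) (BasedFunctor.comp (overMap h) z)) ≪≫
    K735.Fib.whiskerLeftIso (overMap s) α.symm ≪≫
    (K735.Fib.whiskerRightIso i.symm (BasedFunctor.comp x f)) ≪≫
    (K735.Fib.whiskerRightIso (K735.Fib.whiskerLeftIso E (FibCat.fpIso x x₀)) f :
      BasedFunctor.comp (BasedFunctor.comp E (FibCat.fpFst x x₀)) (BasedFunctor.comp x f) ≅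
      BasedFunctor.comp (BasedFunctor.comp E (FibCat.fpSnd x x₀)) (BasedFunctor.comp x₀ f)) ≪≫
    K735.Fib.whiskerRightIso j (BasedFunctor.comp x₀ f) ≪≫
    K735.Fib.whiskerLeftIso (overMap r) α₀ ≪≫
    (K735.Fib.whiskerRightIso (K743.Chart.overMapComp r h₀) y₀ :
      BasedFunctor.comp (overMap r) (BasedFunctor.comp (overMap h₀) y₀) ≅ _)
  let L : FibCat.overCat T ⥤ᵇ FibCat.fp z y₀ := FibCat.fpLift (overMap (s ≫ h)) (overMap (r ≫ h₀)) β
  -- the atlas of `V ×_𝒴 V₀`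
  obtain ⟨D, sD, rD, ω, hω, ⟨ω₁⟩, ⟨ω₂⟩, hsD, hrD, hωs⟩ := K743.FpChart.exists_chart_fp K597.etLoc_smooth
    (fun _ _ f _ => inferInstance) (isFibGrpd_overCat V₀) h𝒴 y₀ (BasedFunctor.id _) (smooth_id V₀) z hz
  have hrD' : Smooth rD.left := hrD @Smooth hy₀
  have hωs' : Function.Surjective (Points.map ω) := fun p => hωs p ⟨_, map_id _⟩
  -- `T' = T ×_{V ×_𝒴 V₀} D`
  obtain ⟨T', c, d, G, ⟨k⟩, ⟨l⟩, hc, hG⟩ := K743.Chart.exists_chart L ω hω (FibCat.fpSnd L ω)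
  have hfp : FibCat.IsFibGrpd (FibCat.fp z y₀).p := isFibGrpd_fp (isFibGrpd_overCat V) (isFibGrpd_overCat V₀) h𝒴 z y₀
  have hcs : Surjective c.left := surjective_left hfp (isFibGrpd_overCat D) L ω c G k hG hωs'
  have e1 : d ≫ rD = c ≫ s ≫ h := by
    apply K743.Locus.eq_of_overMap_iso
    exact (K743.Chart.overMapComp d rD).symm ≪≫ K735.Fib.whiskerLeftIso (overMap d) ω₁.symm ≪≫
      (K735.Fib.whiskerRightIso l.symm (BasedFunctor.comp ω (FibCat.fpFst z y₀))) ≪≫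
      (K735.Fib.whiskerRightIso (K735.Fib.whiskerLeftIso G (FibCat.fpIso L ω).symm) (FibCat.fpFst z y₀) :
        BasedFunctor.comp (BasedFunctor.comp G (BasedFunctor.comp (FibCat.fpSnd L ω) ω)) (FibCat.fpFst z y₀) ≅
        BasedFunctor.comp (BasedFunctor.comp G (BasedFunctor.comp (FibCat.fpFst L ω) L)) (FibCat.fpFst z y₀)) ≪≫
      (K735.Fib.whiskerRightIso k (BasedFunctor.comp L (FibCat.fpFst z y₀))) ≪≫
      (K743.Chart.overMapComp c (s ≫ h) : BasedFunctor.comp (overMap c) (overMap (s ≫ h)) ≅ _)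
  have e2 : d ≫ sD = c ≫ r ≫ h₀ := by
    apply K743.Locus.eq_of_overMap_iso
    exact (K743.Chart.overMapComp d sD).symm ≪≫ K735.Fib.whiskerLeftIso (overMap d) ω₂.symm ≪≫
      (K735.Fib.whiskerRightIso l.symm (BasedFunctor.comp ω (FibCat.fpSnd z y₀))) ≪≫
      (K735.Fib.whiskerRightIso (K735.Fib.whiskerLeftIso G (FibCat.fpIso L ω).symm) (FibCat.fpSnd z y₀) :
        BasedFunctor.comp (BasedFunctor.comp G (BasedFunctor.comp (FibCat.fpSnd L ω) ω)) (FibCat.fpSnd z y₀) ≅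
        BasedFunctor.comp (BasedFunctor.comp G (BasedFunctor.comp (FibCat.fpFst L ω) L)) (FibCat.fpSnd z y₀)) ≪≫
      (K735.Fib.whiskerRightIso k (BasedFunctor.comp L (FibCat.fpSnd z y₀))) ≪≫
      (K743.Chart.overMapComp c (r ≫ h₀) : BasedFunctor.comp (overMap c) (overMap (r ≫ h₀)) ≅ _)
  have hr' : Smooth r.left := hr
  have hs' : Smooth s.left := hs
  have hc' : Smooth c.left := hc
  have hsD' : Smooth sD.left := hsD
  have p1 : P (d.left ≫ sD.left) := by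
    rw [← Over.comp_left, e2, Over.comp_left, Over.comp_left]
    exact hP.comp _ _ (hP.smooth _ hc') (hP.comp _ _ (hP.smooth _ hr') hh₀)
  have p2 : P d.left := hP.cancel _ _ hsD' p1
  have p3 : P (c.left ≫ s.left ≫ h.left) := by
    rw [← Over.comp_left, ← Over.comp_left, ← e1, Over.comp_left]
    exact hP.comp _ _ p2 (hP.smooth _ hrD')
  exact hP.desc _ _ hs' hss (hP.desc _ _ hc' hcs p3)

end K750.SqCmp
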