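import Groth.Agent.AlgSt.K750.QuotPre
import Groth.Agent.AlgSt.K750.QuotAff

/-!
# Twisting an `S`-point of a stack by torsors under its automorphism group (helper750)

Let `𝒳` be a stack over `(Sch/S)`, `x` an object over `S` (with chosen pull-backs) and `G` a group scheme with a
right-to-left action `ρ` on `x` (`ρ (g h) = ρ h ≫ ρ g`).  For every `G`-torsor `A` there is the twisted form `y` of `x` by `A`, with
morphisms `θ p : x_V ⟶ y` for the points `p : V ⟶ A.P`; if `G` is the whole automorphism group then `A ↦ y` is a fully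
faithful functor `BG ⥤ᵇ 𝒳` over `(Sch/S)`.
-/

set_option autoImplicit false
set_option backward.isDefEq.respectTransparency false
set_option backward.isDefEq.respectTransparency.types false

universe v₂ u₂ u

open CategoryTheory CategoryTheory.Limits MonoidalCategory CartesianMonoidalCategory MonObj GrpObj AlgebraicGeometry
open AlgSt K750.TorsPts K750.Cone K751.FG

namespace K750.Twist

variable {S : Scheme.{u}} (G : Over S) [GrpObj G] (𝒳 : BasedCategory.{v₂, u₂} (Over S))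

/-- an object over `S` with chosen pull-backs and an action of `G` -/
structure Act where
  X : Over S → 𝒳.obj
  xm : ∀ {V' V : Over S} (_ : V' ⟶ V), X V' ⟶ X V
  xm_lift : ∀ {V' V : Over S} (f : V' ⟶ V), 𝒳.p.IsHomLift f (xm f)
  xm_id : ∀ V, xm (𝟙 V) = 𝟙 _
  xm_comp : ∀ {V'' V' V : Over S} (f : V'' ⟶ V') (g : V' ⟶ V), xm (f ≫ g) = xm f ≫ xm g
  ρ : ∀ {V : Over S} (_ : V ⟶ G), X V ⟶ X V
  ρ_lift : ∀ {V : Over S} (g : V ⟶ G), 𝒳.p.IsHomLift (𝟙 V) (ρ g)
  ρ_one : ∀ V : Over S, ρ (1 : V ⟶ G) = 𝟙 _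
  ρ_mul : ∀ {V : Over S} (g h : V ⟶ G), ρ (g * h) = ρ h ≫ ρ g
  ρ_nat : ∀ {V' V : Over S} (f : V' ⟶ V) (g : V ⟶ G), ρ (f ≫ g) ≫ xm f = xm f ≫ ρ g

variable {G 𝒳} (O : Act G 𝒳)

namespace Act

theorem ρ_inv {V : Over S} (g : V ⟶ G) : O.ρ g ≫ O.ρ g⁻¹ = 𝟙 _ := by
  rw [← O.ρ_mul, inv_mul_cancel, O.ρ_one]

theorem ρ_inv' {V : Over S} (g : V ⟶ G) : O.ρ g⁻¹ ≫ O.ρ g = 𝟙 _ := by
  rw [← O.ρ_mul, mul_inv_cancel, O.ρ_one]

instance isIso_ρ {V : Over S} (g : V ⟶ G) : IsIso (O.ρ g) := ⟨O.ρ g⁻¹, O.ρ_inv g, O.ρ_inv' g⟩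

/-- `G` is the whole automorphism group. -/
def IsFull : Prop := ∀ {V : Over S} (a : O.X V ⟶ O.X V), 𝒳.p.IsHomLift (𝟙 V) a → ∃! g : V ⟶ G, O.ρ g = a

end Act

section Torsor

variable {P B : Over S} (a : AlgGrp.Action G P) (π : P ⟶ B)

/-- a family of morphisms `x_V ⟶ y` over `p ≫ π ≫ f`, for the points `p : V ⟶ P` of a torsor, compatible with the action -/
structure Tw {T : Over S} (f : B ⟶ T) (y : 𝒳.obj) where
  θ : ∀ {V : Over S} (_ : V ⟶ P), O.X V ⟶ y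
  lift : ∀ {V : Over S} (p : V ⟶ P), 𝒳.p.IsHomLift (p ≫ π ≫ f) (θ p)
  comp : ∀ {V' V : Over S} (t : V' ⟶ V) (p : V ⟶ P), θ (t ≫ p) = O.xm t ≫ θ p
  act : ∀ {V : Over S} (g : V ⟶ G) (p : V ⟶ P), O.ρ g ≫ θ (K750.TorsPts.act a g p) = θ p

variable {a π}

/-- the sieve of the arrows which lift to the total space -/
def sv (π : P ⟶ B) : Sieve B where
  arrows := fun V t => ∃ p : V ⟶ P, p ≫ π = t
  downward_closed := by
    rintro V W t ⟨p, hp⟩ s
    exact ⟨s ≫ p, by rw [Category.assoc, hp]⟩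

/-- a section over an arrow of `sv π` -/
noncomputable def pt (o : (sv π).arrows.category) : o.obj.left ⟶ P := o.property.choose

theorem pt_π (o : (sv π).arrows.category) : pt o ≫ π = o.obj.hom := o.property.choose_spec

variable (hc : IsPullback a.act (snd G P) π π)

/-- the transition points of the group -/
noncomputable def tr {o o' : (sv π).arrows.category} (f : o ⟶ o') : o.obj.left ⟶ G :=
  dif a hc (pt o) (f.hom.left ≫ pt o') (by rw [Category.assoc, pt_π, pt_π, Over.w f.hom])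

theorem act_tr {o o' : (sv π).arrows.category} (f : o ⟶ o') :
    K750.TorsPts.act a (tr hc f) (pt o) = f.hom.left ≫ pt o' := act_dif a hc _ _ _

/-- the descent datum -/
noncomputable def descFun : Stk.sieveCat (sv π) ⥤ᵇ 𝒳 :=
  mkFunctor (fun o => O.X o.obj.left) (fun {o o'} f => O.ρ (tr hc f) ≫ O.xm f.hom.left)
    (fun {o o'} f => by
      have h1 := O.ρ_lift (tr hc f)
      have h2 := O.xm_lift f.hom.left
      exact IsHomLift.comp_lift_id_left 𝒳.p f.hom.left _ _)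
    (fun o => by
      have h1 : tr hc (𝟙 o) = 1 := by
        symm
        apply eq_dif a hc
        rw [act_one]
        exact (Category.id_comp _).symm
      rw [h1, O.ρ_one]
      exact (Category.id_comp _).trans (O.xm_id _))
    (fun {o o' o''} f g => by
      have h1 : tr hc (f ≫ g) = (f.hom.left ≫ tr hc g) * tr hc f := by
        symm
        apply eq_dif a hc
        rw [act_mul, act_tr, ← comp_act, act_tr]
        exact (Category.assoc _ _ _).symm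
      rw [h1, O.ρ_mul]
      have h2 : O.xm (f ≫ g).hom.left = O.xm f.hom.left ≫ O.xm g.hom.left := O.xm_comp _ _
      rw [h2, Category.assoc, Category.assoc, ← reassoc_of% (O.ρ_nat f.hom.left (tr hc g))])

variable {J : GrothendieckTopology (Over S)} (h𝒳 : Stk.IsStack J 𝒳) (hJ : sv π ∈ J B)

namespace Eff

variable {O hc}
variable (E : K751.Test.Eff (descFun O hc))

theorem nat' {o o' : (sv π).arrows.category} (f : o ⟶ o') :
    O.ρ (tr hc f) ≫ O.xm f.hom.left ≫ E.ι o' = E.ι o := by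
  rw [← E.nat f]
  exact (Category.assoc _ _ _).symm

/-- the object of the sieve of a point -/
abbrev ob {V : Over S} (p : V ⟶ P) : (sv π).arrows.category := ⟨Over.mk (p ≫ π), ⟨p, rfl⟩⟩

/-- the group element of a point -/
noncomputable def ge (hc : IsPullback a.act (snd G P) π π) {V : Over S} (p : V ⟶ P) : V ⟶ G :=
  dif a hc (pt (ob (π := π) p)) p (pt_π (ob p)).symm

theorem act_ge (hc : IsPullback a.act (snd G P) π π) {V : Over S} (p : V ⟶ P) :
    K750.TorsPts.act a (ge hc p) (pt (ob (π := π) p)) = p := act_dif a hc _ _ _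

/-- the morphism attached to a point -/
noncomputable def θ {V : Over S} (p : V ⟶ P) : O.X V ⟶ E.pt := O.ρ (ge hc p)⁻¹ ≫ E.ι (ob p)

theorem θ_lift {V : Over S} (p : V ⟶ P) : 𝒳.p.IsHomLift (p ≫ π) (θ E p) := by
  have h1 := O.ρ_lift (ge hc p)⁻¹
  have h2 : 𝒳.p.IsHomLift (p ≫ π) (E.ι (ob p)) := E.lift (ob p)
  exact IsHomLift.comp_lift_id_left 𝒳.p (p ≫ π) _ _

theorem θ_eq {V : Over S} (p : V ⟶ P) (o : (sv π).arrows.category) (s : V ⟶ o.obj.left) (g : V ⟶ G)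
    (h : K750.TorsPts.act a g (s ≫ pt o) = p) : θ E p = O.ρ g⁻¹ ≫ O.xm s ≫ E.ι o := by
  have hs : s ≫ o.obj.hom = p ≫ π := by
    rw [← h, act_comp_π a hc, Category.assoc, pt_π]
  let f : ob (π := π) p ⟶ o := homM s hs
  obtain ⟨k, hk⟩ : ∃ k : V ⟶ G, k = tr hc f := ⟨_, rfl⟩
  have hk' : K750.TorsPts.act a k (pt (ob (π := π) p)) = s ≫ pt o := by
    rw [hk]
    exact act_tr hc f
  have h1 : ge hc p = g * k := by
    symm
    apply eq_dif a hc
    rw [act_mul, hk', h]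
  rw [θ, h1, ← nat' E f, _root_.mul_inv_rev, O.ρ_mul, Category.assoc, ← hk]
  congr 1
  rw [← Category.assoc]
  erw [O.ρ_inv']
  exact Category.id_comp _

theorem θ_comp {V' V : Over S} (t : V' ⟶ V) (p : V ⟶ P) : θ E (t ≫ p) = O.xm t ≫ θ E p := by
  rw [θ_eq E (t ≫ p) (ob p) t (t ≫ ge hc p) (by rw [← comp_act, act_ge]), θ, ← comp_inv,
    ← Category.assoc, O.ρ_nat, Category.assoc]

theorem θ_act {V : Over S} (g : V ⟶ G) (p : V ⟶ P) : O.ρ g ≫ θ E (K750.TorsPts.act a g p) = θ E p := by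
  rw [θ_eq E _ (ob p) (𝟙 V) (g * ge hc p) (by
    rw [act_mul]
    congr 1
    rw [← act_ge hc p]
    congr 1
    · rw [act_ge]
    · rw [act_ge]; exact Category.id_comp _), _root_.mul_inv_rev, O.ρ_mul, O.xm_id, Category.assoc, ← Category.assoc,
    O.ρ_inv, Category.id_comp, Category.id_comp, θ]

/-- the trivializing family -/
noncomputable def tw : Tw O a π (𝟙 B) E.pt where
  θ p := θ E p
  lift p := by
    rw [Category.comp_id]
    exact θ_lift E p
  comp t p := θ_comp E t p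
  act g p := θ_act E g p

end Eff

include hc h𝒳 hJ in
/-- **Existence of the twisted form**, with its universal property. -/
theorem exists_tw : ∃ (y : 𝒳.obj) (_ : 𝒳.p.obj y = B) (τ : Tw O a π (𝟙 B) y),
    ∀ {T : Over S} (f : B ⟶ T) (y' : 𝒳.obj) (_ : 𝒳.p.obj y' = T) (τ' : Tw O a π f y'),
      ∃! m : y ⟶ y', 𝒳.p.IsHomLift f m ∧ ∀ {V : Over S} (p : V ⟶ P), τ.θ p ≫ m = τ'.θ p := by
  obtain ⟨E⟩ := K751.Test.exists_eff h𝒳 hJ (descFun O hc)
  refine ⟨E.pt, E.pt_obj, Eff.tw E, fun {T} f y' hy' τ' => ?_⟩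
  obtain ⟨m, ⟨hm1, hm2⟩, hm3⟩ := E.existsUnique_desc' (K751.Test.isPrestack_of_isStack h𝒳) hJ f hy'
    (fun o => τ'.θ (pt o)) (fun o => by
      have := τ'.lift (pt o)
      rwa [← Category.assoc, pt_π] at this) (fun {o o'} t => by
      change (O.ρ (tr hc t) ≫ O.xm t.hom.left) ≫ τ'.θ (pt o') = _
      rw [Category.assoc, ← τ'.comp, ← act_tr hc t, τ'.act])
  refine ⟨m, ⟨hm1, fun {V} p => ?_⟩, ?_⟩
  · change (O.ρ (Eff.ge hc p)⁻¹ ≫ E.ι (Eff.ob p)) ≫ m = τ'.θ p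
    rw [Category.assoc, hm2]
    have h1 := τ'.act (Eff.ge hc p) (pt (Eff.ob (π := π) p))
    rw [Eff.act_ge] at h1
    rw [← h1, ← Category.assoc]
    erw [O.ρ_inv']
    exact Category.id_comp _
  · rintro m' ⟨h1, h2⟩
    refine hm3 m' ⟨h1, fun o => ?_⟩
    have h3 : Eff.θ E (pt o) = E.ι o := by
      rw [Eff.θ_eq E (pt o) o (𝟙 _) 1 (by rw [act_one, Category.id_comp]), inv_one, O.ρ_one, O.xm_id]
      exact (Category.id_comp _).trans (Category.id_comp _)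
    rw [← h3]
    exact h2 (pt o)

section Pts

include J in
/-- morphisms out of `x_V` are determined locally -/
theorem hom_ext_X (h𝒳' : Stk.IsPrestack J 𝒳) {V : Over S} {R : Sieve V} (hR : R ∈ J V) {T : Over S} {f : V ⟶ T}
    {y : 𝒳.obj} {b b' : O.X V ⟶ y} (hb : 𝒳.p.IsHomLift f b) (hb' : 𝒳.p.IsHomLift f b')
    (h : ∀ {V' : Over S} (s : V' ⟶ V), R s → O.xm s ≫ b = O.xm s ≫ b') : b = b' := by
  have e : 𝒳.p.obj (O.X V) = V := IsHomLift.domain_eq 𝒳.p f b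
  apply (K751.Test.glueFrom_of_isPrestack h𝒳' (O.X V) (R.pullback (eqToHom e)) (J.pullback_stable _ hR)).ext
  · rw [IsHomLift.fac' 𝒳.p f b, IsHomLift.fac' 𝒳.p f b']
  · intro z c hcz
    have hs : R (𝒳.p.map c ≫ eqToHom e) := hcz
    have hc1 : 𝒳.p.IsHomLift (𝒳.p.map c ≫ eqToHom e) c := inferInstance
    obtain ⟨χ, hχ, hχ'⟩ := exists_factor h𝒳'.1 (𝟙 _) (Category.id_comp _) (O.xm (𝒳.p.map c ≫ eqToHom e)) c
      (O.xm_lift _) hc1
    rw [← hχ', Category.assoc, h _ hs, Category.assoc]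

variable {O}
variable {y : 𝒳.obj} (τ : Tw O a π (𝟙 B) y)

include h𝒳 hc in
theorem θ_inj (hO : O.IsFull) {V : Over S} {p p' : V ⟶ P} (h1 : p ≫ π = p' ≫ π) (h2 : τ.θ p = τ.θ p') : p = p' := by
  have h3 := act_dif a hc p p' h1.symm
  have h4 := τ.act (dif a hc p p' h1.symm) p
  rw [h3] at h4
  have h5 : O.ρ (dif a hc p p' h1.symm) = 𝟙 _ := by
    have e1 := O.ρ_lift (dif a hc p p' h1.symm)
    have e2 : 𝒳.p.IsHomLift (𝟙 V) (𝟙 (O.X V)) := by
      have := O.ρ_lift (1 : V ⟶ G)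
      rwa [O.ρ_one] at this
    refine cancel' h𝒳.1 (𝟙 V) (τ.θ p') e1 e2 ?_
    rw [h4, Category.id_comp, h2]
  have h6 : dif a hc p p' h1.symm = 1 := by
    obtain ⟨g, -, hg⟩ := hO (𝟙 (O.X V)) (by
      have := O.ρ_lift (1 : V ⟶ G)
      rwa [O.ρ_one] at this)
    rw [hg _ h5, hg 1 (O.ρ_one V)]
  rw [← h3, h6, act_one]

include h𝒳 hc in
theorem existsUnique_pt_of_pt (hO : O.IsFull) {V : Over S} {t : V ⟶ B} {b : O.X V ⟶ y} (hb : 𝒳.p.IsHomLift t b)
    (p₀ : V ⟶ P) (h₀ : p₀ ≫ π = t) : ∃! p : V ⟶ P, p ≫ π = t ∧ τ.θ p = b := by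
  have h1 := τ.lift p₀
  rw [Category.comp_id, h₀] at h1
  obtain ⟨χ, hχ, hχ'⟩ := exists_factor h𝒳.1 (𝟙 V) (Category.id_comp t) (τ.θ p₀) b h1 hb
  obtain ⟨g, hg, -⟩ := hO χ hχ
  refine ⟨K750.TorsPts.act a g⁻¹ p₀, ⟨by rw [act_comp_π a hc, h₀], ?_⟩, ?_⟩
  · rw [← hχ', ← hg, ← τ.act g⁻¹ p₀, ← Category.assoc, O.ρ_inv, Category.id_comp]
  · rintro p ⟨e1, e2⟩
    apply θ_inj hc h𝒳 τ hO
    · rw [act_comp_π a hc, e1, h₀]
    · rw [e2, ← hχ', ← hg, ← τ.act g⁻¹ p₀, ← Category.assoc, O.ρ_inv, Category.id_comp]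

include h𝒳 hc hJ in
/-- **The points of the torsor are the isomorphisms to the twisted form.** -/
theorem existsUnique_pt [J.Subcanonical] (hO : O.IsFull) {V : Over S} {t : V ⟶ B} {b : O.X V ⟶ y}
    (hb : 𝒳.p.IsHomLift t b) : ∃! p : V ⟶ P, p ≫ π = t ∧ τ.θ p = b := by
  have hxm : ∀ {V' : Over S} (s : V' ⟶ V), 𝒳.p.IsHomLift (s ≫ t) (O.xm s ≫ b) := fun s => by
    have := O.xm_lift s
    infer_instance
  have key : ∀ {V' : Over S} (s : V' ⟶ V), sv π (s ≫ t) → ∃! p : V' ⟶ P, p ≫ π = s ≫ t ∧ τ.θ p = O.xm s ≫ b := by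
    rintro V' s ⟨p₀, h₀⟩
    exact existsUnique_pt_of_pt hc h𝒳 τ hO (hxm s) p₀ h₀
  obtain ⟨n, hn, -⟩ := existsUnique_over (J := J) (Z := P) t hJ (fun {V'} s hs => (key s hs).choose) (by
    intro V' V'' s' s hs hss
    refine (key (s' ≫ s) hss).unique (key (s' ≫ s) hss).choose_spec.1 ⟨?_, ?_⟩
    · rw [Category.assoc, (key s hs).choose_spec.1.1, Category.assoc]
    · rw [τ.comp, (key s hs).choose_spec.1.2, O.xm_comp, Category.assoc])
  have h1 : n ≫ π = t := by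
    apply ext_over (J := J) t hJ
    intro V' s hs
    rw [← Category.assoc, hn s hs, (key s hs).choose_spec.1.1]
  have h2 : τ.θ n = b := by
    have h3 := τ.lift n
    rw [Category.comp_id, h1] at h3
    apply hom_ext_X O (K751.Test.isPrestack_of_isStack h𝒳) (R := (sv π).pullback t) (J.pullback_stable t hJ) h3 hb
    intro V' s hs
    rw [← τ.comp, hn s hs, (key s hs).choose_spec.1.2]
  refine ⟨n, ⟨h1, h2⟩, ?_⟩
  rintro p ⟨e1, e2⟩
  exact θ_inj hc h𝒳 τ hO (by rw [e1, h1]) (by rw [e2, h2])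

end Pts

end Torsor

section Loc

open K750.QuotAff

/-- the sieve of arrows with a section is covering -/
theorem sv_mem {K : Precoverage Scheme.{u}} {P B : Over S} {π : P ⟶ B}
    (hl : NonAbH1.IsLocallyTrivialFor K (Over.mk π.left : Over B.left)) : sv π ∈ QuotSh.J K S B := by
  obtain ⟨R₀, hR₀, hsec⟩ := hl
  have h1 : (Sieve.overEquiv B).symm (Sieve.generate R₀) ∈ QuotSh.J K S B := by
    rw [GrothendieckTopology.mem_over_iff, (Sieve.overEquiv B).apply_symm_apply]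
    exact Precoverage.generate_mem_toGrothendieck hR₀
  refine (QuotSh.J K S).superset_covering ?_ h1
  intro V t ht
  have ht' : Sieve.generate R₀ t.left := by rwa [Sieve.overEquiv_symm_iff] at ht
  exact exists_section_of_mem π R₀ hsec t ht'

end Loc

section Functor

variable {K : Precoverage Scheme.{u}} {X : Over S} {aX : AlgGrp.Action G X} (h𝒳 : Stk.IsStack (QuotSh.J K S) 𝒳)

/-- pull-back of a trivializing family along a morphism of torsors -/
def Tw.pre {O : Act G 𝒳} {A B : QuotObj K G aX} (h : A ⟶ B) {y : 𝒳.obj} (τ : Tw O B.act B.π (𝟙 B.base) y) :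
    Tw O A.act A.π h.base y where
  θ p := τ.θ (p ≫ h.top)
  lift p := by
    have h1 := τ.lift (p ≫ h.top)
    rw [Category.comp_id, Category.assoc, h.cart.w] at h1
    exact h1
  comp t p := by rw [Category.assoc, τ.comp]
  act g p := by rw [act_eqv A.act B.act h.top h.eqv, τ.act]

include h𝒳 in
theorem exists_tw' (A : QuotObj K G aX) : ∃ (y : 𝒳.obj) (_ : 𝒳.p.obj y = A.base) (τ : Tw O A.act A.π (𝟙 A.base) y),
    ∀ {T : Over S} (f : A.base ⟶ T) (y' : 𝒳.obj) (_ : 𝒳.p.obj y' = T) (τ' : Tw O A.act A.π f y'),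
      ∃! m : y ⟶ y', 𝒳.p.IsHomLift f m ∧ ∀ {V : Over S} (p : V ⟶ A.P), τ.θ p ≫ m = τ'.θ p :=
  exists_tw O A.cart h𝒳 (sv_mem A.loc)

/-- the twisted form of `x` by the torsor `A` -/
noncomputable def yo (A : QuotObj K G aX) : 𝒳.obj := (exists_tw' O h𝒳 A).choose

theorem yo_obj (A : QuotObj K G aX) : 𝒳.p.obj (yo O h𝒳 A) = A.base := (exists_tw' O h𝒳 A).choose_spec.choose

/-- the trivializing family of the twisted form -/
noncomputable def yτ (A : QuotObj K G aX) : Tw O A.act A.π (𝟙 A.base) (yo O h𝒳 A) :=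
  (exists_tw' O h𝒳 A).choose_spec.choose_spec.choose

theorem existsUnique_yo (A : QuotObj K G aX) {T : Over S} (f : A.base ⟶ T) (y' : 𝒳.obj) (hy : 𝒳.p.obj y' = T)
    (τ' : Tw O A.act A.π f y') : ∃! m : yo O h𝒳 A ⟶ y', 𝒳.p.IsHomLift f m ∧
      ∀ {V : Over S} (p : V ⟶ A.P), (yτ O h𝒳 A).θ p ≫ m = τ'.θ p :=
  (exists_tw' O h𝒳 A).choose_spec.choose_spec.choose_spec f y' hy τ'

/-- the morphism of twisted forms attached to a morphism of torsors -/
noncomputable def ym {A B : QuotObj K G aX} (h : A ⟶ B) : yo O h𝒳 A ⟶ yo O h𝒳 B :=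
  (existsUnique_yo O h𝒳 A h.base (yo O h𝒳 B) (yo_obj O h𝒳 B) ((yτ O h𝒳 B).pre h)).choose

theorem ym_lift {A B : QuotObj K G aX} (h : A ⟶ B) : 𝒳.p.IsHomLift h.base (ym O h𝒳 h) :=
  (existsUnique_yo O h𝒳 A h.base (yo O h𝒳 B) (yo_obj O h𝒳 B) ((yτ O h𝒳 B).pre h)).choose_spec.1.1

theorem θ_ym {A B : QuotObj K G aX} (h : A ⟶ B) {V : Over S} (p : V ⟶ A.P) :
    (yτ O h𝒳 A).θ p ≫ ym O h𝒳 h = (yτ O h𝒳 B).θ (p ≫ h.top) :=
  (existsUnique_yo O h𝒳 A h.base (yo O h𝒳 B) (yo_obj O h𝒳 B) ((yτ O h𝒳 B).pre h)).choose_spec.1.2 p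

theorem eq_ym {A B : QuotObj K G aX} (h : A ⟶ B) (m : yo O h𝒳 A ⟶ yo O h𝒳 B) (h1 : 𝒳.p.IsHomLift h.base m)
    (h2 : ∀ {V : Over S} (p : V ⟶ A.P), (yτ O h𝒳 A).θ p ≫ m = (yτ O h𝒳 B).θ (p ≫ h.top)) : m = ym O h𝒳 h :=
  (existsUnique_yo O h𝒳 A h.base (yo O h𝒳 B) (yo_obj O h𝒳 B) ((yτ O h𝒳 B).pre h)).choose_spec.2 m ⟨h1, h2⟩

/-- **The twisting functor** `[X/G] ⥤ᵇ 𝒳` (of interest for `BG`). -/
noncomputable def tFun : QuotSt K G aX ⥤ᵇ 𝒳 :=
  mkFunctor (fun A => yo O h𝒳 A) (fun h => ym O h𝒳 h) (fun h => ym_lift O h𝒳 h)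
    (fun A => by
      symm
      apply eq_ym O h𝒳
      · exact IsHomLift.id (yo_obj O h𝒳 A)
      · intro V p
        rw [Category.comp_id]
        exact congrArg _ (Category.comp_id p).symm)
    (fun {A B D} h k => by
      symm
      apply eq_ym O h𝒳
      · have h1 := ym_lift O h𝒳 h
        have h2 := ym_lift O h𝒳 k
        exact IsHomLift.comp 𝒳.p h.base k.base (ym O h𝒳 h) (ym O h𝒳 k)
      · intro V p
        rw [← Category.assoc, θ_ym, θ_ym, Category.assoc]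
        rfl)

variable {O}

/-- a morphism of twisted forms comes from a morphism of torsors -/
theorem exists_hom [(QuotSh.J K S).Subcanonical] (hO : O.IsFull) {A B : QuotObj K G aX}
    (hφ : ∀ (t : A.P ⟶ B.P), t ≫ B.φ = A.φ) (f : A.base ⟶ B.base)
    (m : yo O h𝒳 A ⟶ yo O h𝒳 B) (hm : 𝒳.p.IsHomLift f m) : ∃ h : A ⟶ B, h.base = f ∧ ym O h𝒳 h = m := by
  have hl : ∀ {V : Over S} (p : V ⟶ A.P), 𝒳.p.IsHomLift (p ≫ A.π ≫ f) ((yτ O h𝒳 A).θ p ≫ m) := fun p => by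
    have h1 := (yτ O h𝒳 A).lift p
    rw [Category.comp_id] at h1
    rw [← Category.assoc]
    infer_instance
  have key := fun {V : Over S} (t : V ⟶ B.base) (b : O.X V ⟶ yo O h𝒳 B) (hb : 𝒳.p.IsHomLift t b) =>
    existsUnique_pt B.cart h𝒳 (sv_mem B.loc) (yτ O h𝒳 B) hO hb
  obtain ⟨top, ⟨h1, h2⟩, -⟩ := key (A.π ≫ f) ((yτ O h𝒳 A).θ (𝟙 _) ≫ m) (by
    have := hl (𝟙 A.P)
    rwa [Category.id_comp] at this)
  have htop : ∀ {V : Over S} (p : V ⟶ A.P), (yτ O h𝒳 B).θ (p ≫ top) = (yτ O h𝒳 A).θ p ≫ m := by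
    intro V p
    rw [(yτ O h𝒳 B).comp, h2, ← Category.assoc, ← (yτ O h𝒳 A).comp, Category.comp_id]
  have hex : ∀ {V : Over S} (b : V ⟶ B.P) (t : V ⟶ A.base), b ≫ B.π = t ≫ f →
      ∃ a : V ⟶ A.P, a ≫ top = b ∧ a ≫ A.π = t := by
    intro V b t e
    have e1 := (yτ O h𝒳 B).lift b
    rw [Category.comp_id, e] at e1
    obtain ⟨a', ha', ha''⟩ := exists_factor h𝒳.1 t rfl m ((yτ O h𝒳 B).θ b) hm e1
    obtain ⟨a, ⟨e2, e3⟩, -⟩ := existsUnique_pt A.cart h𝒳 (sv_mem A.loc) (yτ O h𝒳 A) hO ha'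
    refine ⟨a, ?_, e2⟩
    apply θ_inj B.cart h𝒳 (yτ O h𝒳 B) hO
    · rw [Category.assoc, h1, ← Category.assoc, e2, e]
    · rw [htop, e3, ha'']
  have huniq : ∀ {V : Over S} (a a' : V ⟶ A.P), a ≫ top = a' ≫ top → a ≫ A.π = a' ≫ A.π → a = a' := by
    intro V a a' e1 e2
    apply θ_inj A.cart h𝒳 (yτ O h𝒳 A) hO e2
    have e3 := (yτ O h𝒳 A).lift a
    have e4 := (yτ O h𝒳 A).lift a'
    rw [Category.comp_id] at e3 e4
    rw [← e2] at e4
    refine cancel' h𝒳.1 (a ≫ A.π) m e3 e4 ?_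
    rw [← htop, ← htop, e1]
  let h : A ⟶ B :=
    { base := f
      top := top
      eqv := by
        apply eqv_of_act
        intro T g p
        apply θ_inj B.cart h𝒳 (yτ O h𝒳 B) hO
        · rw [act_comp_π B.act B.cart, Category.assoc, Category.assoc, h1, ← Category.assoc,
            act_comp_π A.act A.cart, Category.assoc]
        · have e1 := (yτ O h𝒳 B).act g (p ≫ top)
          have e2 := (yτ O h𝒳 A).act g p
          rw [htop] at e1
          rw [htop, ← cancel_epi (O.ρ g), e1, ← Category.assoc, e2]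
      cart := by
        refine ⟨⟨h1⟩, ⟨PullbackCone.IsLimit.mk h1 (fun s => (hex s.fst s.snd s.condition).choose) (fun s => ?_)
          (fun s => ?_) (fun s a e1 e2 => ?_)⟩⟩
        · exact (hex s.fst s.snd s.condition).choose_spec.1
        · exact (hex s.fst s.snd s.condition).choose_spec.2
        · apply huniq
          · rw [e1]
            exact (hex s.fst s.snd s.condition).choose_spec.1.symm
          · rw [e2]
            exact (hex s.fst s.snd s.condition).choose_spec.2.symm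
      wφ := hφ top }
  refine ⟨h, rfl, ?_⟩
  symm
  exact eq_ym O h𝒳 h m hm (fun p => (htop p).symm)

/-- the twisting functor on `BG` is full -/
theorem full_tFun [(QuotSh.J K S).Subcanonical] (hO : O.IsFull)
    (hφ : ∀ {A B : QuotObj K G aX} (t : A.P ⟶ B.P), t ≫ B.φ = A.φ) :
    (tFun O h𝒳 : QuotSt K G aX ⥤ᵇ 𝒳).toFunctor.Full where
  map_surjective {A B} m := by
    have h1 : 𝒳.p.IsHomLift (eqToHom (yo_obj O h𝒳 A).symm ≫ 𝒳.p.map m ≫ eqToHom (yo_obj O h𝒳 B)) m := by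
      infer_instance
    obtain ⟨h, -, hh⟩ := exists_hom h𝒳 hO hφ _ m h1
    exact ⟨h, hh⟩

/-- the twisting functor is faithful -/
theorem faithful_tFun (hO : O.IsFull) : (tFun O h𝒳 : QuotSt K G aX ⥤ᵇ 𝒳).toFunctor.Faithful where
  map_injective {A B} h h' e := by
    have e' : ym O h𝒳 h = ym O h𝒳 h' := e
    have hb : h.base = h'.base := by
      have h1 := ym_lift O h𝒳 h
      have h2 := ym_lift O h𝒳 h'
      rw [← e'] at h2
      have e1 := IsHomLift.fac 𝒳.p h.base (ym O h𝒳 h)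
      have e2 := IsHomLift.fac 𝒳.p h'.base (ym O h𝒳 h)
      rw [e1, e2]
    apply QuotObj.hom_ext hb
    have h3 := θ_ym O h𝒳 h (𝟙 _)
    have h4 := θ_ym O h𝒳 h' (𝟙 _)
    rw [Category.id_comp] at h3 h4
    apply θ_inj B.cart h𝒳 (yτ O h𝒳 B) hO
    · rw [h.cart.w, h'.cart.w, hb]
    · rw [← h3, ← h4, e']

end Functor

end K750.Twist
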