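import Groth.Agent.AlgSt.K750.UnramSp
import Groth.Agent.AlgSt.K738.LftDiag

/-!
# Unramified base changes and tangent vectors: elementwise form (helper750)
-/

set_option autoImplicit false
set_option backward.isDefEq.respectTransparency false
set_option backward.isDefEq.respectTransparency.types false

universe u

open CategoryTheory CategoryTheory.Limits AlgebraicGeometry AlgSp Opposite K739.Rep

namespace K750.Unram

variable {S : Scheme.{u}}

theorem secEquiv_comp {F G : Sp S} {T : Over S} (a : (yon S).obj T ⟶ F) (π : F ⟶ G) :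
    (J S).uliftYonedaEquiv.{u + 1} (a ≫ π) = π.hom.app (op T) ((J S).uliftYonedaEquiv.{u + 1} a) := by
  rfl

theorem repPsh_eq_of_unram {U : Over S} {G : AlgSp.PSp S} {q : G ⟶ (AlgSp.pyon S).obj U}
    (h : RepPsh (LocP (@LocallyOfFiniteType ⊓ @FormallyUnramified)) q) {T T₀ : Over S} (j : T₀ ⟶ T)
    (hj : Surjective j.left) (s s' : G.obj (op T)) (h1 : q.app (op T) s = q.app (op T) s')
    (h2 : G.map j.op s = G.map j.op s') : s = s' := by
  obtain ⟨F, α, hP⟩ := h
  have key : α.inv.app (op T) s = α.inv.app (op T) s' := by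
    have e := eq_of_unram F.property (IsAlgSpace.yon_obj U) hP ((J S).uliftYonedaEquiv.symm (α.inv.app (op T) s))
      ((J S).uliftYonedaEquiv.symm (α.inv.app (op T) s')) (by
        apply (J S).uliftYonedaEquiv.injective
        rw [secEquiv_comp, secEquiv_comp, Equiv.apply_symm_apply, Equiv.apply_symm_apply]
        have e1 : ∀ z : G.obj (op T), (α.hom ≫ q).app (op T) (α.inv.app (op T) z) = q.app (op T) z := by
          intro z
          rw [NatTrans.comp_app, types_comp_apply]
          congr 1
          exact congrArg (fun (k : G ⟶ G) => k.app (op T) z) α.inv_hom_id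
        exact (e1 s).trans (h1.trans (e1 s').symm)) j hj (by
        rw [K738.yonEquiv_symm_comp_map, K738.yonEquiv_symm_comp_map]
        congr 1
        have n : ∀ z : G.obj (op T), F.obj.obj.map j.op (α.inv.app (op T) z) = α.inv.app (op T₀) (G.map j.op z) :=
          fun z => (congrArg (fun k => k z) (α.inv.naturality j.op)).symm
        rw [n, n, h2])
    exact (J S).uliftYonedaEquiv.symm.injective e
  have e2 : ∀ z : G.obj (op T), α.hom.app (op T) (α.inv.app (op T) z) = z :=
    fun z => congrArg (fun (k : G ⟶ G) => k.app (op T) z) α.inv_hom_id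
  rw [← e2 s, ← e2 s', key]

theorem repPsh_unram_of_dual {U : Over S} {G : AlgSp.PSp S} {q : G ⟶ (AlgSp.pyon S).obj U}
    (h : RepPsh (LocP @LocallyOfFiniteType) q)
    (H : ∀ (κ : Type u) [Field κ] (s : Spec (.of (DualNumber κ)) ⟶ S) (a b : G.obj (op (Over.mk s))),
      q.app _ a = q.app _ b → G.map (Over.homMk (incl κ) rfl : Over.mk (incl κ ≫ s) ⟶ Over.mk s).op a =
        G.map (Over.homMk (incl κ) rfl : Over.mk (incl κ ≫ s) ⟶ Over.mk s).op b → a = b) :
    RepPsh (LocP (@LocallyOfFiniteType ⊓ @FormallyUnramified)) q := by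
  obtain ⟨F, α, hP⟩ := h
  refine ⟨F, α, unram_of_dual F.property hP ?_⟩
  intro κ _ s a b hab hjab
  have e2 : ∀ {T : Over S} (z : F.obj.obj.obj (op T)), α.inv.app (op T) (α.hom.app (op T) z) = z :=
    fun {T} z => congrArg (fun (k : F.obj.obj ⟶ F.obj.obj) => k.app (op T) z) α.hom_inv_id
  apply (J S).uliftYonedaEquiv.injective
  have key := H κ s (α.hom.app _ ((J S).uliftYonedaEquiv a)) (α.hom.app _ ((J S).uliftYonedaEquiv b)) (by
      have := congrArg ((J S).uliftYonedaEquiv) hab
      rw [secEquiv_comp, secEquiv_comp] at this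
      exact this) (by
      have n : ∀ z : F.obj.obj.obj (op (Over.mk s)), G.map (Over.homMk (incl κ) rfl : Over.mk (incl κ ≫ s) ⟶ Over.mk s).op
          (α.hom.app _ z) = α.hom.app _ (F.obj.obj.map (Over.homMk (incl κ) rfl : Over.mk (incl κ ≫ s) ⟶ Over.mk s).op z) :=
        fun z => (congrArg (fun (k : F.obj.obj.obj (op (Over.mk s)) ⟶ G.obj (op (Over.mk (incl κ ≫ s)))) => k z)
          (α.hom.naturality (Over.homMk (incl κ) rfl : Over.mk (incl κ ≫ s) ⟶ Over.mk s).op)).symm
      rw [n, n]
      congr 1
      have := hjab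
      rw [← (J S).uliftYonedaEquiv.symm_apply_apply a, ← (J S).uliftYonedaEquiv.symm_apply_apply b,
        K738.yonEquiv_symm_comp_map, K738.yonEquiv_symm_comp_map] at this
      exact (J S).uliftYonedaEquiv.symm.injective this)
  have := congrArg (α.inv.app _) key
  rwa [e2, e2] at this

end K750.Unram
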