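import Mathlib.RingTheory.DualNumber
import Mathlib.RingTheory.Kaehler.Basic
import Mathlib.RingTheory.LocalRing.Module
import Mathlib.RingTheory.Unramified.Basic
import Mathlib.LinearAlgebra.Dual.Lemmas
import Mathlib.AlgebraicGeometry.Morphisms.FormallyUnramified
import Mathlib.AlgebraicGeometry.Morphisms.FiniteType

/-!
# Unramified morphisms and tangent vectors with values in fields (helper750)

A morphism locally of finite type is unramified iff two morphisms from `Spec κ[ε]`, `κ` a field, which agree on `Spec κ` and after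
composition with it agree.
-/

set_option autoImplicit false
set_option backward.isDefEq.respectTransparency false
set_option backward.isDefEq.respectTransparency.types false

universe u

open CategoryTheory CategoryTheory.Limits AlgebraicGeometry

namespace K750.Unram

section Ring

open TensorProduct TrivSqZeroExt

theorem exists_functional {B M : Type u} [CommRing B] [AddCommGroup M] [Module B M] [Module.Finite B M] [Nontrivial M] :
    ∃ (κ : Type u) (_ : Field κ) (_ : Algebra B κ) (l : M →ₗ[B] κ), l ≠ 0 := by
  obtain ⟨p, hp⟩ : (Module.support B M).Nonempty := Module.nonempty_support_of_nontrivial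
  have h1 : Nontrivial (p.asIdeal.ResidueField ⊗[B] M) := by
    have := hp
    rw [Module.mem_support_iff_nontrivial_residueField_tensorProduct] at this
    exact this
  obtain ⟨v, hv⟩ := exists_ne (0 : p.asIdeal.ResidueField ⊗[B] M)
  obtain ⟨l, hl⟩ : ∃ l : Module.Dual p.asIdeal.ResidueField (p.asIdeal.ResidueField ⊗[B] M), l v ≠ 0 := by
    by_contra h
    push Not at h
    exact hv ((Module.forall_dual_apply_eq_zero_iff _ v).mp h)
  refine ⟨p.asIdeal.ResidueField, inferInstance, inferInstance,
    (l.restrictScalars B).comp (TensorProduct.mk B p.asIdeal.ResidueField M 1), ?_⟩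
  intro h0
  apply hl
  have h2 : ∀ m : M, l (1 ⊗ₜ[B] m) = 0 := fun m => by
    simpa using LinearMap.congr_fun h0 m
  induction v using TensorProduct.induction_on with
  | zero => simp at hv
  | tmul a m =>
    have : a ⊗ₜ[B] m = a • ((1 : p.asIdeal.ResidueField) ⊗ₜ[B] m) := by
      rw [TensorProduct.smul_tmul', smul_eq_mul, mul_one]
    rw [this, map_smul, h2, smul_zero]
  | add a b ha hb =>
    have hz : l = 0 := by
      apply LinearMap.ext
      intro w
      induction w using TensorProduct.induction_on with
      | zero => simp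
      | tmul a m =>
        have : a ⊗ₜ[B] m = a • ((1 : p.asIdeal.ResidueField) ⊗ₜ[B] m) := by
          rw [TensorProduct.smul_tmul', smul_eq_mul, mul_one]
        rw [this, map_smul, h2, smul_zero]; rfl
      | add a b ha hb => rw [map_add, ha, hb]; simp
    rw [hz]; rfl

theorem formallyUnramified_of_forall {R B : Type u} [CommRing R] [CommRing B] [Algebra R B] [Algebra.FiniteType R B]
    (H : ∀ (κ : Type u) [Field κ] (g₁ g₂ : B →+* DualNumber κ),
      g₁.comp (algebraMap R B) = g₂.comp (algebraMap R B) → (∀ b, fst (g₁ b) = fst (g₂ b)) → g₁ = g₂) :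
    Algebra.FormallyUnramified R B := by
  by_contra hn
  have hn' : Nontrivial (Ω[B⁄R]) := by
    by_contra h
    exact hn ⟨not_nontrivial_iff_subsingleton.mp h⟩
  obtain ⟨κ, _, _, l, hl⟩ := exists_functional (B := B) (M := Ω[B⁄R])
  let D : B → κ := fun b => l (KaehlerDifferential.D R B b)
  have hD1 : D 1 = 0 := by simp [D]
  have hDm : ∀ a b, D (a * b) = algebraMap B κ a * D b + algebraMap B κ b * D a := by
    intro a b
    simp only [D, Derivation.leibniz, map_add, map_smul, Algebra.smul_def]
  have hDa : ∀ a b, D (a + b) = D a + D b := by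
    intro a b
    simp only [D, map_add]
  have hDR : ∀ r, D (algebraMap R B r) = 0 := by
    intro r
    simp [D]
  let g₁ : B →+* DualNumber κ := (TrivSqZeroExt.inlHom κ κ).comp (algebraMap B κ)
  let g₂ : B →+* DualNumber κ :=
    { toFun := fun b => inl (algebraMap B κ b) + inr (D b)
      map_one' := by simp [hD1]
      map_mul' := by
        intro a b
        apply TrivSqZeroExt.ext
        · simp
        · simp [hDm, mul_comm]
      map_zero' := by
        have : D 0 = 0 := by simp [D]
        simp [this]
      map_add' := by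
        intro a b
        simp only [map_add, hDa, inl_add, inr_add]
        abel }
  have h12 : g₁ = g₂ := by
    apply H
    · ext r
      · simp [g₁, g₂]
      · simp [g₁, g₂, hDR]
    · intro b
      simp [g₁, g₂]
  have hDz : ∀ b, D b = 0 := by
    intro b
    have := congrArg (fun g : B →+* DualNumber κ => snd (g b)) h12
    simpa [g₁, g₂] using this.symm
  apply hl
  apply LinearMap.ext
  intro w
  have hw : w ∈ Submodule.span B (Set.range (KaehlerDifferential.D R B)) := by
    rw [KaehlerDifferential.span_range_derivation]; trivial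
  induction hw using Submodule.span_induction with
  | mem x hx =>
    obtain ⟨b, rfl⟩ := hx
    exact hDz b
  | zero => simp
  | add x y _ _ hx hy => rw [map_add, hx, hy]; simp
  | smul a x _ hx => rw [map_smul, hx]; simp

end Ring

/-- **A morphism locally of finite type is unramified as soon as tangent vectors with values in fields are determined by their images.** -/
theorem formallyUnramified_of_dual {X Y : Scheme.{u}} (f : X ⟶ Y) [LocallyOfFiniteType f]
    (H : ∀ (κ : Type u) [Field κ] (g₁ g₂ : Spec (.of (DualNumber κ)) ⟶ X),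
      Spec.map (CommRingCat.ofHom (TrivSqZeroExt.fstHom κ κ κ).toRingHom) ≫ g₁ =
        Spec.map (CommRingCat.ofHom (TrivSqZeroExt.fstHom κ κ κ).toRingHom) ≫ g₂ → g₁ ≫ f = g₂ ≫ f → g₁ = g₂) :
    FormallyUnramified f := by
  refine ⟨fun {U hU V hV hVU} ↦ ?_⟩
  let := (f.appLE U V hVU).hom.toAlgebra
  have hft : (f.appLE U V hVU).hom.FiniteType := f.finiteType_appLE hU hV hVU
  have : Algebra.FiniteType Γ(Y, U) Γ(X, V) := hft
  refine formallyUnramified_of_forall (R := Γ(Y, U)) (B := Γ(X, V)) fun κ _ g₁ g₂ hR hf => ?_
  have hg : f.appLE U V hVU ≫ CommRingCat.ofHom g₁ = f.appLE U V hVU ≫ CommRingCat.ofHom g₂ :=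
    CommRingCat.hom_ext hR
  have := H κ (Spec.map (CommRingCat.ofHom g₁) ≫ hV.fromSpec) (Spec.map (CommRingCat.ofHom g₂) ≫ hV.fromSpec)
    (by
      rw [← Spec.map_comp_assoc, ← Spec.map_comp_assoc, ← CommRingCat.ofHom_comp, ← CommRingCat.ofHom_comp]
      congr 3
      exact RingHom.ext hf)
    (by simp only [Category.assoc, ← hU.SpecMap_appLE_fromSpec f hV hVU, ← Spec.map_comp_assoc, *])
  rw [cancel_mono, Spec.map_inj] at this
  exact congr($(this).hom)

/-- The dual numbers over a field are Artinian. -/
instance isArtinianRing_dual (κ : Type u) [Field κ] : IsArtinianRing (DualNumber κ) := by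
  have : Module.Finite κ (DualNumber κ) := by
    change Module.Finite κ (κ × κ)
    infer_instance
  exact IsArtinianRing.of_finite κ _

theorem surjective_fst (κ : Type u) [Field κ] : Function.Surjective (TrivSqZeroExt.fstHom κ κ κ).toRingHom := by
  intro a
  exact ⟨TrivSqZeroExt.inl a, rfl⟩

/-- The kernel of `κ[ε] → κ` is a simple module. -/
instance isSimple_ker (κ : Type u) [Field κ] :
    IsSimpleModule (DualNumber κ) (RingHom.ker (TrivSqZeroExt.fstHom κ κ κ).toRingHom) := by
  have hn : Nontrivial (RingHom.ker (TrivSqZeroExt.fstHom κ κ κ).toRingHom) := by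
    refine ⟨⟨⟨DualNumber.eps, by simp [RingHom.mem_ker]⟩, 0, ?_⟩⟩
    intro h
    have := congrArg (fun x : RingHom.ker (TrivSqZeroExt.fstHom κ κ κ).toRingHom => TrivSqZeroExt.snd x.1) h
    simp at this
  rw [isSimpleModule_iff_toSpanSingleton_surjective]
  refine ⟨hn, ?_⟩
  rintro ⟨x, hx⟩ hx0 ⟨y, hy⟩
  have hx1 : TrivSqZeroExt.fst x = 0 := hx
  have hy1 : TrivSqZeroExt.fst y = 0 := hy
  have hx2 : TrivSqZeroExt.snd x ≠ 0 := by
    intro h
    apply hx0
    apply Subtype.ext
    exact TrivSqZeroExt.ext hx1 h
  refine ⟨TrivSqZeroExt.inl (TrivSqZeroExt.snd y * (TrivSqZeroExt.snd x)⁻¹), ?_⟩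
  apply Subtype.ext
  apply TrivSqZeroExt.ext
  · simp [LinearMap.toSpanSingleton_apply, hx1, hy1]
  · simp [LinearMap.toSpanSingleton_apply, hx2]

end K750.Unram
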