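import Groth.Agent.AlgSt.K750.UnramRing
import Groth.Agent.S10262
import Groth.Agent.AlgSp.K597.LocP

/-!
# Unramified morphisms of algebraic spaces and tangent vectors (helper750)

* `eq_of_unram` : two `T`-points which agree after an unramified morphism and after a surjective morphism to `T` agree;
* `unram_of_dual` : the converse, with `T` the spectrum of the dual numbers of a field.
-/

set_option autoImplicit false
set_option backward.isDefEq.respectTransparency false
set_option backward.isDefEq.respectTransparency.types false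

universe u

open CategoryTheory CategoryTheory.Limits AlgebraicGeometry AlgSp

namespace K750.Unram

variable {S : Scheme.{u}}

theorem eq_of_unram {X Y : AlgSp.Sp S} (hX : IsAlgSpace X) (hY : IsAlgSpace Y) {f : X ⟶ Y}
    (hf : LocP (@LocallyOfFiniteType ⊓ @FormallyUnramified) f) {T T₀ : Over S} (a b : (yon S).obj T ⟶ X)
    (hab : a ≫ f = b ≫ f) (j : T₀ ⟶ T) (hj : Surjective j.left) (hjab : (yon S).map j ≫ a = (yon S).map j ≫ b) : a = b := by
  have h1 : RepWith @IsOpenImmersion (pullback.diagonal f) :=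
    (Groth.Agent.S10262.result (X := ⟨X, hX⟩) (Y := ⟨Y, hY⟩) (ObjectProperty.homMk f)).1 hf
  obtain ⟨E, e, he, hoe⟩ := (K613.Diag.repWith_diagonal_iff @IsOpenImmersion f).1 h1 T a b hab
  obtain ⟨j', hj', -⟩ := he.lift T₀ j hjab
  have h2 : Surjective e.left := by
    have : Surjective (j'.left ≫ e.left) := by
      rw [← Over.comp_left, hj']; exact hj
    exact Surjective.of_comp j'.left e.left
  have h3 : IsIso e.left := by
    have := hoe
    have : Epi e.left.base := (TopCat.epi_iff_surjective _).2 h2.surj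
    exact IsOpenImmersion.isIso e.left
  have h4 : IsIso e := by
    have : IsIso ((Over.forget S).map e) := h3
    exact isIso_of_reflects_iso e (Over.forget S)
  have h5 := he.w
  rwa [cancel_epi] at h5

theorem unram_of_etale {X Y : AlgSp.Sp S} {f : X ⟶ Y} (hf : RepWith @Etale f) :
    LocP (@LocallyOfFiniteType ⊓ @FormallyUnramified) f := by
  refine K597.locP_mono ?_ (K597.locP_of_repWith (fun _ _ _ e f he hf => ?_) hf)
  · intro A B f hf
    have : Etale f := hf
    exact ⟨(inferInstance : LocallyOfFiniteType f), (inferInstance : FormallyUnramified f)⟩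
  · have : Etale f := hf
    exact (inferInstance : Etale (e ≫ f))

/-- The morphism `Spec κ ⟶ Spec κ[ε]`. -/
noncomputable abbrev incl (κ : Type u) [Field κ] : Spec (.of κ) ⟶ Spec (.of (DualNumber κ)) :=
  Spec.map (CommRingCat.ofHom (TrivSqZeroExt.fstHom κ κ κ).toRingHom)

instance subsingleton_spec (A : Type u) [CommRing A] [IsArtinianRing A] [IsLocalRing A] : Subsingleton (PrimeSpectrum A) := by
  refine ⟨fun p q => ?_⟩
  apply PrimeSpectrum.ext
  rw [IsLocalRing.eq_maximalIdeal (IsArtinianRing.isMaximal_of_isPrime p.asIdeal),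
    IsLocalRing.eq_maximalIdeal (IsArtinianRing.isMaximal_of_isPrime q.asIdeal)]

theorem surjective_specMap {A A₀ : Type u} [CommRing A] [IsArtinianRing A] [IsLocalRing A] [CommRing A₀] [Nontrivial A₀]
    (φ : A →+* A₀) : Surjective (Spec.map (CommRingCat.ofHom φ)) := by
  refine ⟨fun x => ?_⟩
  obtain ⟨y⟩ : Nonempty (PrimeSpectrum A₀) := inferInstance
  exact ⟨y, Subsingleton.elim (α := PrimeSpectrum A) _ _⟩

theorem unram_of_dual {F : AlgSp.Sp S} {U : Over S} {π : F ⟶ (yon S).obj U} (hF : IsAlgSpace F)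
    (hlft : LocP @LocallyOfFiniteType π)
    (H : ∀ (κ : Type u) [Field κ] (s : Spec (.of (DualNumber κ)) ⟶ S) (a b : (yon S).obj (Over.mk s) ⟶ F),
      a ≫ π = b ≫ π → (yon S).map (Over.homMk (incl κ) rfl : Over.mk (incl κ ≫ s) ⟶ Over.mk s) ≫ a =
        (yon S).map (Over.homMk (incl κ) rfl : Over.mk (incl κ ≫ s) ⟶ Over.mk s) ≫ b → a = b) :
    LocP (@LocallyOfFiniteType ⊓ @FormallyUnramified) π := by
  intro U' V' a b h ha hb w
  have h1 : LocallyOfFiniteType h.left := hlft a b h ha hb w
  refine ⟨h1, ?_⟩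
  apply formallyUnramified_of_dual
  intro κ _ g₁ g₂ hg hgh
  have hs : g₂ ≫ U'.hom = g₁ ≫ U'.hom := by
    rw [← Over.w h, ← Category.assoc, ← Category.assoc, hgh]
  let G₁ : Over.mk (g₁ ≫ U'.hom) ⟶ U' := Over.homMk g₁ rfl
  let G₂ : Over.mk (g₁ ≫ U'.hom) ⟶ U' := Over.homMk g₂ hs
  have hG : G₁ ≫ h = G₂ ≫ h := by
    apply Over.OverMorphism.ext
    exact hgh
  let j : Over.mk (incl κ ≫ (g₁ ≫ U'.hom)) ⟶ Over.mk (g₁ ≫ U'.hom) := Over.homMk (incl κ) rfl
  have hjG : j ≫ G₁ = j ≫ G₂ := by
    apply Over.OverMorphism.ext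
    exact hg
  have h2 : (yon S).map G₁ ≫ a = (yon S).map G₂ ≫ a := by
    apply H κ
    · rw [Category.assoc, Category.assoc, w, ← Category.assoc, ← Category.assoc, ← Functor.map_comp, hG, Functor.map_comp]
    · change (yon S).map j ≫ _ = (yon S).map j ≫ _
      have e1 : (yon S).map j ≫ (yon S).map G₁ = (yon S).map j ≫ (yon S).map G₂ := by
        rw [← Functor.map_comp, hjG, Functor.map_comp]
      exact (Category.assoc _ _ _).symm.trans ((congrArg (fun z => z ≫ a) e1).trans (Category.assoc _ _ _))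
  have h3 := eq_of_unram (IsAlgSpace.yon_obj U') hF (unram_of_etale ha) _ _ h2 j (surjective_specMap _) (by
    rw [← Functor.map_comp, hjG, Functor.map_comp])
  have h4 : G₁ = G₂ := (yon S).map_injective h3
  exact congrArg CommaMorphism.left h4

end K750.Unram
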